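import Mathlib
import Cfsg.Agent.Lib.Helper67.ClassSize

set_option autoImplicit false
set_option linter.unusedSectionVars false
set_option linter.style.haveILetI false

namespace Cfsg.Agent.Helper79.Cop

universe u

open scoped Pointwise

section Fusion

variable {G : Type u} [Group G] [Finite G] {p : ℕ} [hp : Fact p.Prime]

/-- Burnside's fusion lemma: elements of the centralizer of a Sylow subgroup that are conjugate
in `G` are conjugate in the normalizer of the Sylow subgroup. -/
theorem burnside_fusion (P : Sylow p G) {x y g : G}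
    (hx : x ∈ Subgroup.centralizer ((P : Subgroup G) : Set G))
    (hy : y ∈ Subgroup.centralizer ((P : Subgroup G) : Set G)) (h : g * x * g⁻¹ = y) :
    ∃ n ∈ Subgroup.normalizer ((P : Subgroup G) : Set G), n * x * n⁻¹ = y := by
  set Cy : Subgroup G := Subgroup.centralizer {y} with hCy
  have hPC : (P : Subgroup G) ≤ Cy := by
    intro a ha
    rw [hCy, Subgroup.mem_centralizer_singleton_iff]
    exact ((Subgroup.mem_centralizer_iff.mp hy) a ha)
  have hQC : ((g • P : Sylow p G) : Subgroup G) ≤ Cy := by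
    intro b hb
    have hb' : b ∈ MulAut.conj g • (P : Subgroup G) := by
      rw [← Sylow.coe_subgroup_smul]; exact hb
    rw [Subgroup.mem_smul_pointwise_iff_exists] at hb'
    obtain ⟨a, ha, rfl⟩ := hb'
    rw [hCy, Subgroup.mem_centralizer_singleton_iff, MulAut.smul_def, MulAut.conj_apply, ← h]
    have hax : a * x = x * a := (Subgroup.mem_centralizer_iff.mp hx) a ha
    calc g * a * g⁻¹ * (g * x * g⁻¹) = g * (a * x) * g⁻¹ := by group
      _ = g * (x * a) * g⁻¹ := by rw [hax]
      _ = g * x * g⁻¹ * (g * a * g⁻¹) := by group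
  obtain ⟨c, hc⟩ := MulAction.exists_smul_eq Cy ((g • P).subtype hQC) (P.subtype hPC)
  rw [Sylow.smul_subtype] at hc
  have hc' : c • (g • P) = P := Sylow.subtype_injective hc
  refine ⟨(c : G) * g, ?_, ?_⟩
  · apply Sylow.smul_eq_iff_mem_normalizer.mp
    rw [mul_smul]
    exact hc'
  · have hcy : (c : G) * y = y * (c : G) := by
      have hc2 : (c : G) ∈ Subgroup.centralizer ({y} : Set G) := c.2
      exact Subgroup.mem_centralizer_singleton_iff.mp hc2
    calc (c : G) * g * x * ((c : G) * g)⁻¹ = (c : G) * (g * x * g⁻¹) * (c : G)⁻¹ := by group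
      _ = (c : G) * y * (c : G)⁻¹ := by rw [h]
      _ = y := by rw [hcy, mul_inv_cancel_right]

/-- If the normalizer of a Sylow `p`-subgroup `P` centralizes `P`, the classes of `G` of size
prime to `p` correspond to the classes of the normalizer. -/
theorem card_classes_not_dvd (P : Sylow p G)
    (hNC : Subgroup.normalizer ((P : Subgroup G) : Set G) ≤
      Subgroup.centralizer ((P : Subgroup G) : Set G)) :
    Nat.card {C : ConjClasses G // ¬ p ∣ Nat.card C.carrier} =
      Nat.card (ConjClasses (Subgroup.normalizer ((P : Subgroup G) : Set G))) := by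
  classical
  set M : Subgroup G := Subgroup.normalizer ((P : Subgroup G) : Set G) with hM
  have hsize : ∀ g : G, Nat.card (ConjClasses.mk g).carrier =
      (Subgroup.centralizer ({g} : Set G)).index := by
    intro g
    rw [Nat.card_coe_set_eq]
    exact Cfsg.Agent.Helper67.ncard_carrier_eq_index g
  have hPidx : ¬ p ∣ (P : Subgroup G).index := P.not_dvd_index
  have hwd : ∀ m : M, ¬ p ∣ Nat.card (ConjClasses.mk (m : G)).carrier := by
    intro m
    rw [hsize]
    have hle : (P : Subgroup G) ≤ Subgroup.centralizer ({(m : G)} : Set G) := by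
      intro a ha
      rw [Subgroup.mem_centralizer_singleton_iff]
      exact ((Subgroup.mem_centralizer_iff.mp (hNC m.2)) a ha)
    intro hdvd
    exact hPidx (hdvd.trans (Subgroup.index_dvd_of_le hle))
  let Ψ : ConjClasses M → {C : ConjClasses G // ¬ p ∣ Nat.card C.carrier} := fun κ =>
    ⟨ConjClasses.map M.subtype κ, by
      obtain ⟨m, rfl⟩ := ConjClasses.exists_rep κ
      exact hwd m⟩
  symm
  apply Nat.card_congr
  refine Equiv.ofBijective Ψ ⟨?_, ?_⟩
  · intro κ κ' hκ
    obtain ⟨m, rfl⟩ := ConjClasses.exists_rep κ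
    obtain ⟨m', rfl⟩ := ConjClasses.exists_rep κ'
    have h1 : ConjClasses.mk (m : G) = ConjClasses.mk (m' : G) := congrArg Subtype.val hκ
    rw [ConjClasses.mk_eq_mk_iff_isConj, isConj_iff] at h1 ⊢
    obtain ⟨g, hg⟩ := h1
    obtain ⟨n, hn, hnm⟩ := burnside_fusion P (hNC m.2) (hNC m'.2) hg
    exact ⟨⟨n, hn⟩, Subtype.ext hnm⟩
  · rintro ⟨C, hC⟩
    obtain ⟨g, rfl⟩ := ConjClasses.exists_rep C
    rw [hsize] at hC
    set Cg : Subgroup G := Subgroup.centralizer ({g} : Set G) with hCg
    -- a Sylow subgroup of the centralizer is a Sylow subgroup of `G`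
    set v := (Nat.card G).factorization p with hv
    have hdvd : p ^ v ∣ Nat.card Cg := by
      have h1 : p ^ v ∣ Nat.card G := Nat.ordProj_dvd (Nat.card G) p
      have h2 : Nat.card Cg * Cg.index = Nat.card G := Subgroup.card_mul_index Cg
      rw [← h2] at h1
      exact (Nat.Coprime.pow_left v ((Nat.Prime.coprime_iff_not_dvd hp.out).mpr hC)).dvd_of_dvd_mul_right h1
    obtain ⟨Q₀, hQ₀⟩ := Sylow.exists_subgroup_card_pow_prime p hdvd
    set Q : Subgroup G := Q₀.map Cg.subtype with hQ
    have hQcard : Nat.card Q = p ^ v := by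
      rw [hQ, Subgroup.card_map_of_injective Cg.subtype_injective, hQ₀]
    let Qs : Sylow p G := Sylow.ofCard Q hQcard
    obtain ⟨h, hh⟩ := MulAction.exists_smul_eq G Qs P
    have hmem : h * g * h⁻¹ ∈ Subgroup.centralizer ((P : Subgroup G) : Set G) := by
      rw [Subgroup.mem_centralizer_iff]
      intro a ha
      have ha'' : a ∈ ((h • Qs : Sylow p G) : Subgroup G) := by rw [hh]; exact ha
      have ha' : a ∈ MulAut.conj h • (Qs : Subgroup G) := by
        rw [← Sylow.coe_subgroup_smul]; exact ha''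
      rw [Subgroup.mem_smul_pointwise_iff_exists] at ha'
      obtain ⟨b, hb, rfl⟩ := ha'
      have hbQ : b ∈ Q := hb
      obtain ⟨b₀, _, rfl⟩ := Subgroup.mem_map.mp hbQ
      have hbg : (b₀ : G) * g = g * (b₀ : G) := by
        have hb2 : (b₀ : G) ∈ Subgroup.centralizer ({g} : Set G) := b₀.2
        exact Subgroup.mem_centralizer_singleton_iff.mp hb2
      rw [MulAut.smul_def, MulAut.conj_apply]
      show h * (b₀ : G) * h⁻¹ * (h * g * h⁻¹) = h * g * h⁻¹ * (h * (b₀ : G) * h⁻¹)
      calc h * (b₀ : G) * h⁻¹ * (h * g * h⁻¹) = h * ((b₀ : G) * g) * h⁻¹ := by group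
        _ = h * (g * (b₀ : G)) * h⁻¹ := by rw [hbg]
        _ = h * g * h⁻¹ * (h * (b₀ : G) * h⁻¹) := by group
    have hmemM : h * g * h⁻¹ ∈ M := Subgroup.centralizer_le_normalizer _ hmem
    refine ⟨ConjClasses.mk ⟨h * g * h⁻¹, hmemM⟩, ?_⟩
    apply Subtype.ext
    show ConjClasses.mk (h * g * h⁻¹) = ConjClasses.mk g
    rw [ConjClasses.mk_eq_mk_iff_isConj, isConj_iff]
    exact ⟨h⁻¹, by group⟩

end Fusion

end Cfsg.Agent.Helper79.Cop
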