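import Mathlib

set_option autoImplicit false
set_option linter.unusedSectionVars false
set_option linter.style.haveILetI false

namespace Cfsg.Agent.Helper79.Cop

universe u

section HomCompl

variable {G : Type u} [Group G]

/-- a normal subgroup with a complement is complemented by a retraction onto the complement -/
theorem exists_retraction (K H : Subgroup G) [K.Normal] (h : K.IsComplement' H) :
    ∃ r : G →* H, (∀ k ∈ K, r k = 1) ∧ ∀ x : H, r x = x := by
  let e := SemidirectProduct.mulEquivSubgroup h
  refine ⟨SemidirectProduct.rightHom.comp e.symm.toMonoidHom, ?_, ?_⟩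
  · intro k hk
    have h1 : e (SemidirectProduct.inl ⟨k, hk⟩) = k := by
      rw [SemidirectProduct.mulEquivSubgroup_apply]
      simp
    have h2 : e.symm k = SemidirectProduct.inl ⟨k, hk⟩ :=
      e.symm_apply_eq.mpr h1.symm
    show SemidirectProduct.rightHom (e.symm k) = 1
    rw [h2, SemidirectProduct.rightHom_inl]
  · intro x
    have h1 : e (SemidirectProduct.inr x) = (x : G) := by
      rw [SemidirectProduct.mulEquivSubgroup_apply]
      simp
    have h2 : e.symm (x : G) = SemidirectProduct.inr x :=
      e.symm_apply_eq.mpr h1.symm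
    show SemidirectProduct.rightHom (e.symm (x : G)) = x
    rw [h2, SemidirectProduct.rightHom_inr]

/-- linear characters trivial on a normal subgroup with a complement correspond to the linear
characters of the complement -/
theorem card_hom_trivial_of_complement {A : Type*} [CommGroup A] (K H : Subgroup G) [K.Normal]
    (h : K.IsComplement' H) :
    Nat.card {μ : G →* A // ∀ k ∈ K, μ k = 1} = Nat.card (H →* A) := by
  obtain ⟨r, hrK, hrH⟩ := exists_retraction K H h
  have hdecomp : ∀ g : G, g * ((r g : H) : G)⁻¹ ∈ K := by
    intro g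
    have hsup : (K ⊔ H : Subgroup G) = ⊤ := h.sup_eq_top
    have hg : g ∈ (K ⊔ H : Subgroup G) := by rw [hsup]; exact Subgroup.mem_top g
    rw [← SetLike.mem_coe, Subgroup.normal_mul] at hg
    obtain ⟨k, hk, x, hx, rfl⟩ := Set.mem_mul.mp hg
    have h1 : r (k * x) = ⟨x, hx⟩ := by
      rw [map_mul, hrK k hk, one_mul]
      exact hrH ⟨x, hx⟩
    rw [h1]
    simpa using hk
  apply Nat.card_congr
  refine
    { toFun := fun μ => μ.1.comp H.subtype
      invFun := fun ν => ⟨ν.comp r, fun k hk => by
        rw [MonoidHom.comp_apply, hrK k hk, map_one]⟩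
      left_inv := ?_
      right_inv := ?_ }
  · intro μ
    apply Subtype.ext
    apply MonoidHom.ext
    intro g
    show μ.1 (((r g : H)) : G) = μ.1 g
    have h1 := μ.2 _ (hdecomp g)
    rw [map_mul, map_inv, mul_inv_eq_one] at h1
    exact h1.symm
  · intro ν
    apply MonoidHom.ext
    intro x
    show ν (r (x : G)) = ν x
    rw [hrH]

end HomCompl

end Cfsg.Agent.Helper79.Cop
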