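import Cfsg.Agent.Lib.Helper79.Coprime.Count
import Cfsg.Agent.Lib.Helper79.Coprime.HomCompl
import Cfsg.Agent.Lib.Helper79.Glaub.SolvCorr

set_option autoImplicit false
set_option linter.unusedSectionVars false
set_option linter.style.haveILetI false

namespace Cfsg.Agent.Helper79.Cop

open Cfsg Cfsg.Agent.Helper81 Cfsg.Agent.Helper79.Glaub
open scoped ComplexConjugate

universe u

section Normalizer

/-- isomorphic groups have the same number of irreducible characters -/
theorem card_irr_congr {K K' : Type u} [Group K] [Group K'] (e : K' ≃* K) :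
    Nat.card (IrrCharacter K') = Nat.card (IrrCharacter K) :=
  Nat.card_congr
    { toFun := fun θ => irrComp e.symm θ
      invFun := fun θ => irrComp e θ
      left_inv := fun θ => irrComp_symm e θ
      right_inv := fun θ => irrComp_symm' e θ }

variable {G : Type u} [Group G] [Fintype G]

omit [Fintype G] in
/-- the normalizer of a complement `H` of the normal subgroup `K` is `C_K(H) H` -/
theorem normalizer_decomp (K H : Subgroup G) [K.Normal] (hKH : K ⊔ H = ⊤)
    (hdisj : K ⊓ H = ⊥) (n : G) (hn : n ∈ Subgroup.normalizer (H : Set G)) :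
    ∃ c ∈ K ⊓ Subgroup.centralizer (H : Set G), ∃ h ∈ H, n = c * h := by
  have hg : n ∈ (K ⊔ H : Subgroup G) := by rw [hKH]; exact Subgroup.mem_top n
  rw [← SetLike.mem_coe, Subgroup.normal_mul] at hg
  obtain ⟨k, hk, x, hx, rfl⟩ := Set.mem_mul.mp hg
  have hkN : k ∈ Subgroup.normalizer (H : Set G) := by
    have h1 : k = (k * x) * x⁻¹ := by group
    rw [h1]
    exact Subgroup.mul_mem _ hn (Subgroup.inv_mem _ (Subgroup.le_normalizer hx))
  refine ⟨k, Subgroup.mem_inf.mpr ⟨hk, ?_⟩, x, hx, rfl⟩
  rw [Subgroup.mem_centralizer_iff]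
  intro y hy
  have hyH : y ∈ H := hy
  have h1 : k * y * k⁻¹ ∈ H := (Subgroup.mem_normalizer_iff.mp hkN y).mp hyH
  have h2 : k * y * k⁻¹ * y⁻¹ ∈ H := H.mul_mem h1 (H.inv_mem hyH)
  have h3 : k * y * k⁻¹ * y⁻¹ ∈ K := by
    have h4 : y * k⁻¹ * y⁻¹ ∈ K := Subgroup.Normal.conj_mem inferInstance _ (K.inv_mem hk) y
    have h5 : k * y * k⁻¹ * y⁻¹ = k * (y * k⁻¹ * y⁻¹) := by group
    rw [h5]
    exact K.mul_mem hk h4
  have h6 : k * y * k⁻¹ * y⁻¹ ∈ K ⊓ H := Subgroup.mem_inf.mpr ⟨h3, h2⟩
  rw [hdisj, Subgroup.mem_bot] at h6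
  have h7 : k * y = y * k := by
    have h8 : k * y = (k * y * k⁻¹ * y⁻¹) * (y * k) := by group
    rw [h8, h6, one_mul]
  exact h7.symm

/-- For `G = K H` with `K` normal, `H` solvable and of order prime to that of `K`, the groups
`G` and `N_G(H)` have the same number of irreducible characters of degree prime to `|H|`. -/
theorem card_coprime_degree_normalizer (K H : Subgroup G) [hKn : K.Normal] (hKH : K ⊔ H = ⊤)
    (hcop : (Nat.card K).Coprime (Nat.card H)) (hsolv : Group.IsSolvable H) :
    Nat.card {χ : IrrCharacter G // (charDegree (χ : G → ℂ)).Coprime (Nat.card H)} =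
      Nat.card {η : IrrCharacter (Subgroup.normalizer (H : Set G)) //
        (charDegree (η : Subgroup.normalizer (H : Set G) → ℂ)).Coprime (Nat.card H)} := by
  classical
  haveI : Fintype K := Fintype.ofFinite _
  have hdisj : Disjoint K H := Subgroup.disjoint_of_coprime_natCard hcop
  have hdisj' : K ⊓ H = ⊥ := disjoint_iff.mp hdisj
  have hcompl : K.IsComplement' H :=
    Subgroup.isComplement'_of_disjoint_and_mul_eq_univ hdisj (by
      rw [← Subgroup.normal_mul, hKH]; rfl)
  have hidx : K.index = Nat.card H := hcompl.symm.index_eq_card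
  -- the fixed points
  set C : Subgroup G := K ⊓ Subgroup.centralizer (H : Set G) with hC
  -- the left hand side
  have hL1 := card_coprime_degree K hKn (by rw [hidx]; exact hcop)
  rw [hidx, card_hom_trivial_of_complement K H hcompl] at hL1
  have hnormH : ∀ s ∈ H, NormAt K s := fun s _ =>
    (normAt_iff_mem_normalizer K s).mpr (by rw [Subgroup.normalizer_eq_top]; exact Subgroup.mem_top s)
  have hL2 : Nat.card {θ : IrrCharacter K // ∀ (g : G) (n : K),
      (θ : K → ℂ) ⟨g * n * g⁻¹, hKn.conj_mem n n.2 g⟩ = (θ : K → ℂ) n} =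
      Nat.card {θ : IrrCharacter K // ∀ x ∈ H, InvAt K (θ : K → ℂ) x} := by
    apply Nat.card_congr
    apply Equiv.subtypeEquivRight
    intro θ
    constructor
    · intro h x _ g g' hg'
      have : g' = ⟨x * g * x⁻¹, hKn.conj_mem g g.2 x⟩ := Subtype.ext hg'
      rw [this]
      exact h x g
    · intro h g n
      have hall := normInv_closure K (θ : K → ℂ) ((K : Set G) ∪ (H : Set G)) (by
        intro z hz
        rcases hz with hz | hz
        · exact ⟨normAt_of_mem K hz, invAt_of_mem K (IsIrrCharacter.isCharacter θ.2) hz⟩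
        · exact ⟨hnormH z hz, h z hz⟩) g (by
          rw [← Subgroup.sup_eq_closure, hKH]; exact Subgroup.mem_top g)
      exact hall.2 n _ rfl
  obtain ⟨R, hR, _⟩ := exists_corr_solvable (Nat.card H) K H rfl hnormH hcop hsolv C hC
  have hL3 := hR.card_eq
  -- the right hand side
  set N : Subgroup G := Subgroup.normalizer (H : Set G) with hN
  have hCN : C ≤ N := by
    intro c hc
    exact Subgroup.centralizer_le_normalizer _ (Subgroup.mem_inf.mp hc).2
  have hHN : H ≤ N := Subgroup.le_normalizer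
  set C' : Subgroup N := C.subgroupOf N with hC'
  set H' : Subgroup N := H.subgroupOf N with hH'
  haveI : Fintype C' := Fintype.ofFinite _
  let eC : C' ≃* C := Subgroup.subgroupOfEquivOfLe hCN
  let eH : H' ≃* H := Subgroup.subgroupOfEquivOfLe hHN
  have hcardC : Nat.card C' = Nat.card C := Nat.card_congr eC.toEquiv
  have hcardH : Nat.card H' = Nat.card H := Nat.card_congr eH.toEquiv
  have hC'n : C'.Normal := by
    constructor
    intro c hc n
    rw [hC', Subgroup.mem_subgroupOf] at hc ⊢
    rw [hC, Subgroup.mem_inf] at hc ⊢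
    refine ⟨hKn.conj_mem _ hc.1 _, ?_⟩
    rw [Subgroup.mem_centralizer_iff]
    intro y hy
    have hyH : y ∈ H := hy
    have h1 : (n : G)⁻¹ * y * (n : G) ∈ H := by
      have h2 := (Subgroup.mem_normalizer_iff.mp (N.inv_mem n.2) y).mp hyH
      simpa using h2
    have h3 := (Subgroup.mem_centralizer_iff.mp hc.2) _ h1
    simp only [Subgroup.coe_mul, Subgroup.coe_inv]
    calc y * ((n : G) * (c : G) * (n : G)⁻¹)
        = (n : G) * (((n : G)⁻¹ * y * (n : G)) * (c : G)) * (n : G)⁻¹ := by group
      _ = (n : G) * ((c : G) * ((n : G)⁻¹ * y * (n : G))) * (n : G)⁻¹ := by rw [h3]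
      _ = (n : G) * (c : G) * (n : G)⁻¹ * y := by group
  have hcop' : (Nat.card C').Coprime (Nat.card H') := by
    rw [hcardC, hcardH]
    exact Nat.Coprime.coprime_dvd_left (Subgroup.card_dvd_of_le (inf_le_left : C ≤ K)) hcop
  have hdec : ∀ n : N, ∃ c : C', ∃ h : H', n = (c : N) * (h : N) := by
    intro n
    obtain ⟨c, hc, h, hh, hn⟩ := normalizer_decomp K H hKH hdisj' n n.2
    refine ⟨⟨⟨c, hCN hc⟩, ?_⟩, ⟨⟨h, hHN hh⟩, ?_⟩, ?_⟩
    · rw [hC', Subgroup.mem_subgroupOf]; exact hc
    · rw [hH', Subgroup.mem_subgroupOf]; exact hh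
    · apply Subtype.ext
      exact hn
  have hcompl' : C'.IsComplement' H' :=
    Subgroup.isComplement'_of_disjoint_and_mul_eq_univ
      (Subgroup.disjoint_of_coprime_natCard hcop') (by
        rw [Set.eq_univ_iff_forall]
        intro n
        obtain ⟨c, h, hn⟩ := hdec n
        exact Set.mem_mul.mpr ⟨c, c.2, h, h.2, hn.symm⟩)
  have hidx' : C'.index = Nat.card H := by
    rw [hcompl'.symm.index_eq_card, hcardH]
  have hcopC : (Nat.card C).Coprime (Nat.card H) :=
    Nat.Coprime.coprime_dvd_left (Subgroup.card_dvd_of_le (inf_le_left : C ≤ K)) hcop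
  have hR1 := card_coprime_degree C' hC'n (by rw [hidx', hcardC]; exact hcopC)
  haveI := hC'n
  rw [hidx', card_hom_trivial_of_complement C' H' hcompl',
    Nat.card_congr (MulEquiv.monoidHomCongrLeftEquiv eH)] at hR1
  -- every character of `C'` is invariant
  have hR2 : Nat.card {θ : IrrCharacter C' // ∀ (g : N) (n : C'),
      (θ : C' → ℂ) ⟨g * n * g⁻¹, hC'n.conj_mem n n.2 g⟩ = (θ : C' → ℂ) n} =
      Nat.card (IrrCharacter C') := by
    apply Nat.card_congr
    apply Equiv.subtypeUnivEquiv
    intro θ g n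
    obtain ⟨c, h, hg⟩ := hdec g
    have hcomm : (h : N) * (n : N) * (h : N)⁻¹ = (n : N) := by
      apply Subtype.ext
      have hn : ((n : N) : G) ∈ C := Subgroup.mem_subgroupOf.mp n.2
      have hh : ((h : N) : G) ∈ H := Subgroup.mem_subgroupOf.mp h.2
      have h1 := (Subgroup.mem_centralizer_iff.mp (Subgroup.mem_inf.mp hn).2) _ hh
      simp only [Subgroup.coe_mul, Subgroup.coe_inv]
      rw [h1, mul_inv_cancel_right]
    have hcf := isClassFunction_of_isCharacter (IsIrrCharacter.isCharacter θ.2)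
    have h2 := hcf n c
    rw [← h2]
    apply congrArg
    apply Subtype.ext
    simp only [Subgroup.coe_mul, Subgroup.coe_inv]
    rw [hg]
    calc (c : N) * (h : N) * (n : N) * ((c : N) * (h : N))⁻¹
        = (c : N) * ((h : N) * (n : N) * (h : N)⁻¹) * (c : N)⁻¹ := by group
      _ = (c : N) * (n : N) * (c : N)⁻¹ := by rw [hcomm]
  rw [hR2, card_irr_congr eC] at hR1
  rw [hL1, hL2, hL3, hR1]

end Normalizer

end Cfsg.Agent.Helper79.Cop
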