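import Cfsg.Agent.Lib.Helper79.Coprime.Fusion
import Cfsg.Agent.Lib.Helper79.Coprime.Normalizer
import Cfsg.Agent.S0855
import Cfsg.Agent.S0169

set_option autoImplicit false
set_option linter.unusedSectionVars false
set_option linter.style.haveILetI false

namespace Cfsg.Agent.Helper79.Cop

open Cfsg Cfsg.Agent.Helper81 Cfsg.Agent.Helper79.Glaub
open scoped ComplexConjugate

universe u

section OneChar

variable {G : Type u} [Group G] [Fintype G]

/-- the restriction to a normal Hall subgroup of an irreducible character of degree prime to the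
index is irreducible -/
theorem restrict_irr_of_coprime (K : Subgroup G) [Fintype K] (hK : K.Normal)
    (hcop : (Nat.card K).Coprime K.index) (χ : IrrCharacter G)
    (hχ : (charDegree (χ : G → ℂ)).Coprime K.index) :
    IsIrrCharacter K (fun n : K => (χ : G → ℂ) n) := by
  classical
  have hres : IsCharacter K (fun n : K => (χ : G → ℂ) n) :=
    isCharacter_restrict K (IsIrrCharacter.isCharacter χ.2)
  have hres0 : (fun n : K => (χ : G → ℂ) n) ≠ 0 := by
    intro h0
    have h1 := congrFun h0 1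
    have h2 := Cfsg.Agent.Helper79.irr_one_eq χ
    simp only [Pi.zero_apply, Subgroup.coe_one] at h1
    rw [h2.1] at h1
    have : charDegree (χ : G → ℂ) = 0 := by exact_mod_cast h1
    exact h2.2.ne' this
  obtain ⟨θ₀, hθ₀, hne⟩ := exists_irr_constituent hres hres0
  have hinv := invariant_of_coprime_degree K hK χ.2 hθ₀ hne hχ
  have hinv' : ∀ (g : G) (n : K), θ₀ ⟨g * n * g⁻¹, hK.conj_mem n n.2 g⟩ = θ₀ n := by
    intro g n
    have := congrFun (hinv g) n
    rw [conjFun_apply] at this
    exact this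
  obtain ⟨η, ⟨h1, h2, _⟩, _⟩ := exists_canonical_extension K hK hθ₀ hinv'
      (charDegree θ₀) (Cfsg.Agent.Helper79.irr_one_eq ⟨θ₀, hθ₀⟩).1
      (Cfsg.Agent.Helper79.Glaub.coprime_index_detOrder_mul K hcop hθ₀)
  obtain ⟨β, hβK, hβ⟩ := over_coprime K hK h1 χ.2 hθ₀ (funext h2) hne hχ
  have : (fun n : K => (χ : G → ℂ) n) = θ₀ := by
    funext n
    rw [hβ, Pi.mul_apply, hβK n, one_mul, h2]
  rw [this]; exact hθ₀

/-- Gallagher: the product of a character restricting irreducibly to `K` and an irreducible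
character with `K` in its kernel is irreducible. -/
theorem irr_mul_of_le_ker (K : Subgroup G) [Fintype K] (hK : K.Normal) (χ β : IrrCharacter G)
    (hχ : IsIrrCharacter K (fun n : K => (χ : G → ℂ) n))
    (hβ : K ≤ Cfsg.Agent.Helper79.irrKer β) :
    IsIrrCharacter G ((β : G → ℂ) * (χ : G → ℂ)) := by
  classical
  have hχcf := isClassFunction_of_isCharacter (IsIrrCharacter.isCharacter χ.2)
  have h1N : IsIrrCharacter K (1 : K → ℂ) := isIrrCharacter_one
  have h1inv : ∀ g : G, conjFun K hK (1 : K → ℂ) g = 1 := fun g => rfl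
  have hprod : IsIrrCharacter K ((1 : K → ℂ) * (fun n : K => (χ : G → ℂ) n)) := by
    rw [one_mul]; exact hχ
  have hprodinv : ∀ g : G, conjFun K hK ((1 : K → ℂ) * (fun n : K => (χ : G → ℂ) n)) g =
      (1 : K → ℂ) * (fun n : K => (χ : G → ℂ) n) := by
    intro g
    rw [one_mul]
    ext n
    rw [conjFun_apply]
    exact hχcf n g
  obtain ⟨m, hm⟩ := exists_nat_decomp
    (isCharacter_indFun K (IsIrrCharacter.isCharacter h1N))
  obtain ⟨hirr, -, -⟩ := gallagher_core K hK h1N h1inv hprod hprodinv χ.2 rfl m hm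
  apply hirr β
  have h5 : classInner (indFun K (1 : K → ℂ)) (β : G → ℂ) = (m β : ℂ) := by
    rw [hm]
    exact classInner_nat_decomp (fun γ => (m γ : ℂ)) β
  rw [frobenius_reciprocity K 1
    (isClassFunction_of_isCharacter (IsIrrCharacter.isCharacter β.2))] at h5
  have h6 : classInner (1 : K → ℂ) (fun h : K => (β : G → ℂ) h) =
      (charDegree (β : G → ℂ) : ℂ) := by
    unfold classInner
    have hterm : ∀ h : K, (1 : K → ℂ) h * conj ((β : G → ℂ) h) =
        (charDegree (β : G → ℂ) : ℂ) := by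
      intro h
      rw [Pi.one_apply, one_mul, (Cfsg.Agent.Helper79.mem_irrKer β h).mp (hβ h.2),
        (Cfsg.Agent.Helper79.irr_one_eq β).1, Complex.conj_natCast]
    rw [Finset.sum_congr rfl (fun h _ => hterm h), Finset.sum_const, Finset.card_univ,
      nsmul_eq_mul, ← Nat.card_eq_fintype_card, ← mul_assoc, inv_mul_cancel₀, one_mul]
    exact_mod_cast Nat.card_pos.ne'
  rw [h6] at h5
  intro h0
  have h7 : (charDegree (β : G → ℂ) : ℂ) = 0 := by rw [h5, h0, Nat.cast_zero]
  have h8 : charDegree (β : G → ℂ) = 0 := by exact_mod_cast h7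
  exact (Cfsg.Agent.Helper79.irr_one_eq β).2.ne' h8

/-- If `G` is not nilpotent, has a normal `p`-complement and exactly one irreducible character of
degree divisible by `p`, then its Sylow `p`-subgroups are abelian. -/
theorem sylow_comm_of_one_char {p : ℕ} [hp : Fact p.Prime] (hnil : ¬ Group.IsNilpotent G)
    (N : Subgroup G) [hNn : N.Normal] (hN : (Nat.card N).Coprime p) (k : ℕ)
    (hidx : N.index = p ^ k)
    (hone : Nat.card {χ : IrrCharacter G // p ∣ charDegree (χ : G → ℂ)} = 1)
    (P : Sylow p G) : ∀ a ∈ P, ∀ b ∈ P, a * b = b * a := by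
  classical
  haveI : Fintype N := Fintype.ofFinite _
  by_contra hcon
  have hex : ∃ ψ : IrrCharacter (G ⧸ N), charDegree (ψ : G ⧸ N → ℂ) ≠ 1 := by
    by_contra hall
    push Not at hall
    apply hcon
    intro a ha b hb
    have hab := Cfsg.Agent.S0855.comm_of_all_linear hall (a : G ⧸ N) (b : G ⧸ N)
    have h1 : (a * b) * (b * a)⁻¹ ∈ N := by
      rw [← QuotientGroup.eq_one_iff, QuotientGroup.mk_mul, QuotientGroup.mk_inv,
        QuotientGroup.mk_mul, QuotientGroup.mk_mul, hab, mul_inv_cancel]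
    have h2 : (a * b) * (b * a)⁻¹ ∈ (P : Subgroup G) :=
      mul_mem (mul_mem ha hb) (inv_mem (mul_mem hb ha))
    have hdisj : Disjoint N (P : Subgroup G) := Subgroup.disjoint_of_coprime_natCard (by
      rw [P.card_eq_multiplicity]
      exact Nat.Coprime.pow_right _ hN)
    have h3 := Subgroup.disjoint_def.mp hdisj h1 h2
    exact mul_inv_eq_one.mp h3
  obtain ⟨ψ, hψ⟩ := hex
  have hpψ : p ∣ charDegree (ψ : G ⧸ N → ℂ) := by
    have h1 : charDegree (ψ : G ⧸ N → ℂ) ∣ Nat.card (G ⧸ N) :=
      Cfsg.Agent.Helper79.irr_degree_dvd_card ψ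
    rw [← Subgroup.index_eq_card, hidx] at h1
    obtain ⟨j, _, hj⟩ := (Nat.dvd_prime_pow hp.out).mp h1
    rw [hj]
    apply dvd_pow_self
    rintro rfl
    exact hψ (by rw [hj, pow_zero])
  have hNbot : N ≠ ⊥ := by
    intro h
    apply hnil
    have hcard := Subgroup.card_mul_index N
    rw [hidx] at hcard
    rw [h, Subgroup.card_bot, one_mul] at hcard
    exact (IsPGroup.of_card hcard.symm).isNilpotent
  have hexχ : ∃ χ : IrrCharacter G, ¬ N ≤ Cfsg.Agent.Helper79.irrKer χ := by
    by_contra hall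
    push Not at hall
    have h1 := Cfsg.Agent.Helper79.sum_sq_degree_of_not_le_ker N
    rw [Finset.sum_eq_zero (by
      intro χ hχ
      exact absurd (hall χ) (Finset.mem_filter.mp hχ).2)] at h1
    have hcard := Subgroup.card_mul_index N
    have hpos : 0 < N.index := Nat.pos_of_ne_zero Subgroup.index_ne_zero_of_finite
    have hle : Nat.card N ≤ 1 := by
      by_contra hlt
      push Not at hlt
      have : 2 * N.index ≤ Nat.card N * N.index := Nat.mul_le_mul_right _ hlt
      omega
    exact hNbot (N.eq_bot_of_card_le hle)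
  obtain ⟨χ, hχker⟩ := hexχ
  set χ₀ := Cfsg.Agent.Helper79.inflate N ψ with hχ₀
  have hχ₀ker : N ≤ Cfsg.Agent.Helper79.irrKer χ₀ := Cfsg.Agent.Helper79.le_irrKer_inflate N ψ
  have hχ₀deg : p ∣ charDegree (χ₀ : G → ℂ) := by
    rw [hχ₀, Cfsg.Agent.Helper79.charDegree_inflate]; exact hpψ
  have hsub : Subsingleton {χ : IrrCharacter G // p ∣ charDegree (χ : G → ℂ)} :=
    (Nat.card_eq_one_iff_unique.mp hone).1
  have huniq : ∀ χ' : IrrCharacter G, p ∣ charDegree (χ' : G → ℂ) → χ' = χ₀ := by
    intro χ' h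
    have := hsub.elim ⟨χ', h⟩ ⟨χ₀, hχ₀deg⟩
    exact congrArg Subtype.val this
  have hχp : ¬ p ∣ charDegree (χ : G → ℂ) := by
    intro h
    apply hχker
    rw [huniq χ h]; exact hχ₀ker
  have hχcop : (charDegree (χ : G → ℂ)).Coprime N.index := by
    rw [hidx]
    exact Nat.Coprime.pow_right _ ((Nat.Prime.coprime_iff_not_dvd hp.out).mpr hχp).symm
  have hcopN : (Nat.card N).Coprime N.index := by rw [hidx]; exact Nat.Coprime.pow_right _ hN
  have hres := restrict_irr_of_coprime N hNn hcopN χ hχcop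
  have hprod := irr_mul_of_le_ker N hNn χ χ₀ hres hχ₀ker
  set Ξ : IrrCharacter G := ⟨(χ₀ : G → ℂ) * (χ : G → ℂ), hprod⟩ with hΞ
  have hΞdeg : charDegree (Ξ : G → ℂ) = charDegree (χ₀ : G → ℂ) * charDegree (χ : G → ℂ) := by
    have h1 := (Cfsg.Agent.Helper79.irr_one_eq Ξ).1
    have h2 := (Cfsg.Agent.Helper79.irr_one_eq χ₀).1
    have h3 := (Cfsg.Agent.Helper79.irr_one_eq χ).1
    have h4 : (Ξ : G → ℂ) 1 = (χ₀ : G → ℂ) 1 * (χ : G → ℂ) 1 := rfl
    rw [h1, h2, h3] at h4
    exact_mod_cast h4
  have hΞeq : Ξ = χ₀ := huniq Ξ (by rw [hΞdeg]; exact Dvd.dvd.mul_right hχ₀deg _)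
  apply hχker
  intro n hn
  rw [Cfsg.Agent.Helper79.mem_irrKer]
  have h1 : ∀ g : G, (χ₀ : G → ℂ) g * (χ : G → ℂ) g = (χ₀ : G → ℂ) g := by
    intro g
    have := congrArg (fun ξ : IrrCharacter G => (ξ : G → ℂ) g) hΞeq
    exact this
  have h0 : (χ₀ : G → ℂ) 1 ≠ 0 := by
    rw [(Cfsg.Agent.Helper79.irr_one_eq χ₀).1]
    exact_mod_cast (Cfsg.Agent.Helper79.irr_one_eq χ₀).2.ne'
  have hn1 := h1 n
  rw [(Cfsg.Agent.Helper79.mem_irrKer χ₀ n).mp (hχ₀ker hn)] at hn1
  have h11 := h1 1
  have e1 : (χ : G → ℂ) n = 1 := mul_left_cancel₀ h0 (by rw [hn1, mul_one])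
  have e2 : (χ : G → ℂ) 1 = 1 := mul_left_cancel₀ h0 (by rw [h11, mul_one])
  rw [e1, e2]

/-- A non-nilpotent group with a normal `p`-complement and exactly one irreducible character of
degree divisible by `p` has exactly one conjugacy class of size divisible by `p`. -/
theorem card_classes_dvd_eq_one {p : ℕ} [hp : Fact p.Prime] (hnil : ¬ Group.IsNilpotent G)
    (N : Subgroup G) [hNn : N.Normal] (hN : (Nat.card N).Coprime p)
    (hidx : ∃ k : ℕ, N.index = p ^ k)
    (hone : Nat.card {χ : IrrCharacter G // p ∣ charDegree (χ : G → ℂ)} = 1) :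
    Nat.card {C : ConjClasses G // p ∣ Nat.card C.carrier} = 1 := by
  classical
  obtain ⟨k, hk⟩ := hidx
  obtain ⟨P⟩ : Nonempty (Sylow p G) := inferInstance
  have hPab := sylow_comm_of_one_char hnil N hN k hk hone P
  have hk0 : k ≠ 0 := by
    rintro rfl
    obtain ⟨⟨χ, hχ⟩⟩ := (Nat.card_eq_one_iff_unique.mp hone).2
    have h1 : charDegree (χ : G → ℂ) ∣ Nat.card G := Cfsg.Agent.Helper79.irr_degree_dvd_card χ
    have h2 : Nat.card G = Nat.card N := by
      rw [← Subgroup.card_mul_index N, hk, pow_zero, mul_one]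
    rw [h2] at h1
    exact (Nat.Prime.coprime_iff_not_dvd hp.out).mp hN.symm (hχ.trans h1)
  have hfac : (Nat.card G).factorization p = k := by
    rw [← Subgroup.card_mul_index N, hk,
      Nat.factorization_mul Nat.card_pos.ne' (pow_ne_zero _ hp.out.ne_zero), Finsupp.add_apply,
      Nat.factorization_eq_zero_of_not_dvd ((Nat.Prime.coprime_iff_not_dvd hp.out).mp hN.symm),
      Nat.factorization_pow, Finsupp.smul_apply, hp.out.factorization_self, smul_eq_mul, mul_one,
      zero_add]
  have hPcard : Nat.card (P : Subgroup G) = p ^ k := by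
    rw [P.card_eq_multiplicity, hfac]
  have hcop : (Nat.card N).Coprime (Nat.card (P : Subgroup G)) := by
    rw [hPcard]; exact Nat.Coprime.pow_right _ hN
  have hcompl : N.IsComplement' (P : Subgroup G) :=
    Subgroup.isComplement'_of_coprime (by rw [hPcard, ← hk, Subgroup.card_mul_index]) hcop
  have hsup : N ⊔ (P : Subgroup G) = ⊤ := hcompl.sup_eq_top
  have hdisj' : N ⊓ (P : Subgroup G) = ⊥ := disjoint_iff.mp hcompl.disjoint
  haveI hsolv : Group.IsSolvable (P : Subgroup G) :=
    Group.isSolvable_of_comm (fun a b => Subtype.ext (hPab a a.2 b b.2))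
  have hcorr := card_coprime_degree_normalizer N (P : Subgroup G) hsup hcop hsolv
  set M : Subgroup G := Subgroup.normalizer ((P : Subgroup G) : Set G) with hM
  -- the normalizer centralizes `P`
  have hNC : M ≤ Subgroup.centralizer ((P : Subgroup G) : Set G) := by
    intro n hn
    obtain ⟨c, hc, h, hh, rfl⟩ := normalizer_decomp N (P : Subgroup G) hsup hdisj' n hn
    rw [Subgroup.mem_centralizer_iff]
    intro a ha
    have hca : a * c = c * a := Subgroup.mem_centralizer_iff.mp (Subgroup.mem_inf.mp hc).2 a ha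
    calc a * (c * h) = (a * c) * h := by rw [mul_assoc]
      _ = c * (a * h) := by rw [hca, mul_assoc]
      _ = c * (h * a) := by rw [hPab a ha h hh]
      _ = c * h * a := by rw [mul_assoc]
  have hfus := card_classes_not_dvd P hNC
  -- all character degrees of the normalizer are prime to `p`
  have hMdeg : ∀ η : IrrCharacter M,
      (charDegree (η : M → ℂ)).Coprime (Nat.card (P : Subgroup G)) := by
    intro η
    obtain ⟨n, ρ, hρ, hη⟩ := η.2
    haveI := hρ
    haveI : ((P : Subgroup G).subgroupOf M).Normal := Subgroup.normal_in_normalizer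
    have h1 : Module.finrank ℂ (Fin n → ℂ) ∣ ((P : Subgroup G).subgroupOf M).index :=
      Cfsg.Agent.S0169.result ρ ((P : Subgroup G).subgroupOf M) (by
        intro a ha b hb
        apply Subtype.ext
        exact hPab a (Subgroup.mem_subgroupOf.mp ha) b (Subgroup.mem_subgroupOf.mp hb))
    have h2 : charDegree (η : M → ℂ) = Module.finrank ℂ (Fin n → ℂ) := by
      have h3 := (Cfsg.Agent.Helper79.irr_one_eq η).1
      have h6 : (η : M → ℂ) 1 = (Module.finrank ℂ (Fin n → ℂ) : ℂ) := by
        rw [← hη, Representation.char_one]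
      rw [h6] at h3
      exact_mod_cast h3.symm
    have h4 : ((P : Subgroup G).subgroupOf M).index ∣ (P : Subgroup G).index := by
      have := Subgroup.relIndex_mul_index (Subgroup.le_normalizer : (P : Subgroup G) ≤ M)
      exact ⟨_, this.symm⟩
    have h5 : ¬ p ∣ charDegree (η : M → ℂ) := by
      intro hdvd
      rw [h2] at hdvd
      exact P.not_dvd_index (hdvd.trans (h1.trans h4))
    rw [hPcard]
    exact Nat.Coprime.pow_right _ ((Nat.Prime.coprime_iff_not_dvd hp.out).mpr h5).symm
  have hMall : Nat.card {η : IrrCharacter M //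
      (charDegree (η : M → ℂ)).Coprime (Nat.card (P : Subgroup G))} = Nat.card (ConjClasses M) := by
    rw [← Cfsg.Agent.Helper80.card_irr]
    exact Nat.card_congr (Equiv.subtypeUnivEquiv hMdeg)
  have hGp' : Nat.card {χ : IrrCharacter G // ¬ p ∣ charDegree (χ : G → ℂ)} =
      Nat.card {χ : IrrCharacter G //
        (charDegree (χ : G → ℂ)).Coprime (Nat.card (P : Subgroup G))} := by
    apply Nat.card_congr
    apply Equiv.subtypeEquivRight
    intro χ
    rw [hPcard, Nat.coprime_pow_right_iff (Nat.pos_of_ne_zero hk0), Nat.coprime_comm,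
      Nat.Prime.coprime_iff_not_dvd hp.out]
  have hsplit1 : Nat.card (IrrCharacter G) =
      Nat.card {χ : IrrCharacter G // p ∣ charDegree (χ : G → ℂ)} +
      Nat.card {χ : IrrCharacter G // ¬ p ∣ charDegree (χ : G → ℂ)} := by
    rw [← Nat.card_sum]
    exact Nat.card_congr (Equiv.sumCompl _).symm
  have hsplit2 : Nat.card (ConjClasses G) =
      Nat.card {C : ConjClasses G // p ∣ Nat.card C.carrier} +
      Nat.card {C : ConjClasses G // ¬ p ∣ Nat.card C.carrier} := by
    rw [← Nat.card_sum]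
    exact Nat.card_congr (Equiv.sumCompl _).symm
  have hkG : Nat.card (IrrCharacter G) = Nat.card (ConjClasses G) := Cfsg.Agent.Helper80.card_irr
  rw [hone, hGp', hcorr, hMall] at hsplit1
  have hfus' : Nat.card {C : ConjClasses G // ¬ p ∣ Nat.card C.carrier} =
      Nat.card (ConjClasses M) := hfus
  rw [hfus'] at hsplit2
  omega

end OneChar

end Cfsg.Agent.Helper79.Cop
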