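import Cfsg.Agent.Lib.Helper79.Coprime.Pull

set_option autoImplicit false
set_option linter.unusedSectionVars false
set_option linter.style.haveILetI false

namespace Cfsg.Agent.Helper79.Cop

open Cfsg Cfsg.Agent.Helper81 Cfsg.Agent.Helper79.Glaub
open scoped ComplexConjugate

universe u

section AbsCliff

variable {G : Type u} [Group G] [Fintype G]

/-- Clifford correspondence, in restriction form -/
theorem cliff_restrict (H T : Subgroup G) [Fintype H] [Fintype T] (hN : H.Normal) (hHT : H ≤ T)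
    {θ : H → ℂ} (hθ : IsIrrCharacter H θ) (hT : ∀ g : G, g ∈ T ↔ conjFun H hN θ g = θ)
    {ψ : T → ℂ} (hψ : IsIrrCharacter T ψ) (hne : classInner (resTo hHT ψ) θ ≠ 0) :
    ∃ χ : G → ℂ, IsIrrCharacter G χ ∧ classInner (fun t : T => χ t) ψ = 1 ∧
      classInner (fun n : H => χ n) θ ≠ 0 ∧
      (∀ ψ' : T → ℂ, IsIrrCharacter T ψ' → classInner (resTo hHT ψ') θ ≠ 0 → ψ' ≠ ψ →
        classInner (fun t : T => χ t) ψ' = 0) ∧
      (∀ χ' : G → ℂ, IsIrrCharacter G χ' → classInner (fun t : T => χ' t) ψ ≠ 0 → χ' = χ) ∧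
      (∀ f : G → ℂ, IsClassFunction G f → classInner χ f = classInner ψ (fun t : T => f t)) := by
  classical
  obtain ⟨hirr, hmult⟩ := clifford_corr_irr H T hN hHT hθ hT hψ hne
  have hχcf := isClassFunction_of_isCharacter (IsIrrCharacter.isCharacter hirr)
  have hrec : ∀ ψ' : T → ℂ, classInner (fun t : T => indFun T ψ (t : G)) ψ' =
      conj (classInner (indFun T ψ') (indFun T ψ)) := by
    intro ψ'
    rw [frobenius_reciprocity T ψ' hχcf, ← classInner_conj_symm]
  refine ⟨indFun T ψ, hirr, ?_, ?_, ?_, ?_, fun f hf => frobenius_reciprocity T ψ hf⟩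
  · rw [hrec, Cfsg.Agent.Helper81.irr_orthonormal hirr hirr, if_pos rfl, map_one]
  · rw [hmult]; exact hne
  · intro ψ' hψ' hne' hneq
    obtain ⟨hirr', _⟩ := clifford_corr_irr H T hN hHT hθ hT hψ' hne'
    rw [hrec, Cfsg.Agent.Helper81.irr_orthonormal hirr' hirr, if_neg, map_zero]
    intro heq
    exact hneq (clifford_corr_inj H T hN hHT hθ hT hψ' hψ hne' hne heq)
  · intro χ' hχ' hne'
    have hχ'cf := isClassFunction_of_isCharacter (IsIrrCharacter.isCharacter hχ')
    have h1 : classInner (indFun T ψ) χ' ≠ 0 := by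
      rw [frobenius_reciprocity T ψ hχ'cf]
      intro h0
      apply hne'
      rw [classInner_conj_symm, h0, map_zero]
    exact (eq_of_classInner_ne_zero hirr hχ' h1).symm

/-- Clifford correspondence, surjectivity in restriction form -/
theorem cliff_restrict_surj (H T : Subgroup G) [Fintype H] [Fintype T] (hN : H.Normal)
    (hHT : H ≤ T) {θ : H → ℂ} (hθ : IsIrrCharacter H θ)
    (hT : ∀ g : G, g ∈ T ↔ conjFun H hN θ g = θ)
    {χ : G → ℂ} (hχ : IsIrrCharacter G χ) (hne : classInner (fun n : H => χ n) θ ≠ 0) :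
    ∃ ψ : T → ℂ, IsIrrCharacter T ψ ∧ classInner (resTo hHT ψ) θ ≠ 0 ∧
      classInner (fun t : T => χ t) ψ ≠ 0 := by
  classical
  obtain ⟨ψ, hψ, hind, hmult⟩ := clifford_corr_surj H T hN hHT hθ hT hχ hne
  have hne' : classInner (resTo hHT ψ) θ ≠ 0 := by rw [hmult]; exact hne
  refine ⟨ψ, hψ, hne', ?_⟩
  obtain ⟨χ₀, _, h1, _, _, _, _⟩ := cliff_restrict H T hN hHT hθ hT hψ hne'
  have hχcf := isClassFunction_of_isCharacter (IsIrrCharacter.isCharacter hχ)
  have h2 : classInner (indFun T ψ) χ = 1 := by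
    rw [hind, Cfsg.Agent.Helper81.irr_orthonormal hχ hχ, if_pos rfl]
  rw [frobenius_reciprocity T ψ hχcf] at h2
  rw [classInner_conj_symm, h2, map_one]
  exact one_ne_zero

/-- the multiplicity of `β` in the character induced from the trivial character of `N` is
nonzero exactly when `N` lies in the kernel of `β` -/
theorem ind_one_mult_ne_zero_iff (N : Subgroup G) [Fintype N] (hN : N.Normal)
    (β : IrrCharacter G) :
    classInner (indFun N (1 : N → ℂ)) (β : G → ℂ) ≠ 0 ↔
      N ≤ Cfsg.Agent.Helper79.irrKer β := by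
  classical
  rw [frobenius_reciprocity N 1
    (isClassFunction_of_isCharacter (IsIrrCharacter.isCharacter β.2))]
  constructor
  · intro h
    apply le_irrKer_of_inner_one N hN β
    intro h0
    apply h
    rw [classInner_conj_symm, h0, map_zero]
  · intro hβ
    have h6 : classInner (1 : N → ℂ) (fun h : N => (β : G → ℂ) h) =
        (charDegree (β : G → ℂ) : ℂ) := by
      unfold classInner
      have hterm : ∀ h : N, (1 : N → ℂ) h * conj ((β : G → ℂ) h) =
          (charDegree (β : G → ℂ) : ℂ) := by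
        intro h
        rw [Pi.one_apply, one_mul, (Cfsg.Agent.Helper79.mem_irrKer β h).mp (hβ h.2),
          (Cfsg.Agent.Helper79.irr_one_eq β).1, Complex.conj_natCast]
      rw [Finset.sum_congr rfl (fun h _ => hterm h), Finset.sum_const, Finset.card_univ,
        nsmul_eq_mul, ← Nat.card_eq_fintype_card, ← mul_assoc, inv_mul_cancel₀, one_mul]
      exact_mod_cast Nat.card_pos.ne'
    rw [h6]
    have := (Cfsg.Agent.Helper79.irr_one_eq β).2
    exact_mod_cast this.ne'

/-- Gallagher, injectivity -/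
theorem gallagher_inj (N : Subgroup G) [Fintype N] (hN : N.Normal) (η β β' : IrrCharacter G)
    (hη : IsIrrCharacter N (fun n : N => (η : G → ℂ) n))
    (hβ : N ≤ Cfsg.Agent.Helper79.irrKer β) (hβ' : N ≤ Cfsg.Agent.Helper79.irrKer β')
    (h : (β : G → ℂ) * (η : G → ℂ) = (β' : G → ℂ) * (η : G → ℂ)) : β = β' := by
  classical
  haveI : Fintype (IrrCharacter G) := @Fintype.ofFinite _ irr_finite
  by_contra hne
  have hηcf := isClassFunction_of_isCharacter (IsIrrCharacter.isCharacter η.2)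
  have h1N : IsIrrCharacter N (1 : N → ℂ) := isIrrCharacter_one
  have h1inv : ∀ g : G, conjFun N hN (1 : N → ℂ) g = 1 := fun g => rfl
  have hprod : IsIrrCharacter N ((1 : N → ℂ) * (fun n : N => (η : G → ℂ) n)) := by
    rw [one_mul]; exact hη
  have hprodinv : ∀ g : G, conjFun N hN ((1 : N → ℂ) * (fun n : N => (η : G → ℂ) n)) g =
      (1 : N → ℂ) * (fun n : N => (η : G → ℂ) n) := by
    intro g
    rw [one_mul]
    ext n
    rw [conjFun_apply]
    exact hηcf n g
  obtain ⟨m, hm⟩ := exists_nat_decomp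
    (isCharacter_indFun N (IsIrrCharacter.isCharacter h1N))
  obtain ⟨hirr, horth, -⟩ := gallagher_core N hN h1N h1inv hprod hprodinv η.2 rfl m hm
  have hm_ne : ∀ γ : IrrCharacter G, N ≤ Cfsg.Agent.Helper79.irrKer γ → m γ ≠ 0 := by
    intro γ hγ h0
    have h5 : classInner (indFun N (1 : N → ℂ)) (γ : G → ℂ) = (m γ : ℂ) := by
      rw [hm]
      exact classInner_nat_decomp (fun γ' => (m γ' : ℂ)) γ
    have := (ind_one_mult_ne_zero_iff N hN γ).mpr hγ
    rw [h5, h0] at this
    exact this (by simp)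
  have h0 := horth β β' (hm_ne β hβ) (hm_ne β' hβ') hne
  rw [← h, Cfsg.Agent.Helper81.irr_orthonormal (hirr β (hm_ne β hβ)) (hirr β (hm_ne β hβ)), if_pos rfl] at h0
  exact one_ne_zero h0

/-- Gallagher, surjectivity -/
theorem gallagher_surj (N : Subgroup G) [Fintype N] (hN : N.Normal) (η ψ : IrrCharacter G)
    (hη : IsIrrCharacter N (fun n : N => (η : G → ℂ) n))
    (hne : classInner (fun n : N => (ψ : G → ℂ) n) (fun n : N => (η : G → ℂ) n) ≠ 0) :
    ∃ β : IrrCharacter G, N ≤ Cfsg.Agent.Helper79.irrKer β ∧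
      (ψ : G → ℂ) = (β : G → ℂ) * (η : G → ℂ) := by
  classical
  haveI : Fintype (IrrCharacter G) := @Fintype.ofFinite _ irr_finite
  have hηcf := isClassFunction_of_isCharacter (IsIrrCharacter.isCharacter η.2)
  have hψcf := isClassFunction_of_isCharacter (IsIrrCharacter.isCharacter ψ.2)
  have h1N : IsIrrCharacter N (1 : N → ℂ) := isIrrCharacter_one
  have h1inv : ∀ g : G, conjFun N hN (1 : N → ℂ) g = 1 := fun g => rfl
  have hprod : IsIrrCharacter N ((1 : N → ℂ) * (fun n : N => (η : G → ℂ) n)) := by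
    rw [one_mul]; exact hη
  have hprodinv : ∀ g : G, conjFun N hN ((1 : N → ℂ) * (fun n : N => (η : G → ℂ) n)) g =
      (1 : N → ℂ) * (fun n : N => (η : G → ℂ) n) := by
    intro g
    rw [one_mul]
    ext n
    rw [conjFun_apply]
    exact hηcf n g
  obtain ⟨m, hm⟩ := exists_nat_decomp
    (isCharacter_indFun N (IsIrrCharacter.isCharacter h1N))
  obtain ⟨hirr, -, hΨ⟩ := gallagher_core N hN h1N h1inv hprod hprodinv η.2 rfl m hm
  rw [one_mul] at hΨ
  have h1 : classInner (indFun N (fun n : N => (η : G → ℂ) n)) (ψ : G → ℂ) ≠ 0 := by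
    rw [frobenius_reciprocity N _ hψcf]
    intro h0
    apply hne
    rw [classInner_conj_symm, h0, map_zero]
  rw [hΨ, classInner_sum_left] at h1
  obtain ⟨β, _, hβ⟩ := Finset.exists_ne_zero_of_sum_ne_zero h1
  rw [classInner_smul_left] at hβ
  have hmβ : m β ≠ 0 := by
    intro h0; apply hβ; rw [h0]; simp
  have hβψ : classInner ((β : G → ℂ) * (η : G → ℂ)) (ψ : G → ℂ) ≠ 0 := by
    intro h0; apply hβ; rw [h0, mul_zero]
  have heq : (β : G → ℂ) * (η : G → ℂ) = (ψ : G → ℂ) :=
    eq_of_classInner_ne_zero (hirr β hmβ) ψ.2 hβψ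
  refine ⟨β, ?_, heq.symm⟩
  apply (ind_one_mult_ne_zero_iff N hN β).mp
  have h5 : classInner (indFun N (1 : N → ℂ)) (β : G → ℂ) = (m β : ℂ) := by
    rw [hm]
    exact classInner_nat_decomp (fun γ' => (m γ' : ℂ)) β
  rw [h5]
  exact_mod_cast hmβ

end AbsCliff

end Cfsg.Agent.Helper79.Cop
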