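import Cfsg.Agent.Lib.Helper79.Coprime.OneChar

set_option autoImplicit false
set_option linter.unusedSectionVars false
set_option linter.style.haveILetI false

namespace Cfsg.Agent.Helper79.Cop

open Cfsg Cfsg.Agent.Helper81 Cfsg.Agent.Helper79.Glaub
open scoped ComplexConjugate

universe u

open scoped Pointwise

section KerPrimeA

variable {G : Type u} [Group G] [Fintype G]

/-- if the trivial character is a constituent of `χ_N`, `N` normal, then `N ≤ ker χ` -/
theorem le_irrKer_of_inner_one (N : Subgroup G) [Fintype N] (hN : N.Normal) (χ : IrrCharacter G)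
    (h : classInner (fun n : N => (χ : G → ℂ) n) (1 : N → ℂ) ≠ 0) :
    N ≤ Cfsg.Agent.Helper79.irrKer χ := by
  classical
  have h1N : IsIrrCharacter N (1 : N → ℂ) := isIrrCharacter_one
  have h1inv : ∀ g : G, conjFun N hN (1 : N → ℂ) g = 1 := fun g => rfl
  have hcl := clifford N hN χ.2 h1N h
  have hset : conjSet N hN (1 : N → ℂ) = {(1 : N → ℂ)} := by
    ext ψ
    constructor
    · rintro ⟨g, rfl⟩
      exact h1inv g
    · intro h
      exact ⟨1, by rw [h]; exact (h1inv 1).symm⟩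
  rw [hset, finsum_mem_singleton] at hcl
  intro n hn
  rw [Cfsg.Agent.Helper79.mem_irrKer]
  have h7 := congrFun hcl ⟨n, hn⟩
  have h8 := congrFun hcl 1
  simp only [Pi.smul_apply, Pi.one_apply, smul_eq_mul, mul_one] at h7 h8
  have h9 : ((1 : N) : G) = 1 := rfl
  rw [h9] at h8
  show (χ : G → ℂ) n = (χ : G → ℂ) 1
  rw [h8]
  exact h7

/-- the index of the inertia group of a constituent divides the degree -/
theorem inertia_index_dvd_degree (N : Subgroup G) [Fintype N] (hN : N.Normal) {χ : G → ℂ}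
    (hχ : IsIrrCharacter G χ) {θ : N → ℂ} (hθ : IsIrrCharacter N θ)
    (hne : classInner (fun n : N => χ n) θ ≠ 0) :
    (inertia N hN θ).index ∣ charDegree χ := by
  classical
  set T := inertia N hN θ with hT
  haveI : Fintype T := Fintype.ofFinite _
  have hNT : N ≤ T := le_inertia N hN (isClassFunction_of_isCharacter (IsIrrCharacter.isCharacter hθ))
  obtain ⟨ψ, hψ, hind, _⟩ := clifford_corr_surj N T hN hNT hθ (fun g => Iff.rfl) hχ hne
  have h1 := congrFun hind 1
  rw [indFun_one] at h1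
  have h2 : ψ 1 = (charDegree ψ : ℂ) := (Cfsg.Agent.Helper79.irr_one_eq ⟨ψ, hψ⟩).1
  have h3 : χ 1 = (charDegree χ : ℂ) := (Cfsg.Agent.Helper79.irr_one_eq ⟨χ, hχ⟩).1
  rw [h2, h3] at h1
  have h4 : T.index * charDegree ψ = charDegree χ := by exact_mod_cast h1
  exact ⟨_, h4.symm⟩

omit [Fintype G] in
/-- a subgroup of index prime to `p` contains a conjugate of any Sylow `p`-subgroup -/
theorem exists_conj_le_of_not_dvd_index [Finite G] {p : ℕ} [hp : Fact p.Prime] (P : Sylow p G)
    (T : Subgroup G) (hT : ¬ p ∣ T.index) : ∃ g : G, ∀ s ∈ P, g⁻¹ * s * g ∈ T := by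
  classical
  set v := (Nat.card G).factorization p with hv
  have hdvd : p ^ v ∣ Nat.card T := by
    have h1 : p ^ v ∣ Nat.card G := Nat.ordProj_dvd (Nat.card G) p
    have h2 : Nat.card T * T.index = Nat.card G := Subgroup.card_mul_index T
    rw [← h2] at h1
    exact (Nat.Coprime.pow_left v
      ((Nat.Prime.coprime_iff_not_dvd hp.out).mpr hT)).dvd_of_dvd_mul_right h1
  obtain ⟨Q₀, hQ₀⟩ := Sylow.exists_subgroup_card_pow_prime p hdvd
  set Q : Subgroup G := Q₀.map T.subtype with hQ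
  have hQcard : Nat.card Q = p ^ v := by
    rw [hQ, Subgroup.card_map_of_injective T.subtype_injective, hQ₀]
  let Qs : Sylow p G := Sylow.ofCard Q hQcard
  obtain ⟨g, hg⟩ := MulAction.exists_smul_eq G Qs P
  refine ⟨g, ?_⟩
  intro s hs
  have hs' : s ∈ ((g • Qs : Sylow p G) : Subgroup G) := by rw [hg]; exact hs
  have hs'' : s ∈ MulAut.conj g • (Qs : Subgroup G) := by
    rw [← Sylow.coe_subgroup_smul]; exact hs'
  rw [Subgroup.mem_smul_pointwise_iff_exists] at hs''
  obtain ⟨b, hb, rfl⟩ := hs''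
  have hbQ : b ∈ Q := hb
  obtain ⟨b₀, _, rfl⟩ := Subgroup.mem_map.mp hbQ
  rw [MulAut.smul_def, MulAut.conj_apply]
  have : g⁻¹ * (g * (T.subtype b₀) * g⁻¹) * g = (b₀ : G) := by
    show g⁻¹ * (g * (b₀ : G) * g⁻¹) * g = (b₀ : G)
    group
  rw [this]
  exact b₀.2

/-- an irreducible character of degree prime to `p` has a constituent on the normal subgroup `N`
that is invariant under a given Sylow `p`-subgroup -/
theorem exists_invariant_constituent {p : ℕ} [hp : Fact p.Prime] (P : Sylow p G)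
    (N : Subgroup G) [Fintype N] (hN : N.Normal) (χ : IrrCharacter G)
    (hχ : ¬ p ∣ charDegree (χ : G → ℂ)) :
    ∃ η : N → ℂ, IsIrrCharacter N η ∧ classInner (fun n : N => (χ : G → ℂ) n) η ≠ 0 ∧
      ∀ s ∈ P, conjFun N hN η s = η := by
  classical
  have hres : IsCharacter N (fun n : N => (χ : G → ℂ) n) :=
    isCharacter_restrict N (IsIrrCharacter.isCharacter χ.2)
  have hres0 : (fun n : N => (χ : G → ℂ) n) ≠ 0 := by
    intro h0
    have h1 := congrFun h0 1
    have h2 := Cfsg.Agent.Helper79.irr_one_eq χ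
    simp only [Pi.zero_apply, Subgroup.coe_one] at h1
    rw [h2.1] at h1
    have : charDegree (χ : G → ℂ) = 0 := by exact_mod_cast h1
    exact h2.2.ne' this
  obtain ⟨θ₀, hθ₀, hne⟩ := exists_irr_constituent hres hres0
  have hidx := inertia_index_dvd_degree N hN χ.2 hθ₀ hne
  have hT : ¬ p ∣ (inertia N hN θ₀).index := fun h => hχ (h.trans hidx)
  obtain ⟨g, hg⟩ := exists_conj_le_of_not_dvd_index P (inertia N hN θ₀) hT
  have hχcf := isClassFunction_of_isCharacter (IsIrrCharacter.isCharacter χ.2)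
  refine ⟨conjFun N hN θ₀ g⁻¹, conjFun_isIrrCharacter N hN hθ₀ g⁻¹, ?_, ?_⟩
  · rw [classInner_restrict_conjFun N hN hχcf θ₀ g⁻¹]
    exact hne
  · intro s hs
    rw [conjFun_mul]
    have h1 : g⁻¹ * s = (g⁻¹ * s * g) * g⁻¹ := by group
    rw [h1, ← conjFun_mul]
    have h2 : conjFun N hN θ₀ (g⁻¹ * s * g) = θ₀ := (mem_inertia N hN θ₀ _).mp (hg s hs)
    rw [h2]

/-- a character of degree prime to `p` has an irreducible constituent of degree prime to `p` -/
theorem exists_constituent_not_dvd {p : ℕ} [hp : Fact p.Prime] {Θ : G → ℂ}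
    (hΘ : IsCharacter G Θ) (d : ℕ) (hd : Θ 1 = (d : ℂ)) (hpd : ¬ p ∣ d) :
    ∃ χ : IrrCharacter G, classInner Θ (χ : G → ℂ) ≠ 0 ∧ ¬ p ∣ charDegree (χ : G → ℂ) := by
  classical
  haveI : Fintype (IrrCharacter G) := @Fintype.ofFinite _ irr_finite
  obtain ⟨m, hm⟩ := exists_nat_decomp hΘ
  have h1 : (d : ℂ) = ((∑ χ : IrrCharacter G, m χ * charDegree (χ : G → ℂ) : ℕ) : ℂ) := by
    rw [← hd, hm, Finset.sum_apply, Nat.cast_sum]
    apply Finset.sum_congr rfl
    intro χ _
    rw [Pi.smul_apply, smul_eq_mul, (Cfsg.Agent.Helper79.irr_one_eq χ).1, Nat.cast_mul]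
  have h2 : d = ∑ χ : IrrCharacter G, m χ * charDegree (χ : G → ℂ) := by exact_mod_cast h1
  by_contra hcon
  push Not at hcon
  apply hpd
  rw [h2]
  apply Finset.dvd_sum
  intro χ _
  by_cases h0 : m χ = 0
  · rw [h0, zero_mul]; exact dvd_zero p
  · apply Dvd.dvd.mul_left
    apply hcon χ
    rw [hm, classInner_nat_decomp (fun γ => (m γ : ℂ)) χ]
    exact_mod_cast h0

end KerPrimeA

end Cfsg.Agent.Helper79.Cop
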