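import Cfsg.Agent.Lib.Helper79.Coprime.AmbGall
import Cfsg.Agent.Lib.Helper81.CharCyc
import Cfsg.Agent.Lib.Helper81.CharDet

set_option autoImplicit false
set_option linter.unusedSectionVars false
set_option linter.style.haveILetI false

namespace Cfsg.Agent.Helper79.Cop

open Cfsg Cfsg.Agent.Helper81 Cfsg.Agent.Helper79.Glaub
open scoped ComplexConjugate

universe u

section ResIrr

/-- a character whose restriction to a subgroup is irreducible is irreducible -/
theorem irr_of_res_irr {D : Type u} [Group D] [Fintype D] (H : Subgroup D) {φ : D → ℂ}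
    (hφ : IsCharacter D φ) (h : IsIrrCharacter H (fun n : H => φ n)) : IsIrrCharacter D φ := by
  obtain ⟨k, ρ, rfl⟩ := hφ
  let σ : Representation ℂ H (Fin k → ℂ) := ρ.comp H.subtype
  have h1 : (fun n : H => ρ.character n) = σ.character := rfl
  rw [h1] at h
  haveI : Fintype H := Fintype.ofFinite _
  have h2 : Representation.IsIrreducible (ρ.comp H.subtype : Representation ℂ H (Fin k → ℂ)) :=
    isIrreducible_of_character_irr σ h
  haveI := isIrreducible_of_restrict ρ H h2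
  exact isIrrCharacter_of_rep ρ

variable {Γ : Type u} [Group Γ] [Fintype Γ]

theorem irr_of_res_irr_amb (Q D : Subgroup Γ) [Fintype Q] [Fintype D] (hQD : Q ≤ D) {φ : D → ℂ}
    (hφ : IsCharacter D φ)
    (h : IsIrrCharacter Q (fun q : Q => φ (Subgroup.inclusion hQD q))) :
    IsIrrCharacter D φ := by
  classical
  haveI : Fintype (Q.subgroupOf D) := Fintype.ofFinite _
  exact irr_of_res_irr (Q.subgroupOf D) hφ (irr_res_subgroupOf hQD φ h)

/-- restriction of a constituent: multiplicities only grow -/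
theorem res_mult_add (Q D : Subgroup Γ) [Fintype Q] [Fintype D] (hQD : Q ≤ D) {α φ : D → ℂ}
    (hα : IsCharacter D α) (hφ : IsIrrCharacter D φ) (hne : classInner α φ ≠ 0)
    (θ : IrrCharacter Q) :
    ∃ k : ℕ, classInner (fun q : Q => α (Subgroup.inclusion hQD q)) (θ : Q → ℂ) =
      classInner (fun q : Q => φ (Subgroup.inclusion hQD q)) (θ : Q → ℂ) + (k : ℂ) := by
  obtain ⟨α', hα', hsum⟩ := exists_add_of_classInner_ne_zero hα hφ hne
  have hα'Q : IsCharacter Q (fun q : Q => α' (Subgroup.inclusion hQD q)) :=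
    isCharacter_comp_hom (Subgroup.inclusion hQD) hα'
  obtain ⟨k, hk⟩ := exists_nat_classInner hα'Q θ.2
  refine ⟨k, ?_⟩
  rw [← hk, ← classInner_add_left, hsum]
  rfl

/-- lying over is transitive -/
theorem over_trans (Q D : Subgroup Γ) [Fintype Q] [Fintype D] (hQD : Q ≤ D) {α φ : D → ℂ}
    (hα : IsCharacter D α) (hφ : IsIrrCharacter D φ) (hne : classInner α φ ≠ 0)
    (θ : IrrCharacter Q)
    (hθ : classInner (fun q : Q => φ (Subgroup.inclusion hQD q)) (θ : Q → ℂ) ≠ 0) :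
    classInner (fun q : Q => α (Subgroup.inclusion hQD q)) (θ : Q → ℂ) ≠ 0 := by
  obtain ⟨k, hk⟩ := res_mult_add Q D hQD hα hφ hne θ
  have hφQ : IsCharacter Q (fun q : Q => φ (Subgroup.inclusion hQD q)) :=
    isCharacter_comp_hom (Subgroup.inclusion hQD) (IsIrrCharacter.isCharacter hφ)
  obtain ⟨k₀, hk₀⟩ := exists_nat_classInner hφQ θ.2
  rw [hk, hk₀]
  rw [hk₀] at hθ
  have h0 : k₀ ≠ 0 := by
    intro h0; apply hθ; rw [h0]; simp
  have : k₀ + k ≠ 0 := by omega
  exact_mod_cast this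

end ResIrr

section PData

variable {Γ : Type u} [Group Γ] [Fintype Γ]

/-- the data of the Clifford--Gallagher parametrization: `I` is the inertia group in `A` of the
character `θ` of the normal subgroup `Q`, and `η` extends `θ` to `I` -/
structure PData (A Q I : Subgroup Γ) (θ : IrrCharacter Q) (η : IrrCharacter I) : Prop where
  hQI : Q ≤ I
  hIA : I ≤ A
  hAQ : ∀ a ∈ A, ∀ q ∈ Q, a * q * a⁻¹ ∈ Q
  hI : ∀ a ∈ A, a ∈ I ↔ InvAt Q (θ : Q → ℂ) a
  hηθ : ∀ q : Q, (η : I → ℂ) (Subgroup.inclusion hQI q) = (θ : Q → ℂ) q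

variable {A Q I : Subgroup Γ} [Fintype A] [Fintype Q] [Fintype I] {θ : IrrCharacter Q}
  {η : IrrCharacter I}

theorem PData.hIQ (h : PData A Q I θ η) : ∀ i ∈ I, ∀ q ∈ Q, i * q * i⁻¹ ∈ Q :=
  fun i hi q hq => h.hAQ i (h.hIA hi) q hq

theorem PData.hηirr (h : PData A Q I θ η) :
    IsIrrCharacter Q (fun q : Q => (η : I → ℂ) (Subgroup.inclusion h.hQI q)) := by
  have : (fun q : Q => (η : I → ℂ) (Subgroup.inclusion h.hQI q)) = (θ : Q → ℂ) :=
    funext h.hηθ
  rw [this]
  exact θ.2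

/-- the product `β η` as an irreducible character -/
noncomputable def PData.prod (h : PData A Q I θ η) (β : IrrCharacter I)
    (hβ : TrivOn h.hQI (β : I → ℂ)) : IrrCharacter I :=
  ⟨(β : I → ℂ) * (η : I → ℂ), amb_gallagher_irr Q I h.hQI h.hIQ η β h.hηirr hβ⟩

theorem PData.prod_coe (h : PData A Q I θ η) (β : IrrCharacter I)
    (hβ : TrivOn h.hQI (β : I → ℂ)) :
    (h.prod β hβ : I → ℂ) = (β : I → ℂ) * (η : I → ℂ) := rfl

/-- `β η` lies over `θ` -/
theorem PData.prod_over (h : PData A Q I θ η) (β : IrrCharacter I)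
    (hβ : TrivOn h.hQI (β : I → ℂ)) :
    classInner (fun q : Q => ((β : I → ℂ) * (η : I → ℂ)) (Subgroup.inclusion h.hQI q))
      (θ : Q → ℂ) ≠ 0 := by
  have h1 : (fun q : Q => ((β : I → ℂ) * (η : I → ℂ)) (Subgroup.inclusion h.hQI q)) =
      ((β : I → ℂ) 1) • (θ : Q → ℂ) := by
    funext q
    rw [Pi.mul_apply, hβ q, h.hηθ q]
    rfl
  rw [h1, classInner_smul_left, Cfsg.Agent.Helper81.irr_orthonormal θ.2 θ.2, if_pos rfl, mul_one]
  have h2 := Cfsg.Agent.Helper79.irr_one_eq β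
  rw [h2.1]
  have := h2.2
  exact_mod_cast this.ne'

/-- the relation between `χ ∈ Irr(A)` and `β ∈ Irr(I)` -/
def RelP (hIA : I ≤ A) (η : I → ℂ) (χ : IrrCharacter A) (β : IrrCharacter I) : Prop :=
  classInner (fun i : I => (χ : A → ℂ) (Subgroup.inclusion hIA i)) ((β : I → ℂ) * η) ≠ 0

/-- (P1) every `β` trivial on `Q` has a Clifford correspondent -/
theorem PData.param_exists (h : PData A Q I θ η) (β : IrrCharacter I)
    (hβ : TrivOn h.hQI (β : I → ℂ)) :
    ∃ χ : IrrCharacter A,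
      classInner (fun i : I => (χ : A → ℂ) (Subgroup.inclusion h.hIA i))
        ((β : I → ℂ) * (η : I → ℂ)) = 1 ∧
      classInner (fun q : Q => (χ : A → ℂ) (Subgroup.inclusion (h.hQI.trans h.hIA) q))
        (θ : Q → ℂ) ≠ 0 ∧
      (∀ ψ' : IrrCharacter I,
        classInner (fun q : Q => (ψ' : I → ℂ) (Subgroup.inclusion h.hQI q)) (θ : Q → ℂ) ≠ 0 →
        (ψ' : I → ℂ) ≠ (β : I → ℂ) * (η : I → ℂ) →
        classInner (fun i : I => (χ : A → ℂ) (Subgroup.inclusion h.hIA i)) (ψ' : I → ℂ) = 0) ∧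
      (∀ χ' : IrrCharacter A, RelP h.hIA (η : I → ℂ) χ' β → χ' = χ) ∧
      (∀ f : A → ℂ, IsClassFunction A f →
        classInner (χ : A → ℂ) f =
          classInner ((β : I → ℂ) * (η : I → ℂ)) (fun i : I => f (Subgroup.inclusion h.hIA i))) := by
  obtain ⟨χ, h1, h2, h3, h4, h5⟩ := amb_cliff A Q I h.hQI h.hIA h.hAQ θ h.hI (h.prod β hβ)
    (h.prod_over β hβ)
  refine ⟨χ, h1, h2, ?_, h4, h5⟩
  intro ψ' hψ' hne
  apply h3 ψ' hψ'
  intro heq
  apply hne
  rw [heq]
  rfl

/-- (P2) every character over `θ` arises -/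
theorem PData.param_surj (h : PData A Q I θ η) (χ : IrrCharacter A)
    (hne : classInner (fun q : Q => (χ : A → ℂ) (Subgroup.inclusion (h.hQI.trans h.hIA) q))
      (θ : Q → ℂ) ≠ 0) :
    ∃ β : IrrCharacter I, TrivOn h.hQI (β : I → ℂ) ∧ RelP h.hIA (η : I → ℂ) χ β := by
  obtain ⟨ψ, hψ, hχψ⟩ := amb_cliff_surj A Q I h.hQI h.hIA h.hAQ θ h.hI χ hne
  have hψ' : classInner (fun q : Q => (ψ : I → ℂ) (Subgroup.inclusion h.hQI q))
      (fun q : Q => (η : I → ℂ) (Subgroup.inclusion h.hQI q)) ≠ 0 := by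
    have : (fun q : Q => (η : I → ℂ) (Subgroup.inclusion h.hQI q)) = (θ : Q → ℂ) :=
      funext h.hηθ
    rw [this]
    exact hψ
  obtain ⟨β, hβ, hprod⟩ := amb_gallagher_surj Q I h.hQI h.hIQ η ψ h.hηirr hψ'
  refine ⟨β, hβ, ?_⟩
  unfold RelP
  rw [← hprod]
  exact hχψ

theorem PData.rel_unique_left (h : PData A Q I θ η) {χ χ' : IrrCharacter A}
    {β : IrrCharacter I} (hβ : TrivOn h.hQI (β : I → ℂ))
    (h1 : RelP h.hIA (η : I → ℂ) χ β) (h2 : RelP h.hIA (η : I → ℂ) χ' β) : χ = χ' := by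
  obtain ⟨χ₀, _, _, _, h4, _⟩ := h.param_exists β hβ
  rw [h4 χ h1, h4 χ' h2]

theorem PData.rel_unique_right (h : PData A Q I θ η) {χ : IrrCharacter A}
    {β β' : IrrCharacter I} (hβ : TrivOn h.hQI (β : I → ℂ)) (hβ' : TrivOn h.hQI (β' : I → ℂ))
    (h1 : RelP h.hIA (η : I → ℂ) χ β) (h2 : RelP h.hIA (η : I → ℂ) χ β') : β = β' := by
  obtain ⟨χ₀, _, _, h3, h4, _⟩ := h.param_exists β hβ
  have hχ : χ = χ₀ := h4 χ h1
  by_contra hne
  apply h2
  rw [hχ]
  apply h3 (h.prod β' hβ') (h.prod_over β' hβ')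
  intro heq
  apply hne
  exact (amb_gallagher_inj Q I h.hQI h.hIQ η β' β h.hηirr hβ' hβ heq).symm

theorem PData.rel_mult_one (h : PData A Q I θ η) {χ : IrrCharacter A}
    {β : IrrCharacter I} (hβ : TrivOn h.hQI (β : I → ℂ))
    (h1 : RelP h.hIA (η : I → ℂ) χ β) :
    classInner (fun i : I => (χ : A → ℂ) (Subgroup.inclusion h.hIA i))
      ((β : I → ℂ) * (η : I → ℂ)) = 1 := by
  obtain ⟨χ₀, h1', _, _, h4, _⟩ := h.param_exists β hβ
  rw [h4 χ h1]
  exact h1'

theorem PData.rel_over (h : PData A Q I θ η) {χ : IrrCharacter A}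
    {β : IrrCharacter I} (hβ : TrivOn h.hQI (β : I → ℂ))
    (h1 : RelP h.hIA (η : I → ℂ) χ β) :
    classInner (fun q : Q => (χ : A → ℂ) (Subgroup.inclusion (h.hQI.trans h.hIA) q))
      (θ : Q → ℂ) ≠ 0 := by
  obtain ⟨χ₀, _, h2, _, h4, _⟩ := h.param_exists β hβ
  rw [h4 χ h1]
  exact h2

theorem PData.rel_other_zero (h : PData A Q I θ η) {χ : IrrCharacter A}
    {β : IrrCharacter I} (hβ : TrivOn h.hQI (β : I → ℂ))
    (h1 : RelP h.hIA (η : I → ℂ) χ β) (ψ' : IrrCharacter I)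
    (hψ' : classInner (fun q : Q => (ψ' : I → ℂ) (Subgroup.inclusion h.hQI q)) (θ : Q → ℂ) ≠ 0)
    (hne : (ψ' : I → ℂ) ≠ (β : I → ℂ) * (η : I → ℂ)) :
    classInner (fun i : I => (χ : A → ℂ) (Subgroup.inclusion h.hIA i)) (ψ' : I → ℂ) = 0 := by
  obtain ⟨χ₀, _, _, h3, h4, _⟩ := h.param_exists β hβ
  rw [h4 χ h1]
  exact h3 ψ' hψ' hne

theorem PData.rel_frob (h : PData A Q I θ η) {χ : IrrCharacter A}
    {β : IrrCharacter I} (hβ : TrivOn h.hQI (β : I → ℂ))
    (h1 : RelP h.hIA (η : I → ℂ) χ β) (f : A → ℂ) (hf : IsClassFunction A f) :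
    classInner (χ : A → ℂ) f =
      classInner ((β : I → ℂ) * (η : I → ℂ)) (fun i : I => f (Subgroup.inclusion h.hIA i)) := by
  obtain ⟨χ₀, _, _, _, h4, h5⟩ := h.param_exists β hβ
  rw [h4 χ h1]
  exact h5 f hf

/-- equivariance of the parametrization -/
theorem PData.rel_conj (h : PData A Q I θ η) (x : Γ) (hA : NormAt A x) (hIx : NormAt I x)
    (hηx : InvAt I (η : I → ℂ) x) {χ : IrrCharacter A} {β : IrrCharacter I}
    (h1 : RelP h.hIA (η : I → ℂ) χ β) :
    RelP h.hIA (η : I → ℂ) (irrComp (conjEquiv A x hA) χ) (irrComp (conjEquiv I x hIx) β) := by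
  unfold RelP at h1 ⊢
  have key : classInner
      (fun i : I => (irrComp (conjEquiv A x hA) χ : A → ℂ) (Subgroup.inclusion h.hIA i))
      ((irrComp (conjEquiv I x hIx) β : I → ℂ) * (η : I → ℂ)) =
      classInner (fun i : I => (χ : A → ℂ) (Subgroup.inclusion h.hIA i))
        ((β : I → ℂ) * (η : I → ℂ)) := by
    rw [← classInner_comp_equiv (conjEquiv I x hIx)
      (fun i : I => (χ : A → ℂ) (Subgroup.inclusion h.hIA i)) ((β : I → ℂ) * (η : I → ℂ))]
    congr 1
    funext i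
    rw [Pi.mul_apply, Pi.mul_apply, irrComp_apply]
    congr 1
    exact ((invAt_iff_conjEquiv I x hIx (η : I → ℂ)).mp hηx i).symm
  rw [key]
  exact h1

theorem trivOn_conj {I Q : Subgroup Γ} (hQI : Q ≤ I) (x : Γ) (hIx : NormAt I x)
    (hQx : NormAt Q x) (β : IrrCharacter I) (hβ : TrivOn hQI (β : I → ℂ)) :
    TrivOn hQI (irrComp (conjEquiv I x hIx) β : I → ℂ) := by
  intro q
  rw [irrComp_apply, irrComp_apply, map_one]
  have : conjEquiv I x hIx (Subgroup.inclusion hQI q) =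
      Subgroup.inclusion hQI (conjEquiv Q x hQx q) := Subtype.ext rfl
  rw [this]
  exact hβ _

/-- invariance corresponds under the parametrization -/
theorem PData.inv_iff (h : PData A Q I θ η) (x : Γ) (hA : NormAt A x) (hIx : NormAt I x)
    (hQx : NormAt Q x) (hηx : InvAt I (η : I → ℂ) x) {χ : IrrCharacter A} {β : IrrCharacter I}
    (hβ : TrivOn h.hQI (β : I → ℂ)) (h1 : RelP h.hIA (η : I → ℂ) χ β) :
    InvAt A (χ : A → ℂ) x ↔ InvAt I (β : I → ℂ) x := by
  rw [invAt_iff_irrComp x hA χ, invAt_iff_irrComp x hIx β]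
  have h2 := h.rel_conj x hA hIx hηx h1
  constructor
  · intro hχ
    rw [hχ] at h2
    exact (h.rel_unique_right hβ (trivOn_conj h.hQI x hIx hQx β hβ) h1 h2).symm
  · intro hβx
    rw [hβx] at h2
    exact (h.rel_unique_left hβ h1 h2).symm

end PData

section FormulaB

variable {Γ : Type u} [Group Γ] [Fintype Γ]

/-- constituents of the restriction of a character trivial on `Q` are trivial on `Q` -/
theorem trivOn_constituent (Q D T : Subgroup Γ) [Fintype Q] [Fintype D] [Fintype T]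
    (hQD : Q ≤ D) (hDT : D ≤ T) (hDQ : ∀ d ∈ D, ∀ q ∈ Q, d * q * d⁻¹ ∈ Q)
    (β : IrrCharacter T) (hβ : TrivOn (hQD.trans hDT) (β : T → ℂ)) (γ' : IrrCharacter D)
    (hne : classInner (fun d : D => (β : T → ℂ) (Subgroup.inclusion hDT d)) (γ' : D → ℂ) ≠ 0) :
    TrivOn hQD (γ' : D → ℂ) := by
  classical
  haveI : Fintype (Q.subgroupOf D) := Fintype.ofFinite _
  rw [trivOn_iff]
  apply le_irrKer_of_inner_one (Q.subgroupOf D) (normal_subgroupOf_of_conj hDQ) γ'
  -- a constituent of the restriction of `γ'` to `Q`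
  have hγQ : IsCharacter Q (fun q : Q => (γ' : D → ℂ) (Subgroup.inclusion hQD q)) :=
    isCharacter_comp_hom (Subgroup.inclusion hQD) (IsIrrCharacter.isCharacter γ'.2)
  have hγ0 : (fun q : Q => (γ' : D → ℂ) (Subgroup.inclusion hQD q)) ≠ 0 := by
    intro h0
    have h1 := congrFun h0 1
    simp only [map_one, Pi.zero_apply] at h1
    have h2 := Cfsg.Agent.Helper79.irr_one_eq γ'
    rw [h2.1] at h1
    have := h2.2
    have h3 : charDegree (γ' : D → ℂ) = 0 := by exact_mod_cast h1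
    omega
  obtain ⟨φ, hφ, hφne⟩ := exists_irr_constituent hγQ hγ0
  have hβD : IsCharacter D (fun d : D => (β : T → ℂ) (Subgroup.inclusion hDT d)) :=
    isCharacter_comp_hom (Subgroup.inclusion hDT) (IsIrrCharacter.isCharacter β.2)
  have h1 := over_trans Q D hQD hβD γ'.2 hne ⟨φ, hφ⟩ hφne
  have h2 : (fun q : Q => (fun d : D => (β : T → ℂ) (Subgroup.inclusion hDT d))
      (Subgroup.inclusion hQD q)) = ((β : T → ℂ) 1) • (1 : Q → ℂ) := by
    funext q
    have := hβ q
    simp only [Pi.smul_apply, Pi.one_apply, smul_eq_mul, mul_one]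
    rw [← this]
    rfl
  rw [h2, classInner_smul_left] at h1
  have h1Q : IsIrrCharacter Q (1 : Q → ℂ) := isIrrCharacter_one
  have h3 : classInner (1 : Q → ℂ) φ ≠ 0 := by
    intro h0
    apply h1
    show (β : T → ℂ) 1 * classInner (1 : Q → ℂ) φ = 0
    rw [h0, mul_zero]
  have h4 : (1 : Q → ℂ) = φ := eq_of_classInner_ne_zero h1Q hφ h3
  rw [← h4] at hφne
  rw [← classInner_comp_equiv (Subgroup.subgroupOfEquivOfLe hQD)] at hφne
  exact hφne

variable {K C T D Q : Subgroup Γ} [Fintype K] [Fintype C] [Fintype T] [Fintype D] [Fintype Q]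
  {θ : IrrCharacter Q} {η : IrrCharacter T} {ηD : IrrCharacter D}

/-- the multiplicities of the restriction from `K` to `C` are those of the restriction of the
parameters from `T` to `D` -/
theorem formulaB (hK : PData K Q T θ η) (hC : PData C Q D θ ηD) (hCK : C ≤ K) (hDT : D ≤ T)
    (hηD : ∀ d : D, (ηD : D → ℂ) d = (η : T → ℂ) (Subgroup.inclusion hDT d))
    {χ : IrrCharacter K} {β : IrrCharacter T} (hβ : TrivOn hK.hQI (β : T → ℂ))
    (hχβ : RelP hK.hIA (η : T → ℂ) χ β)
    {ξ : IrrCharacter C} {γ : IrrCharacter D} (hγ : TrivOn hC.hQI (γ : D → ℂ))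
    (hξγ : RelP hC.hIA (ηD : D → ℂ) ξ γ) :
    classInner (fun c : C => (χ : K → ℂ) (Subgroup.inclusion hCK c)) (ξ : C → ℂ) =
      classInner (fun d : D => (β : T → ℂ) (Subgroup.inclusion hDT d)) (γ : D → ℂ) := by
  classical
  haveI : Fintype (IrrCharacter T) := @Fintype.ofFinite _ irr_finite
  haveI : Fintype (IrrCharacter D) := @Fintype.ofFinite _ irr_finite
  -- step 1: Frobenius reciprocity
  have hf : IsClassFunction C (fun c : C => (χ : K → ℂ) (Subgroup.inclusion hCK c)) :=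
    isClassFunction_of_isCharacter
      (isCharacter_comp_hom (Subgroup.inclusion hCK) (IsIrrCharacter.isCharacter χ.2))
  have e1 := hC.rel_frob hγ hξγ _ hf
  have hχD : (fun d : D => (fun c : C => (χ : K → ℂ) (Subgroup.inclusion hCK c))
      (Subgroup.inclusion hC.hIA d)) =
      fun d : D => (fun t : T => (χ : K → ℂ) (Subgroup.inclusion hK.hIA t))
        (Subgroup.inclusion hDT d) := by
    funext d
    apply congrArg
    exact Subtype.ext rfl
  rw [hχD] at e1
  rw [classInner_conj_symm, e1, ← classInner_conj_symm]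
  -- step 2: decompose the restriction to `T`
  have hχT : IsCharacter T (fun t : T => (χ : K → ℂ) (Subgroup.inclusion hK.hIA t)) :=
    isCharacter_comp_hom (Subgroup.inclusion hK.hIA) (IsIrrCharacter.isCharacter χ.2)
  obtain ⟨a, ha⟩ := exists_nat_decomp hχT
  have haψ : ∀ ψ' : IrrCharacter T,
      classInner (fun t : T => (χ : K → ℂ) (Subgroup.inclusion hK.hIA t)) (ψ' : T → ℂ) =
        (a ψ' : ℂ) := by
    intro ψ'
    rw [ha]
    exact classInner_nat_decomp (fun χ' => (a χ' : ℂ)) ψ'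
  set ψ₀ : IrrCharacter T := hK.prod β hβ with hψ₀
  set φ : IrrCharacter D := hC.prod γ hγ with hφ
  have hstep2 : classInner (fun d : D => (fun t : T => (χ : K → ℂ) (Subgroup.inclusion hK.hIA t))
      (Subgroup.inclusion hDT d)) ((γ : D → ℂ) * (ηD : D → ℂ)) =
      classInner (fun d : D => ((β : T → ℂ) * (η : T → ℂ)) (Subgroup.inclusion hDT d))
        ((γ : D → ℂ) * (ηD : D → ℂ)) := by
    have h1 : (fun d : D => (fun t : T => (χ : K → ℂ) (Subgroup.inclusion hK.hIA t))
        (Subgroup.inclusion hDT d)) =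
        ∑ ψ' : IrrCharacter T, (a ψ' : ℂ) •
          (fun d : D => (ψ' : T → ℂ) (Subgroup.inclusion hDT d)) := by
      funext d
      have := congrFun ha (Subgroup.inclusion hDT d)
      refine this.trans ?_
      simp only [Finset.sum_apply, Pi.smul_apply]
    rw [h1, classInner_sum_left, Finset.sum_eq_single ψ₀]
    · rw [classInner_smul_left]
      have h2 : (a ψ₀ : ℂ) = 1 := by
        rw [← haψ ψ₀]
        exact hK.rel_mult_one hβ hχβ
      rw [h2, one_mul]
      rfl
    · intro ψ' _ hne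
      rw [classInner_smul_left]
      by_cases hz : classInner (fun d : D => (ψ' : T → ℂ) (Subgroup.inclusion hDT d))
          ((γ : D → ℂ) * (ηD : D → ℂ)) = 0
      · rw [hz, mul_zero]
      · have hψ'D : IsCharacter D (fun d : D => (ψ' : T → ℂ) (Subgroup.inclusion hDT d)) :=
          isCharacter_comp_hom (Subgroup.inclusion hDT) (IsIrrCharacter.isCharacter ψ'.2)
        have hover := over_trans Q D hC.hQI hψ'D φ.2 hz θ (hC.prod_over γ hγ)
        have hover' : classInner (fun q : Q => (ψ' : T → ℂ) (Subgroup.inclusion hK.hQI q))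
            (θ : Q → ℂ) ≠ 0 := hover
        have hne' : (ψ' : T → ℂ) ≠ (β : T → ℂ) * (η : T → ℂ) := by
          intro heq
          apply hne
          exact Subtype.ext heq
        have h3 := hK.rel_other_zero hβ hχβ ψ' hover' hne'
        rw [haψ ψ'] at h3
        rw [h3, zero_mul]
    · intro hn
      exact absurd (Finset.mem_univ _) hn
  rw [hstep2]
  -- step 3: Gallagher in `D`
  have hβD : IsCharacter D (fun d : D => (β : T → ℂ) (Subgroup.inclusion hDT d)) :=
    isCharacter_comp_hom (Subgroup.inclusion hDT) (IsIrrCharacter.isCharacter β.2)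
  obtain ⟨c, hc⟩ := exists_nat_decomp hβD
  have hcγ : ∀ γ' : IrrCharacter D,
      classInner (fun d : D => (β : T → ℂ) (Subgroup.inclusion hDT d)) (γ' : D → ℂ) =
        (c γ' : ℂ) := by
    intro γ'
    rw [hc]
    exact classInner_nat_decomp (fun χ' => (c χ' : ℂ)) γ'
  have h1 : (fun d : D => ((β : T → ℂ) * (η : T → ℂ)) (Subgroup.inclusion hDT d)) =
      ∑ γ' : IrrCharacter D, (c γ' : ℂ) • ((γ' : D → ℂ) * (ηD : D → ℂ)) := by
    funext d
    have := congrFun hc d
    rw [Pi.mul_apply, ← hηD d, this]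
    simp only [Finset.sum_apply, Pi.smul_apply, Pi.mul_apply, smul_eq_mul, Finset.sum_mul,
      mul_assoc]
  rw [h1, classInner_sum_left, Finset.sum_eq_single γ]
  · rw [classInner_smul_left, hcγ γ]
    have : classInner ((γ : D → ℂ) * (ηD : D → ℂ)) ((γ : D → ℂ) * (ηD : D → ℂ)) = 1 := by
      have h5 := Cfsg.Agent.Helper81.irr_orthonormal φ.2 φ.2
      rw [if_pos rfl] at h5
      exact h5
    rw [this, mul_one]
  · intro γ' _ hne
    rw [classInner_smul_left]
    by_cases hz : c γ' = 0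
    · rw [hz]; simp
    · have hcne : classInner (fun d : D => (β : T → ℂ) (Subgroup.inclusion hDT d))
          (γ' : D → ℂ) ≠ 0 := by
        rw [hcγ γ']
        exact_mod_cast hz
      have hγ' : TrivOn hC.hQI (γ' : D → ℂ) :=
        trivOn_constituent Q D T hC.hQI hDT hC.hIQ β hβ γ' hcne
      have hirr' := (hC.prod γ' hγ').2
      have h5 := Cfsg.Agent.Helper81.irr_orthonormal hirr' φ.2
      rw [if_neg] at h5
      · have h6 : classInner ((γ' : D → ℂ) * (ηD : D → ℂ)) ((γ : D → ℂ) * (ηD : D → ℂ)) = 0 := h5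
        rw [h6, mul_zero]
      · intro heq
        apply hne
        exact amb_gallagher_inj Q D hC.hQI hC.hIQ ηD γ' γ hC.hηirr hγ' hγ heq
  · intro hn
    exact absurd (Finset.mem_univ _) hn

end FormulaB

end Cfsg.Agent.Helper79.Cop
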