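import Cfsg.Agent.Lib.Helper79.Coprime.Param
import Cfsg.Agent.Lib.Helper81.CharDetSolv
import Cfsg.Agent.Lib.Helper79.Glaub.Twist

set_option autoImplicit false
set_option linter.unusedSectionVars false
set_option linter.style.haveILetI false

namespace Cfsg.Agent.Helper79.Cop

open Cfsg Cfsg.Agent.Helper81 Cfsg.Agent.Helper79.Glaub
open scoped ComplexConjugate

universe u

section AmbCanon

/-- the determinantal order is invariant under automorphisms -/
theorem detOrder_comp_equiv {K : Type u} [Group K] [Finite K] (e : K ≃* K) {χ : K → ℂ}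
    (hχ : IsIrrCharacter K χ) : detOrder (fun y => χ (e y)) = detOrder χ := by
  have hdc : detChar (fun y => χ (e y)) = fun y => detChar χ (e y) :=
    funext (detChar_comp_hom e.toMonoidHom e.surjective hχ)
  unfold detOrder
  rw [hdc, orderOf_eq_orderOf_iff]
  intro n
  constructor
  · intro h
    funext z
    have := congrFun h (e.symm z)
    simpa using this
  · intro h
    funext y
    have := congrFun h (e y)
    simpa using this

variable {Γ : Type u} [Group Γ] [Fintype Γ]

/-- an invariant character of a normal `p`-subgroup of `p'`-index has an extension which is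
invariant under every element normalizing the situation -/
theorem exists_invariant_extension (p : ℕ) [hp : Fact p.Prime] (Q T : Subgroup Γ) [Fintype Q]
    [Fintype T] (hQT : Q ≤ T) (hTQ : ∀ t ∈ T, ∀ q ∈ Q, t * q * t⁻¹ ∈ Q)
    (hQp : ∃ a : ℕ, Nat.card Q = p ^ a) (hidx : ¬ p ∣ Q.relIndex T) (θ : IrrCharacter Q)
    (hθT : ∀ t ∈ T, InvAt Q (θ : Q → ℂ) t) :
    ∃ η : IrrCharacter T, (∀ q : Q, (η : T → ℂ) (Subgroup.inclusion hQT q) = (θ : Q → ℂ) q) ∧
      ∀ x : Γ, NormAt T x → NormAt Q x → InvAt Q (θ : Q → ℂ) x → InvAt T (η : T → ℂ) x := by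
  classical
  set N : Subgroup T := Q.subgroupOf T with hN
  haveI : Fintype N := Fintype.ofFinite _
  have hNn : N.Normal := normal_subgroupOf_of_conj hTQ
  let eQ : N ≃* Q := Subgroup.subgroupOfEquivOfLe hQT
  set ϑ : IrrCharacter N := irrComp eQ θ with hϑ
  have hinv : ∀ (g : T) (n : N),
      (ϑ : N → ℂ) ⟨g * n * g⁻¹, hNn.conj_mem n n.2 g⟩ = (ϑ : N → ℂ) n := by
    intro g n
    rw [hϑ, irrComp_apply, irrComp_apply]
    exact hθT g g.2 (eQ n) (eQ ⟨g * n * g⁻¹, hNn.conj_mem n n.2 g⟩) rfl
  obtain ⟨a, ha⟩ := hQp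
  have hcardN : Nat.card N = p ^ a := by
    rw [← ha]
    exact Nat.card_congr eQ.toEquiv
  have hcop : (Nat.card N).Coprime N.index := by
    rw [hcardN]
    apply Nat.Coprime.pow_left
    exact (Nat.Prime.coprime_iff_not_dvd hp.out).mpr hidx
  have hcop' := coprime_index_detOrder_mul N hcop ϑ.2
  obtain ⟨χ, ⟨hχ, hres, hdet⟩, huniq⟩ := exists_canonical_extension N hNn ϑ.2 hinv
    (charDegree (ϑ : N → ℂ)) (Cfsg.Agent.Helper79.irr_one_eq ϑ).1 hcop'
  have hcopdet : Nat.Coprime N.index (detOrder χ) := by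
    rw [hdet]
    exact Nat.Coprime.coprime_mul_right_right hcop'
  refine ⟨⟨χ, hχ⟩, ?_, ?_⟩
  · intro q
    have h1 := hres (eQ.symm q)
    rw [hϑ, irrComp_apply, eQ.apply_symm_apply] at h1
    rw [← h1]
    rfl
  · intro x hTx hQx hθx
    rw [invAt_iff_conjEquiv T x hTx]
    set e := conjEquiv T x hTx with he
    have hirr' : IsIrrCharacter T (fun y => χ (e y)) := isIrrCharacter_comp_equiv e hχ
    have hres' : ∀ n : N, (fun y => χ (e y)) (n : T) = (ϑ : N → ℂ) n := by
      intro n
      have hmem : e (n : T) ∈ N := by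
        show e (n : T) ∈ Q.subgroupOf T
        rw [Subgroup.mem_subgroupOf]
        exact hQx.1 _ n.2
      have h1 := hres ⟨e (n : T), hmem⟩
      show χ (e (n : T)) = _
      rw [h1, hϑ, irrComp_apply, irrComp_apply]
      exact hθx (eQ n) (eQ ⟨e (n : T), hmem⟩) rfl
    have hdet' : Nat.Coprime N.index (detOrder (fun y => χ (e y))) := by
      rw [detOrder_comp_equiv e hχ]
      exact hcopdet
    have := huniq _ hirr' hres' hdet'
    intro t
    exact congrFun this t

end AmbCanon

end Cfsg.Agent.Helper79.Cop
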