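import Cfsg.Agent.Lib.Helper79.Coprime.AbsCliff

set_option autoImplicit false
set_option linter.unusedSectionVars false
set_option linter.style.haveILetI false

namespace Cfsg.Agent.Helper79.Cop

open Cfsg Cfsg.Agent.Helper81 Cfsg.Agent.Helper79.Glaub
open scoped ComplexConjugate

universe u

section AmbCliff

variable {Γ : Type u} [Group Γ] [Fintype Γ]

/-- the function `β` on `I` is constant on the subgroup `Q` -/
def TrivOn {I Q : Subgroup Γ} (hQI : Q ≤ I) (β : I → ℂ) : Prop :=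
  ∀ q : Q, β (Subgroup.inclusion hQI q) = β 1

/-- Clifford correspondence for subgroups of an ambient group, in restriction form -/
theorem amb_cliff (A Q I : Subgroup Γ) [Fintype A] [Fintype Q] [Fintype I] (hQI : Q ≤ I)
    (hIA : I ≤ A) (hAQ : ∀ a ∈ A, ∀ q ∈ Q, a * q * a⁻¹ ∈ Q) (θ : IrrCharacter Q)
    (hI : ∀ a ∈ A, a ∈ I ↔ InvAt Q (θ : Q → ℂ) a) (ψ : IrrCharacter I)
    (hne : classInner (fun q : Q => (ψ : I → ℂ) (Subgroup.inclusion hQI q)) (θ : Q → ℂ) ≠ 0) :
    ∃ χ : IrrCharacter A,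
      classInner (fun i : I => (χ : A → ℂ) (Subgroup.inclusion hIA i)) (ψ : I → ℂ) = 1 ∧
      classInner (fun q : Q => (χ : A → ℂ) (Subgroup.inclusion (hQI.trans hIA) q))
        (θ : Q → ℂ) ≠ 0 ∧
      (∀ ψ' : IrrCharacter I,
        classInner (fun q : Q => (ψ' : I → ℂ) (Subgroup.inclusion hQI q)) (θ : Q → ℂ) ≠ 0 →
        ψ' ≠ ψ →
        classInner (fun i : I => (χ : A → ℂ) (Subgroup.inclusion hIA i)) (ψ' : I → ℂ) = 0) ∧
      (∀ χ' : IrrCharacter A,
        classInner (fun i : I => (χ' : A → ℂ) (Subgroup.inclusion hIA i)) (ψ : I → ℂ) ≠ 0 →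
        χ' = χ) ∧
      (∀ f : A → ℂ, IsClassFunction A f →
        classInner (χ : A → ℂ) f =
          classInner (ψ : I → ℂ) (fun i : I => f (Subgroup.inclusion hIA i))) := by
  classical
  have hQA : Q ≤ A := hQI.trans hIA
  set H : Subgroup A := Q.subgroupOf A with hH
  set T : Subgroup A := I.subgroupOf A with hT
  haveI : Fintype H := Fintype.ofFinite _
  haveI : Fintype T := Fintype.ofFinite _
  have hN : H.Normal := by
    constructor
    intro n hn g
    rw [hH, Subgroup.mem_subgroupOf] at hn ⊢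
    exact hAQ g g.2 n hn
  have hHT : H ≤ T := by
    intro x hx
    rw [hH, Subgroup.mem_subgroupOf] at hx
    rw [hT, Subgroup.mem_subgroupOf]
    exact hQI hx
  let eQ : H ≃* Q := Subgroup.subgroupOfEquivOfLe hQA
  let eI : T ≃* I := Subgroup.subgroupOfEquivOfLe hIA
  set θ' : IrrCharacter H := irrComp eQ θ with hθ'
  -- the inertia group
  have hTin : ∀ g : A, g ∈ T ↔ conjFun H hN (θ' : H → ℂ) g = (θ' : H → ℂ) := by
    intro g
    rw [hT, Subgroup.mem_subgroupOf, hI g g.2]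
    constructor
    · intro hinv
      funext n
      rw [conjFun_apply, hθ', irrComp_apply, irrComp_apply]
      exact hinv (eQ n) (eQ ⟨g * n * g⁻¹, hN.conj_mem n n.2 g⟩) rfl
    · intro hconj q q' hq'
      have h1 := congrFun hconj (eQ.symm q)
      rw [conjFun_apply, hθ', irrComp_apply, irrComp_apply] at h1
      have h2 : eQ (eQ.symm q) = q := eQ.apply_symm_apply q
      rw [h2] at h1
      rw [← h1]
      apply congrArg (θ : Q → ℂ)
      apply Subtype.ext
      rw [hq']
      rfl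
  -- transport of the inner products
  have hres : ∀ ψ₁ : IrrCharacter I,
      classInner (resTo hHT (irrComp eI ψ₁ : T → ℂ)) (θ' : H → ℂ) =
        classInner (fun q : Q => (ψ₁ : I → ℂ) (Subgroup.inclusion hQI q)) (θ : Q → ℂ) := by
    intro ψ₁
    rw [← classInner_comp_equiv eQ]
    rfl
  have hresχ : ∀ (χ₁ : A → ℂ) (ψ₁ : IrrCharacter I),
      classInner (fun t : T => χ₁ t) (irrComp eI ψ₁ : T → ℂ) =
        classInner (fun i : I => χ₁ (Subgroup.inclusion hIA i)) (ψ₁ : I → ℂ) := by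
    intro χ₁ ψ₁
    rw [← classInner_comp_equiv eI]
    rfl
  have hresQ : ∀ χ₁ : A → ℂ,
      classInner (fun n : H => χ₁ n) (θ' : H → ℂ) =
        classInner (fun q : Q => χ₁ (Subgroup.inclusion hQA q)) (θ : Q → ℂ) := by
    intro χ₁
    rw [← classInner_comp_equiv eQ]
    rfl
  have hne' : classInner (resTo hHT (irrComp eI ψ : T → ℂ)) (θ' : H → ℂ) ≠ 0 := by
    rw [hres]; exact hne
  obtain ⟨χ, hχ, h1, h2, h3, h4, h5⟩ :=
    cliff_restrict H T hN hHT θ'.2 hTin (irrComp eI ψ).2 hne'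
  refine ⟨⟨χ, hχ⟩, ?_, ?_, ?_, ?_, ?_⟩
  · rw [← hresχ]; exact h1
  · rw [← hresQ]; exact h2
  · intro ψ₁ hψ₁ hneq
    rw [← hresχ]
    apply h3 _ (irrComp eI ψ₁).2
    · rw [hres]; exact hψ₁
    · intro heq
      apply hneq
      apply irrComp_injective eI
      exact Subtype.ext heq
  · intro χ' hχ'
    apply Subtype.ext
    apply h4 _ χ'.2
    rw [hresχ]
    exact hχ'
  · intro f hf
    rw [h5 f hf, ← classInner_comp_equiv eI]
    rfl

/-- Clifford correspondence for subgroups of an ambient group: surjectivity -/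
theorem amb_cliff_surj (A Q I : Subgroup Γ) [Fintype A] [Fintype Q] [Fintype I] (hQI : Q ≤ I)
    (hIA : I ≤ A) (hAQ : ∀ a ∈ A, ∀ q ∈ Q, a * q * a⁻¹ ∈ Q) (θ : IrrCharacter Q)
    (hI : ∀ a ∈ A, a ∈ I ↔ InvAt Q (θ : Q → ℂ) a) (χ : IrrCharacter A)
    (hne : classInner (fun q : Q => (χ : A → ℂ) (Subgroup.inclusion (hQI.trans hIA) q))
      (θ : Q → ℂ) ≠ 0) :
    ∃ ψ : IrrCharacter I,
      classInner (fun q : Q => (ψ : I → ℂ) (Subgroup.inclusion hQI q)) (θ : Q → ℂ) ≠ 0 ∧
      classInner (fun i : I => (χ : A → ℂ) (Subgroup.inclusion hIA i)) (ψ : I → ℂ) ≠ 0 := by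
  classical
  have hQA : Q ≤ A := hQI.trans hIA
  set H : Subgroup A := Q.subgroupOf A with hH
  set T : Subgroup A := I.subgroupOf A with hT
  haveI : Fintype H := Fintype.ofFinite _
  haveI : Fintype T := Fintype.ofFinite _
  have hN : H.Normal := by
    constructor
    intro n hn g
    rw [hH, Subgroup.mem_subgroupOf] at hn ⊢
    exact hAQ g g.2 n hn
  have hHT : H ≤ T := by
    intro x hx
    rw [hH, Subgroup.mem_subgroupOf] at hx
    rw [hT, Subgroup.mem_subgroupOf]
    exact hQI hx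
  let eQ : H ≃* Q := Subgroup.subgroupOfEquivOfLe hQA
  let eI : T ≃* I := Subgroup.subgroupOfEquivOfLe hIA
  set θ' : IrrCharacter H := irrComp eQ θ with hθ'
  have hTin : ∀ g : A, g ∈ T ↔ conjFun H hN (θ' : H → ℂ) g = (θ' : H → ℂ) := by
    intro g
    rw [hT, Subgroup.mem_subgroupOf, hI g g.2]
    constructor
    · intro hinv
      funext n
      rw [conjFun_apply, hθ', irrComp_apply, irrComp_apply]
      exact hinv (eQ n) (eQ ⟨g * n * g⁻¹, hN.conj_mem n n.2 g⟩) rfl
    · intro hconj q q' hq'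
      have h1 := congrFun hconj (eQ.symm q)
      rw [conjFun_apply, hθ', irrComp_apply, irrComp_apply] at h1
      have h2 : eQ (eQ.symm q) = q := eQ.apply_symm_apply q
      rw [h2] at h1
      rw [← h1]
      apply congrArg (θ : Q → ℂ)
      apply Subtype.ext
      rw [hq']
      rfl
  have hneχ : classInner (fun n : H => (χ : A → ℂ) n) (θ' : H → ℂ) ≠ 0 := by
    rw [← classInner_comp_equiv eQ] at hne
    exact hne
  obtain ⟨ψ', hψ', h1, h2⟩ := cliff_restrict_surj H T hN hHT θ'.2 hTin χ.2 hneχ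
  refine ⟨irrComp eI.symm ⟨ψ', hψ'⟩, ?_, ?_⟩
  · rw [← classInner_comp_equiv eQ]
    intro h0
    apply h1
    rw [← h0]
    congr 1
  · rw [← classInner_comp_equiv eI]
    intro h0
    apply h2
    rw [← h0]
    congr 1

end AmbCliff

end Cfsg.Agent.Helper79.Cop
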