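import Cfsg.Agent.Lib.Helper79.Coprime.AmbCliff

set_option autoImplicit false
set_option linter.unusedSectionVars false
set_option linter.style.haveILetI false

namespace Cfsg.Agent.Helper79.Cop

open Cfsg Cfsg.Agent.Helper81 Cfsg.Agent.Helper79.Glaub
open scoped ComplexConjugate

universe u

section AmbGall

variable {Γ : Type u} [Group Γ] [Fintype Γ]

theorem trivOn_iff {I Q : Subgroup Γ} (hQI : Q ≤ I) (β : IrrCharacter I) :
    TrivOn hQI (β : I → ℂ) ↔ Q.subgroupOf I ≤ Cfsg.Agent.Helper79.irrKer β := by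
  constructor
  · intro h x hx
    rw [Subgroup.mem_subgroupOf] at hx
    rw [Cfsg.Agent.Helper79.mem_irrKer]
    exact h ⟨x, hx⟩
  · intro h q
    have h1 : Subgroup.inclusion hQI q ∈ Q.subgroupOf I := by
      rw [Subgroup.mem_subgroupOf]
      exact q.2
    have h2 := h h1
    rw [Cfsg.Agent.Helper79.mem_irrKer] at h2
    exact h2

/-- a character trivial on `Q` is constant on the cosets of `Q` -/
theorem trivOn_mul {I Q : Subgroup Γ} (hQI : Q ≤ I) (β : IrrCharacter I)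
    (hβ : TrivOn hQI (β : I → ℂ)) (i k : I) (hk : (k : Γ) ∈ Q) :
    (β : I → ℂ) (i * k) = (β : I → ℂ) i := by
  apply Cfsg.Agent.Helper79.irr_mul_of_mem_irrKer
  apply (trivOn_iff hQI β).mp hβ
  rw [Subgroup.mem_subgroupOf]
  exact hk

theorem normal_subgroupOf_of_conj {I Q : Subgroup Γ}
    (hIQ : ∀ i ∈ I, ∀ q ∈ Q, i * q * i⁻¹ ∈ Q) : (Q.subgroupOf I).Normal := by
  constructor
  intro n hn g
  rw [Subgroup.mem_subgroupOf] at hn ⊢
  exact hIQ g g.2 n hn

theorem irr_res_subgroupOf {I Q : Subgroup Γ} [Fintype Q] [Fintype (Q.subgroupOf I)]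
    (hQI : Q ≤ I) (η : I → ℂ)
    (hη : IsIrrCharacter Q (fun q : Q => η (Subgroup.inclusion hQI q))) :
    IsIrrCharacter (Q.subgroupOf I) (fun n : Q.subgroupOf I => η n) :=
  isIrrCharacter_comp_equiv (Subgroup.subgroupOfEquivOfLe hQI) hη

/-- Gallagher, irreducibility of the products, for subgroups of an ambient group -/
theorem amb_gallagher_irr (Q I : Subgroup Γ) [Fintype Q] [Fintype I] (hQI : Q ≤ I)
    (hIQ : ∀ i ∈ I, ∀ q ∈ Q, i * q * i⁻¹ ∈ Q) (η β : IrrCharacter I)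
    (hη : IsIrrCharacter Q (fun q : Q => (η : I → ℂ) (Subgroup.inclusion hQI q)))
    (hβ : TrivOn hQI (β : I → ℂ)) :
    IsIrrCharacter I ((β : I → ℂ) * (η : I → ℂ)) := by
  classical
  haveI : Fintype (Q.subgroupOf I) := Fintype.ofFinite _
  exact irr_mul_of_le_ker (Q.subgroupOf I) (normal_subgroupOf_of_conj hIQ) η β
    (irr_res_subgroupOf hQI _ hη) ((trivOn_iff hQI β).mp hβ)

/-- Gallagher, injectivity -/
theorem amb_gallagher_inj (Q I : Subgroup Γ) [Fintype Q] [Fintype I] (hQI : Q ≤ I)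
    (hIQ : ∀ i ∈ I, ∀ q ∈ Q, i * q * i⁻¹ ∈ Q) (η β β' : IrrCharacter I)
    (hη : IsIrrCharacter Q (fun q : Q => (η : I → ℂ) (Subgroup.inclusion hQI q)))
    (hβ : TrivOn hQI (β : I → ℂ)) (hβ' : TrivOn hQI (β' : I → ℂ))
    (h : (β : I → ℂ) * (η : I → ℂ) = (β' : I → ℂ) * (η : I → ℂ)) : β = β' := by
  classical
  haveI : Fintype (Q.subgroupOf I) := Fintype.ofFinite _
  exact gallagher_inj (Q.subgroupOf I) (normal_subgroupOf_of_conj hIQ) η β β'
    (irr_res_subgroupOf hQI _ hη) ((trivOn_iff hQI β).mp hβ) ((trivOn_iff hQI β').mp hβ') h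

/-- Gallagher, surjectivity -/
theorem amb_gallagher_surj (Q I : Subgroup Γ) [Fintype Q] [Fintype I] (hQI : Q ≤ I)
    (hIQ : ∀ i ∈ I, ∀ q ∈ Q, i * q * i⁻¹ ∈ Q) (η ψ : IrrCharacter I)
    (hη : IsIrrCharacter Q (fun q : Q => (η : I → ℂ) (Subgroup.inclusion hQI q)))
    (hne : classInner (fun q : Q => (ψ : I → ℂ) (Subgroup.inclusion hQI q))
      (fun q : Q => (η : I → ℂ) (Subgroup.inclusion hQI q)) ≠ 0) :
    ∃ β : IrrCharacter I, TrivOn hQI (β : I → ℂ) ∧
      (ψ : I → ℂ) = (β : I → ℂ) * (η : I → ℂ) := by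
  classical
  haveI : Fintype (Q.subgroupOf I) := Fintype.ofFinite _
  have hne' : classInner (fun n : Q.subgroupOf I => (ψ : I → ℂ) n)
      (fun n : Q.subgroupOf I => (η : I → ℂ) n) ≠ 0 := by
    rw [← classInner_comp_equiv (Subgroup.subgroupOfEquivOfLe hQI)] at hne
    exact hne
  obtain ⟨β, hβ, h⟩ := gallagher_surj (Q.subgroupOf I) (normal_subgroupOf_of_conj hIQ) η ψ
    (irr_res_subgroupOf hQI _ hη) hne'
  exact ⟨β, (trivOn_iff hQI β).mpr hβ, h⟩

end AmbGall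

end Cfsg.Agent.Helper79.Cop
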