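import Cfsg.Agent.Lib.Helper79.Coprime.FixedPt

set_option autoImplicit false
set_option linter.unusedSectionVars false
set_option linter.style.haveILetI false

namespace Cfsg.Agent.Helper79.Cop

open Cfsg Cfsg.Agent.Helper81 Cfsg.Agent.Helper79.Glaub
open scoped ComplexConjugate

universe u

section FP

/-- a `p`-group acting by conjugation on a set of cardinality prime to `p` centralizes some
element -/
theorem exists_fixed_conj {H : Type u} [Group H] (p : ℕ) [Fact p.Prime] (S : Subgroup H)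
    (hS : IsPGroup p S) (Y : Set H) (hY : ∀ s ∈ S, ∀ y ∈ Y, s * y * s⁻¹ ∈ Y)
    (hcard : ¬ p ∣ Nat.card Y) : ∃ y ∈ Y, ∀ s ∈ S, s * y * s⁻¹ = y := by
  classical
  letI : MulAction S Y :=
    { smul := fun s y => ⟨s * y * s⁻¹, hY s s.2 y y.2⟩
      one_smul := fun y => Subtype.ext (by
        show ((1 : S) : H) * y * ((1 : S) : H)⁻¹ = y
        simp)
      mul_smul := fun s t y => Subtype.ext (by
        show ((s * t : S) : H) * y * ((s * t : S) : H)⁻¹ = s * (t * y * (t : H)⁻¹) * (s : H)⁻¹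
        simp [mul_assoc]) }
  obtain ⟨y, hy⟩ := hS.nonempty_fixed_point_of_prime_not_dvd_card Y hcard
  refine ⟨y, y.2, fun s hs => ?_⟩
  have := hy ⟨s, hs⟩
  exact congrArg Subtype.val this

end FP

section Conj

variable {Γ : Type u} [Group Γ]

/-- the inertia group in `K` of a function on `Q` -/
def inertiaIn (K Q : Subgroup Γ) (hKQ : ∀ k ∈ K, NormAt Q k) (θ : Q → ℂ) : Subgroup Γ where
  carrier := {k | k ∈ K ∧ InvAt Q θ k}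
  one_mem' := ⟨K.one_mem, invAt_one Q θ⟩
  mul_mem' := by
    intro a b ha hb
    exact ⟨K.mul_mem ha.1 hb.1, InvAt.mul (hKQ b hb.1) ha.2 hb.2⟩
  inv_mem' := by
    intro a ha
    exact ⟨K.inv_mem ha.1, InvAt.inv ha.2⟩

theorem mem_inertiaIn (K Q : Subgroup Γ) (hKQ : ∀ k ∈ K, NormAt Q k) (θ : Q → ℂ) (k : Γ) :
    k ∈ inertiaIn K Q hKQ θ ↔ k ∈ K ∧ InvAt Q θ k := Iff.rfl

theorem inertiaIn_le (K Q : Subgroup Γ) (hKQ : ∀ k ∈ K, NormAt Q k) (θ : Q → ℂ) :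
    inertiaIn K Q hKQ θ ≤ K := fun _ hk => hk.1

variable [Fintype Γ]

theorem le_inertiaIn (K Q : Subgroup Γ) (hQK : Q ≤ K) (hKQ : ∀ k ∈ K, NormAt Q k)
    (θ : IrrCharacter Q) : Q ≤ inertiaIn K Q hKQ (θ : Q → ℂ) :=
  fun _ hq => ⟨hQK hq, invAt_of_mem Q (IsIrrCharacter.isCharacter θ.2) hq⟩

/-- a fixed point on a coset, modulo `Q` -/
theorem fixed_coset (p : ℕ) [hp : Fact p.Prime] (P T Q : Subgroup Γ)
    (hP : IsPGroup p P) (hQT : Q ≤ T) (hTQ : ∀ t ∈ T, NormAt Q t) (hPQ : ∀ x ∈ P, NormAt Q x)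
    (hidx : ¬ p ∣ Q.relIndex T) (Y : Set Γ) (k₀ : Γ) (hk₀ : k₀ ∈ Y)
    (hYN : ∀ y ∈ Y, NormAt Q y) (hTY : ∀ t ∈ T, ∀ y ∈ Y, t * y ∈ Y)
    (hYT : ∀ y ∈ Y, ∀ y' ∈ Y, y' * y⁻¹ ∈ T) (hPY : ∀ x ∈ P, ∀ y ∈ Y, x * y * x⁻¹ ∈ Y) :
    ∃ y ∈ Y, ∀ x ∈ P, x * y * x⁻¹ * y⁻¹ ∈ Q := by
  classical
  set N₀ : Subgroup Γ := Subgroup.normalizer (Q : Set Γ) with hN₀
  have hTN : T ≤ N₀ := fun t ht => (normAt_iff_mem_normalizer Q t).mp (hTQ t ht)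
  have hPN : P ≤ N₀ := fun x hx => (normAt_iff_mem_normalizer Q x).mp (hPQ x hx)
  have hYN' : ∀ y ∈ Y, y ∈ N₀ := fun y hy => (normAt_iff_mem_normalizer Q y).mp (hYN y hy)
  set Q₀ : Subgroup N₀ := Q.subgroupOf N₀ with hQ₀
  haveI hQ₀n : Q₀.Normal := Subgroup.normal_in_normalizer
  let π : N₀ →* N₀ ⧸ Q₀ := QuotientGroup.mk' Q₀
  have hπ1 : ∀ y : N₀, π y = 1 ↔ (y : Γ) ∈ Q := by
    intro y
    show (QuotientGroup.mk y : N₀ ⧸ Q₀) = 1 ↔ _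
    rw [QuotientGroup.eq_one_iff, hQ₀, Subgroup.mem_subgroupOf]
  set T' : Subgroup (N₀ ⧸ Q₀) := (T.subgroupOf N₀).map π with hT'
  set P' : Subgroup (N₀ ⧸ Q₀) := (P.subgroupOf N₀).map π with hP'
  have hmemT' : ∀ (t : Γ) (ht : t ∈ T), π ⟨t, hTN ht⟩ ∈ T' := fun t ht =>
    Subgroup.mem_map_of_mem π (Subgroup.mem_subgroupOf.mpr ht)
  have hmemP' : ∀ (t : Γ) (ht : t ∈ P), π ⟨t, hPN ht⟩ ∈ P' := fun t ht =>
    Subgroup.mem_map_of_mem π (Subgroup.mem_subgroupOf.mpr ht)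
  have exT' : ∀ y ∈ T', ∃ (t : Γ) (ht : t ∈ T), π ⟨t, hTN ht⟩ = y := by
    intro y hy
    obtain ⟨x, hx, rfl⟩ := Subgroup.mem_map.mp hy
    exact ⟨x, Subgroup.mem_subgroupOf.mp hx, rfl⟩
  have exP' : ∀ y ∈ P', ∃ (t : Γ) (ht : t ∈ P), π ⟨t, hPN ht⟩ = y := by
    intro y hy
    obtain ⟨x, hx, rfl⟩ := Subgroup.mem_map.mp hy
    exact ⟨x, Subgroup.mem_subgroupOf.mp hx, rfl⟩
  -- the cardinality of the image of `T`
  let πT : T →* T' := (π.comp (Subgroup.inclusion hTN)).codRestrict T' (fun t => hmemT' t t.2)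
  have hπT : Function.Surjective πT := by
    rintro ⟨y, hy⟩
    obtain ⟨t, ht, rfl⟩ := exT' y hy
    exact ⟨⟨t, ht⟩, Subtype.ext rfl⟩
  have hπT1 : ∀ t : T, πT t = 1 ↔ (t : Γ) ∈ Q := by
    intro t
    rw [Subtype.ext_iff]
    exact hπ1 ⟨t, hTN t.2⟩
  have hker : πT.ker = Q.subgroupOf T := by
    ext t
    rw [MonoidHom.mem_ker, hπT1, Subgroup.mem_subgroupOf]
  have hcardT' : Nat.card T' = Q.relIndex T := by
    have h1 := Subgroup.index_ker πT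
    rw [MonoidHom.range_eq_top.mpr hπT, Subgroup.card_top, hker] at h1
    rw [← h1]
    rfl
  -- the image of `Y`
  set Y' : Set (N₀ ⧸ Q₀) := {z | ∃ (y : Γ) (hy : y ∈ Y), π ⟨y, hYN' y hy⟩ = z} with hY'
  have hk₀' : π ⟨k₀, hYN' k₀ hk₀⟩ ∈ Y' := ⟨k₀, hk₀, rfl⟩
  have hg : ∀ t : T', (t : N₀ ⧸ Q₀) * π ⟨k₀, hYN' k₀ hk₀⟩ ∈ Y' := by
    rintro ⟨t', ht'⟩
    obtain ⟨t, ht, rfl⟩ := exT' t' ht'
    refine ⟨t * k₀, hTY t ht k₀ hk₀, ?_⟩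
    show _ = π ⟨t, hTN ht⟩ * π ⟨k₀, hYN' k₀ hk₀⟩
    rw [← map_mul]
    rfl
  have hcardY' : Nat.card Y' = Nat.card T' := by
    symm
    apply Nat.card_eq_of_bijective (fun t : T' => (⟨(t : N₀ ⧸ Q₀) * π ⟨k₀, hYN' k₀ hk₀⟩, hg t⟩ : Y'))
    constructor
    · intro t t' htt'
      have h1 := congrArg Subtype.val htt'
      simp only at h1
      exact Subtype.ext (mul_right_cancel h1)
    · rintro ⟨z, y, hy, rfl⟩
      have hyk : y * k₀⁻¹ ∈ T := hYT k₀ hk₀ y hy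
      refine ⟨⟨π ⟨y * k₀⁻¹, hTN hyk⟩, hmemT' _ hyk⟩, ?_⟩
      apply Subtype.ext
      show π ⟨y * k₀⁻¹, hTN hyk⟩ * π ⟨k₀, hYN' k₀ hk₀⟩ = π ⟨y, hYN' y hy⟩
      rw [← map_mul]
      apply congrArg
      apply Subtype.ext
      show y * k₀⁻¹ * k₀ = y
      group
  have hPY' : ∀ s ∈ P', ∀ z ∈ Y', s * z * s⁻¹ ∈ Y' := by
    intro s hs z hz
    obtain ⟨x, hx, rfl⟩ := exP' s hs
    obtain ⟨y, hy, rfl⟩ := hz
    refine ⟨x * y * x⁻¹, hPY x hx y hy, ?_⟩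
    show _ = π ⟨x, hPN hx⟩ * π ⟨y, hYN' y hy⟩ * (π ⟨x, hPN hx⟩)⁻¹
    rw [← map_inv, ← map_mul, ← map_mul]
    rfl
  have hP'p : IsPGroup p P' := (hP.comap_subtype).map π
  have hcard : ¬ p ∣ Nat.card Y' := by
    rw [hcardY', hcardT']
    exact hidx
  obtain ⟨z, hz, hfix⟩ := exists_fixed_conj p P' hP'p Y' hPY' hcard
  obtain ⟨y, hy, rfl⟩ := hz
  refine ⟨y, hy, ?_⟩
  intro x hx
  have h1 := hfix (π ⟨x, hPN hx⟩) (hmemP' x hx)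
  have h2 := hπ1 (⟨x, hPN hx⟩ * ⟨y, hYN' y hy⟩ * ⟨x, hPN hx⟩⁻¹ * ⟨y, hYN' y hy⟩⁻¹)
  rw [map_mul, map_mul, map_mul, map_inv, map_inv, h1, mul_inv_cancel] at h2
  exact h2.mp rfl

/-- Clifford: two constituents of the restriction to a normal subgroup are conjugate -/
theorem amb_constituents_conj (K Q : Subgroup Γ) [Fintype K] [Fintype Q] (hQK : Q ≤ K)
    (hKQ : ∀ k ∈ K, ∀ q ∈ Q, k * q * k⁻¹ ∈ Q) (χ : IrrCharacter K) (θ₁ θ₂ : IrrCharacter Q)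
    (h1 : classInner (fun q : Q => (χ : K → ℂ) (Subgroup.inclusion hQK q)) (θ₁ : Q → ℂ) ≠ 0)
    (h2 : classInner (fun q : Q => (χ : K → ℂ) (Subgroup.inclusion hQK q)) (θ₂ : Q → ℂ) ≠ 0) :
    ∃ k ∈ K, ∀ q q' : Q, (q' : Γ) = k * q * k⁻¹ →
      (θ₂ : Q → ℂ) q = (θ₁ : Q → ℂ) q' := by
  classical
  set N : Subgroup K := Q.subgroupOf K with hN
  haveI : Fintype N := Fintype.ofFinite _
  have hNn : N.Normal := normal_subgroupOf_of_conj hKQ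
  let eQ : N ≃* Q := Subgroup.subgroupOfEquivOfLe hQK
  have h1' : classInner (fun n : N => (χ : K → ℂ) n) (irrComp eQ θ₁ : N → ℂ) ≠ 0 := by
    rw [← classInner_comp_equiv eQ] at h1
    exact h1
  have h2' : classInner (fun n : N => (χ : K → ℂ) n) (irrComp eQ θ₂ : N → ℂ) ≠ 0 := by
    rw [← classInner_comp_equiv eQ] at h2
    exact h2
  have hcl := clifford N hNn χ.2 (irrComp eQ θ₁).2 h1'
  have hS := conjSet_finite N hNn (irrComp eQ θ₁ : N → ℂ)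
  rw [finsum_mem_eq_finite_toFinset_sum _ hS] at hcl
  rw [hcl, classInner_smul_left, classInner_sum_left] at h2'
  have h3 : ∑ ψ ∈ hS.toFinset, classInner ψ (irrComp eQ θ₂ : N → ℂ) ≠ 0 := by
    intro h0
    apply h2'
    rw [h0, mul_zero]
  obtain ⟨ψ, hψ, hψne⟩ := Finset.exists_ne_zero_of_sum_ne_zero h3
  rw [Set.Finite.mem_toFinset] at hψ
  obtain ⟨g, rfl⟩ := hψ
  have heq := eq_of_classInner_ne_zero (conjFun_isIrrCharacter N hNn (irrComp eQ θ₁).2 g)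
    (irrComp eQ θ₂).2 hψne
  refine ⟨g, g.2, ?_⟩
  intro q q' hq'
  have h4 := congrFun heq (eQ.symm q)
  rw [conjFun_apply, irrComp_apply, irrComp_apply, eQ.apply_symm_apply] at h4
  rw [← h4]
  apply congrArg
  apply Subtype.ext
  rw [hq']
  rfl

/-- conjugating elements can be chosen in `C` -/
theorem exists_conj_in_C (p : ℕ) [hp : Fact p.Prime] (P K Q C : Subgroup Γ) [Fintype Q]
    (hP : IsPGroup p P) (hQK : Q ≤ K) (hKQ : ∀ k ∈ K, NormAt Q k) (hPK : ∀ x ∈ P, NormAt K x)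
    (hPQ : ∀ x ∈ P, NormAt Q x) (hidx : ¬ p ∣ Q.relIndex K)
    (hC : ∀ k : Γ, k ∈ C ↔ (k ∈ K ∧ ∀ x ∈ P, x * k * x⁻¹ * k⁻¹ ∈ Q))
    (θ₁ θ₂ : IrrCharacter Q) (h1 : ∀ x ∈ P, InvAt Q (θ₁ : Q → ℂ) x)
    (h2 : ∀ x ∈ P, InvAt Q (θ₂ : Q → ℂ) x) (k : Γ) (hk : k ∈ K)
    (hconj : ∀ q q' : Q, (q' : Γ) = k * q * k⁻¹ → (θ₂ : Q → ℂ) q = (θ₁ : Q → ℂ) q') :
    ∃ c ∈ C, ∀ q q' : Q, (q' : Γ) = c * q * c⁻¹ → (θ₂ : Q → ℂ) q = (θ₁ : Q → ℂ) q' := by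
  classical
  set T := inertiaIn K Q hKQ (θ₁ : Q → ℂ) with hT
  have hQT : Q ≤ T := le_inertiaIn K Q hQK hKQ θ₁
  have hTK : T ≤ K := inertiaIn_le K Q hKQ _
  have hidxT : ¬ p ∣ Q.relIndex T := fun h =>
    hidx (h.trans (Dvd.intro _ (Subgroup.relIndex_mul_relIndex Q T K hQT hTK)))
  set Y : Set Γ := {y | y ∈ K ∧ ∀ q q' : Q, (q' : Γ) = y * q * y⁻¹ →
    (θ₂ : Q → ℂ) q = (θ₁ : Q → ℂ) q'} with hY
  have hkY : k ∈ Y := ⟨hk, hconj⟩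
  have hYN : ∀ y ∈ Y, NormAt Q y := fun y hy => hKQ y hy.1
  have hTY : ∀ t ∈ T, ∀ y ∈ Y, t * y ∈ Y := by
    intro t ht y hy
    refine ⟨K.mul_mem (hTK ht) hy.1, ?_⟩
    intro q q' hq'
    have hq₁ : y * q * y⁻¹ ∈ Q := (hKQ y hy.1).1 q q.2
    rw [hy.2 q ⟨y * q * y⁻¹, hq₁⟩ rfl]
    symm
    apply ht.2 ⟨y * q * y⁻¹, hq₁⟩ q'
    rw [hq']
    simp only
    group
  have hYT : ∀ y ∈ Y, ∀ y' ∈ Y, y' * y⁻¹ ∈ T := by
    intro y hy y' hy'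
    refine ⟨K.mul_mem hy'.1 (K.inv_mem hy.1), ?_⟩
    intro g g' hg'
    have hq : y⁻¹ * g * y ∈ Q := (hKQ y hy.1).2 g g.2
    have e1 : (θ₂ : Q → ℂ) ⟨y⁻¹ * g * y, hq⟩ = (θ₁ : Q → ℂ) g := by
      apply hy.2
      simp only
      group
    have e2 : (θ₂ : Q → ℂ) ⟨y⁻¹ * g * y, hq⟩ = (θ₁ : Q → ℂ) g' := by
      apply hy'.2
      rw [hg']
      simp only
      group
    rw [← e1, e2]
  have hPY : ∀ x ∈ P, ∀ y ∈ Y, x * y * x⁻¹ ∈ Y := by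
    intro x hx y hy
    refine ⟨(hPK x hx).1 y hy.1, ?_⟩
    intro q q' hq'
    have hq₁ : x⁻¹ * q * x ∈ Q := (hPQ x hx).2 q q.2
    have hq₂ : y * (x⁻¹ * q * x) * y⁻¹ ∈ Q := (hKQ y hy.1).1 _ hq₁
    have e1 : (θ₂ : Q → ℂ) q = (θ₂ : Q → ℂ) ⟨x⁻¹ * q * x, hq₁⟩ := by
      apply h2 x hx
      simp only
      group
    have e2 : (θ₂ : Q → ℂ) ⟨x⁻¹ * q * x, hq₁⟩ = (θ₁ : Q → ℂ) ⟨y * (x⁻¹ * q * x) * y⁻¹, hq₂⟩ :=
      hy.2 _ _ rfl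
    have e3 : (θ₁ : Q → ℂ) q' = (θ₁ : Q → ℂ) ⟨y * (x⁻¹ * q * x) * y⁻¹, hq₂⟩ := by
      apply h1 x hx
      rw [hq']
      simp only
      group
    rw [e1, e2, e3]
  obtain ⟨y, hy, hcomm⟩ := fixed_coset p P T Q hP hQT (fun t ht => hKQ t (hTK ht)) hPQ hidxT Y k
    hkY hYN hTY hYT hPY
  exact ⟨y, (hC y).mpr ⟨hy.1, hcomm⟩, hy.2⟩

/-- lying over a `C`-conjugate -/
theorem over_of_conj_C (C Q : Subgroup Γ) [Fintype C] [Fintype Q] (hQC : Q ≤ C)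
    (ξ : IrrCharacter C) (θ₁ θ₂ : IrrCharacter Q) (c : Γ) (hc : c ∈ C) (hcQ : NormAt Q c)
    (hconj : ∀ q q' : Q, (q' : Γ) = c * q * c⁻¹ → (θ₂ : Q → ℂ) q = (θ₁ : Q → ℂ) q')
    (h : classInner (fun q : Q => (ξ : C → ℂ) (Subgroup.inclusion hQC q)) (θ₂ : Q → ℂ) ≠ 0) :
    classInner (fun q : Q => (ξ : C → ℂ) (Subgroup.inclusion hQC q)) (θ₁ : Q → ℂ) ≠ 0 := by
  rw [← classInner_comp_equiv (conjEquiv Q c hcQ)]
  have e1 : (fun x : Q => (θ₁ : Q → ℂ) (conjEquiv Q c hcQ x)) = (θ₂ : Q → ℂ) := by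
    funext q
    exact (hconj q _ rfl).symm
  have e2 : (fun x : Q => (fun q : Q => (ξ : C → ℂ) (Subgroup.inclusion hQC q))
      (conjEquiv Q c hcQ x)) = fun q : Q => (ξ : C → ℂ) (Subgroup.inclusion hQC q) := by
    funext q
    exact invAt_of_mem C (IsIrrCharacter.isCharacter ξ.2) hc (Subgroup.inclusion hQC q)
      (Subgroup.inclusion hQC (conjEquiv Q c hcQ q)) rfl
  rw [e1, e2]
  exact h

/-- a character of `C` lying over one invariant constituent of `χ` lies over all of them -/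
theorem over_of_common (p : ℕ) [hp : Fact p.Prime] (P K Q C : Subgroup Γ) [Fintype K]
    [Fintype C] [Fintype Q] (hP : IsPGroup p P) (hQK : Q ≤ K) (hQC : Q ≤ C)
    (hKQ : ∀ k ∈ K, NormAt Q k)
    (hPK : ∀ x ∈ P, NormAt K x) (hPQ : ∀ x ∈ P, NormAt Q x) (hidx : ¬ p ∣ Q.relIndex K)
    (hC : ∀ k : Γ, k ∈ C ↔ (k ∈ K ∧ ∀ x ∈ P, x * k * x⁻¹ * k⁻¹ ∈ Q))
    (χ : IrrCharacter K) (θ₁ θ₂ : IrrCharacter Q) (h1 : ∀ x ∈ P, InvAt Q (θ₁ : Q → ℂ) x)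
    (h2 : ∀ x ∈ P, InvAt Q (θ₂ : Q → ℂ) x)
    (hχ1 : classInner (fun q : Q => (χ : K → ℂ) (Subgroup.inclusion hQK q)) (θ₁ : Q → ℂ) ≠ 0)
    (hχ2 : classInner (fun q : Q => (χ : K → ℂ) (Subgroup.inclusion hQK q)) (θ₂ : Q → ℂ) ≠ 0)
    (ξ : IrrCharacter C)
    (hξ : classInner (fun q : Q => (ξ : C → ℂ) (Subgroup.inclusion hQC q)) (θ₂ : Q → ℂ) ≠ 0) :
    classInner (fun q : Q => (ξ : C → ℂ) (Subgroup.inclusion hQC q)) (θ₁ : Q → ℂ) ≠ 0 := by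
  obtain ⟨k, hk, hconj⟩ := amb_constituents_conj K Q hQK (fun k hk => (hKQ k hk).1) χ θ₁ θ₂
    hχ1 hχ2
  obtain ⟨c, hc, hconj'⟩ := exists_conj_in_C p P K Q C hP hQK hKQ hPK hPQ hidx hC θ₁ θ₂ h1 h2
    k hk hconj
  exact over_of_conj_C C Q hQC ξ θ₁ θ₂ c hc (hKQ c ((hC c).mp hc).1) hconj' hξ

end Conj

end Cfsg.Agent.Helper79.Cop
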