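import Cfsg.Agent.Lib.Helper79.Coprime.Over
import Cfsg.Agent.Lib.Helper79.Glaub.Twist
import Cfsg.Agent.Lib.Helper80.Gallagher

set_option autoImplicit false
set_option linter.unusedSectionVars false
set_option linter.style.haveILetI false

namespace Cfsg.Agent.Helper79.Cop

open Cfsg Cfsg.Agent.Helper81
open scoped ComplexConjugate

universe u

section Count

variable {G : Type u} [Group G] [Fintype G]

omit [Fintype G] in
theorem charDegree_congr {H : Type u} [Group H] {f : G → ℂ} {g : H → ℂ} (h : f 1 = g 1) :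
    charDegree f = charDegree g := by
  unfold charDegree
  rw [h]

/-- Counting the irreducible characters of degree prime to the index of a normal Hall
subgroup `K`: they are the linear twists (trivial on `K`) of the extensions of the invariant
irreducible characters of `K`. -/
theorem card_coprime_degree (K : Subgroup G) [Fintype K] (hK : K.Normal)
    (hcop : (Nat.card K).Coprime K.index) :
    Nat.card {χ : IrrCharacter G // (charDegree (χ : G → ℂ)).Coprime K.index} =
      Nat.card {θ : IrrCharacter K // ∀ (g : G) (n : K),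
        (θ : K → ℂ) ⟨g * n * g⁻¹, hK.conj_mem n n.2 g⟩ = (θ : K → ℂ) n} *
      Nat.card {μ : G →* ℂˣ // ∀ k ∈ K, μ k = 1} := by
  classical
  -- the chosen extensions
  have hext : ∀ θ : {θ : IrrCharacter K // ∀ (g : G) (n : K),
      (θ : K → ℂ) ⟨g * n * g⁻¹, hK.conj_mem n n.2 g⟩ = (θ : K → ℂ) n},
      ∃ χ : G → ℂ, IsIrrCharacter G χ ∧ ∀ n : K, χ n = (θ.1 : K → ℂ) n := by
    intro θ
    obtain ⟨χ, ⟨h1, h2, _⟩, _⟩ := exists_canonical_extension K hK θ.1.2 θ.2
      (charDegree (θ.1 : K → ℂ)) (Cfsg.Agent.Helper79.irr_one_eq θ.1).1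
      (Cfsg.Agent.Helper79.Glaub.coprime_index_detOrder_mul K hcop θ.1.2)
    exact ⟨χ, h1, h2⟩
  choose E hE1 hE2 using hext
  let toC : (G →* ℂˣ) → (G →* ℂ) := fun μ => (Units.coeHom ℂ).comp μ
  have htoC : ∀ (μ : G →* ℂˣ) (g : G), toC μ g = ((μ g : ℂˣ) : ℂ) := fun μ g => rfl
  -- degrees
  have hdeg : ∀ (θ : {θ : IrrCharacter K // ∀ (g : G) (n : K),
      (θ : K → ℂ) ⟨g * n * g⁻¹, hK.conj_mem n n.2 g⟩ = (θ : K → ℂ) n}) (μ : G →* ℂˣ),
      charDegree ((toC μ : G → ℂ) * E θ) = charDegree (θ.1 : K → ℂ) := by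
    intro θ μ
    apply charDegree_congr
    rw [Pi.mul_apply, htoC, map_one, Units.val_one, one_mul]
    exact hE2 θ 1
  let Φ : {θ : IrrCharacter K // ∀ (g : G) (n : K),
      (θ : K → ℂ) ⟨g * n * g⁻¹, hK.conj_mem n n.2 g⟩ = (θ : K → ℂ) n} ×
      {μ : G →* ℂˣ // ∀ k ∈ K, μ k = 1} →
      {χ : IrrCharacter G // (charDegree (χ : G → ℂ)).Coprime K.index} := fun x =>
    ⟨⟨(toC x.2.1 : G → ℂ) * E x.1, isIrrCharacter_hom_mul (toC x.2.1) (hE1 x.1)⟩, by
      show (charDegree ((toC x.2.1 : G → ℂ) * E x.1)).Coprime K.index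
      rw [hdeg]
      exact Nat.Coprime.coprime_dvd_left (Cfsg.Agent.Helper79.irr_degree_dvd_card x.1.1) hcop⟩
  have hΦ : ∀ x g, ((Φ x).1 : G → ℂ) g = ((x.2.1 g : ℂˣ) : ℂ) * E x.1 g := fun x g => rfl
  have hinj : Function.Injective Φ := by
    rintro ⟨θ, μ⟩ ⟨θ', μ'⟩ h
    have hfun : ∀ g : G, ((μ.1 g : ℂˣ) : ℂ) * E θ g = ((μ'.1 g : ℂˣ) : ℂ) * E θ' g := by
      intro g
      have := congrArg (fun χ : {χ : IrrCharacter G // (charDegree (χ : G → ℂ)).Coprime K.index} =>
        (χ.1 : G → ℂ) g) h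
      simpa only [hΦ] using this
    have hθ : θ = θ' := by
      apply Subtype.ext
      apply Subtype.ext
      funext n
      have h1 := hfun n
      rw [μ.2 n n.2, μ'.2 n n.2, Units.val_one, one_mul, one_mul, hE2, hE2] at h1
      exact h1
    subst hθ
    have hμ : μ.1 = μ'.1 := by
      have hν := Cfsg.Agent.Helper80.hom_eq_one_of_mul_eq K.subtype ⟨E θ, hE1 θ⟩
        (by
          have : (fun n : K => E θ (K.subtype n)) = (θ.1 : K → ℂ) := funext (hE2 θ)
          show IsIrrCharacter K (fun n : K => E θ (K.subtype n))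
          rw [this]
          exact θ.1.2)
        (μ'.1⁻¹ * μ.1)
        (by
          intro n
          rw [MonoidHom.mul_apply, MonoidHom.inv_apply]
          show (μ'.1 (n : G))⁻¹ * μ.1 (n : G) = 1
          rw [μ.2 n n.2, μ'.2 n n.2, inv_one, one_mul])
        (by
          intro y
          show (((μ'.1⁻¹ * μ.1) y : ℂˣ) : ℂ) * E θ y = E θ y
          rw [MonoidHom.mul_apply, MonoidHom.inv_apply, Units.val_mul, mul_assoc, hfun y,
            ← mul_assoc, ← Units.val_mul, inv_mul_cancel, Units.val_one, one_mul])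
      apply MonoidHom.ext
      intro g
      have h3 := DFunLike.congr_fun hν g
      rw [MonoidHom.mul_apply, MonoidHom.inv_apply, MonoidHom.one_apply] at h3
      exact (inv_mul_eq_one.mp h3).symm
    have : μ = μ' := Subtype.ext hμ
    rw [this]
  have hsurj : Function.Surjective Φ := by
    rintro ⟨χ, hχ⟩
    have hres : IsCharacter K (fun n : K => (χ : G → ℂ) n) :=
      isCharacter_restrict K (IsIrrCharacter.isCharacter χ.2)
    have hres0 : (fun n : K => (χ : G → ℂ) n) ≠ 0 := by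
      intro h0
      have h1 := congrFun h0 1
      have h2 := Cfsg.Agent.Helper79.irr_one_eq χ
      simp only [Pi.zero_apply, Subgroup.coe_one] at h1
      rw [h2.1] at h1
      have : charDegree (χ : G → ℂ) = 0 := by exact_mod_cast h1
      exact h2.2.ne' this
    obtain ⟨θ₀, hθ₀, hne⟩ := exists_irr_constituent hres hres0
    have hinv := invariant_of_coprime_degree K hK χ.2 hθ₀ hne hχ
    have hinv' : ∀ (g : G) (n : K), θ₀ ⟨g * n * g⁻¹, hK.conj_mem n n.2 g⟩ = θ₀ n := by
      intro g n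
      have := congrFun (hinv g) n
      rw [conjFun_apply] at this
      exact this
    let θ : {θ : IrrCharacter K // ∀ (g : G) (n : K),
      (θ : K → ℂ) ⟨g * n * g⁻¹, hK.conj_mem n n.2 g⟩ = (θ : K → ℂ) n} := ⟨⟨θ₀, hθ₀⟩, hinv'⟩
    obtain ⟨β, hβK, hβ⟩ := over_coprime K hK (hE1 θ) χ.2 hθ₀ (funext (hE2 θ)) hne hχ
    refine ⟨⟨θ, ⟨β.toHomUnits, ?_⟩⟩, ?_⟩
    · intro k hk
      apply Units.ext
      rw [MonoidHom.coe_toHomUnits, Units.val_one]
      exact hβK ⟨k, hk⟩
    · apply Subtype.ext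
      apply Subtype.ext
      funext g
      rw [hΦ]
      show ((β.toHomUnits g : ℂˣ) : ℂ) * E θ g = (χ : G → ℂ) g
      rw [MonoidHom.coe_toHomUnits, hβ]
      rfl
  rw [← Nat.card_prod]
  exact (Nat.card_congr (Equiv.ofBijective Φ ⟨hinj, hsurj⟩)).symm

end Count

end Cfsg.Agent.Helper79.Cop
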