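import Cfsg.Agent.Lib.Helper79.Coprime.QuotPkg
import Cfsg.Agent.Lib.Helper79.Glaub.Compat
import Cfsg.Agent.Lib.Helper79.DegreeRatio

set_option autoImplicit false
set_option linter.unusedSectionVars false
set_option linter.style.haveILetI false

namespace Cfsg.Agent.Helper79.Cop

open Cfsg Cfsg.Agent.Helper81 Cfsg.Agent.Helper79.Glaub
open scoped ComplexConjugate

universe u

section FixedPt

variable {Γ : Type u} [Group Γ] [Fintype Γ]

/-- the degree ratio divides the index, for subgroups of an ambient group -/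
theorem amb_degree_ratio (A Q : Subgroup Γ) [Fintype A] [Fintype Q] (hQA : Q ≤ A)
    (hAQ : ∀ a ∈ A, ∀ q ∈ Q, a * q * a⁻¹ ∈ Q) (χ : IrrCharacter A) (θ : IrrCharacter Q)
    (hne : classInner (fun q : Q => (χ : A → ℂ) (Subgroup.inclusion hQA q)) (θ : Q → ℂ) ≠ 0) :
    ∃ e : ℕ, charDegree (χ : A → ℂ) = e * charDegree (θ : Q → ℂ) ∧ e ∣ Q.relIndex A := by
  classical
  set N : Subgroup A := Q.subgroupOf A with hN
  haveI : Fintype N := Fintype.ofFinite _
  haveI hNn : N.Normal := normal_subgroupOf_of_conj hAQ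
  let eQ : N ≃* Q := Subgroup.subgroupOfEquivOfLe hQA
  have hne' : classInner (fun n : N => (χ : A → ℂ) n) (irrComp eQ θ : N → ℂ) ≠ 0 := by
    rw [← classInner_comp_equiv eQ] at hne
    exact hne
  obtain ⟨e, he, hdvd⟩ := Cfsg.Agent.Helper79.degree_ratio_dvd_index N χ.2 (irrComp eQ θ).2 hne'
  refine ⟨e, ?_, hdvd⟩
  rw [irrComp_apply, map_one, (Cfsg.Agent.Helper79.irr_one_eq χ).1,
    (Cfsg.Agent.Helper79.irr_one_eq θ).1] at he
  exact_mod_cast he

/-- a character invariant under a `p`-group of operators has an invariant constituent on a normal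
`p`-subgroup of index prime to `p` -/
theorem exists_invariant_under (p : ℕ) [hp : Fact p.Prime] (P A Q : Subgroup Γ) [Fintype A]
    [Fintype Q] (hP : IsPGroup p P) (hQA : Q ≤ A) (hAQ : ∀ a ∈ A, ∀ q ∈ Q, a * q * a⁻¹ ∈ Q)
    (hQp : ∃ a : ℕ, Nat.card Q = p ^ a) (hidx : ¬ p ∣ Q.relIndex A)
    (hPQ : ∀ x ∈ P, NormAt Q x) (χ : IrrCharacter A)
    (hχ : ∀ x ∈ P, InvAt A (χ : A → ℂ) x) :
    ∃ θ : IrrCharacter Q, (∀ x ∈ P, InvAt Q (θ : Q → ℂ) x) ∧
      classInner (fun q : Q => (χ : A → ℂ) (Subgroup.inclusion hQA q)) (θ : Q → ℂ) ≠ 0 := by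
  classical
  haveI : Fintype (IrrCharacter Q) := @Fintype.ofFinite _ irr_finite
  have hχQ : IsCharacter Q (fun q : Q => (χ : A → ℂ) (Subgroup.inclusion hQA q)) :=
    isCharacter_comp_hom (Subgroup.inclusion hQA) (IsIrrCharacter.isCharacter χ.2)
  obtain ⟨m, hm⟩ := exists_nat_decomp hχQ
  have hmθ : ∀ θ : IrrCharacter Q,
      classInner (fun q : Q => (χ : A → ℂ) (Subgroup.inclusion hQA q)) (θ : Q → ℂ) =
        (m θ : ℂ) := by
    intro θ
    rw [hm]
    exact classInner_nat_decomp (fun χ' => (m χ' : ℂ)) θ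
  -- the degree
  have hdeg : charDegree (χ : A → ℂ) = ∑ θ : IrrCharacter Q, m θ * charDegree (θ : Q → ℂ) := by
    have h1 := congrFun hm 1
    simp only [map_one, Finset.sum_apply, Pi.smul_apply, smul_eq_mul] at h1
    rw [(Cfsg.Agent.Helper79.irr_one_eq χ).1] at h1
    have h2 : ∑ θ : IrrCharacter Q, (m θ : ℂ) * (θ : Q → ℂ) 1 =
        ((∑ θ : IrrCharacter Q, m θ * charDegree (θ : Q → ℂ) : ℕ) : ℂ) := by
      rw [Nat.cast_sum]
      apply Finset.sum_congr rfl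
      intro θ _
      rw [(Cfsg.Agent.Helper79.irr_one_eq θ).1, Nat.cast_mul]
    rw [h2] at h1
    exact_mod_cast h1
  obtain ⟨a, ha⟩ := hQp
  -- degrees of the constituents
  have hdegθ : ∀ θ : IrrCharacter Q, m θ ≠ 0 → ∃ (e b : ℕ), charDegree (χ : A → ℂ) = e * p ^ b ∧
      charDegree (θ : Q → ℂ) = p ^ b ∧ ¬ p ∣ e := by
    intro θ hθ
    have hne : classInner (fun q : Q => (χ : A → ℂ) (Subgroup.inclusion hQA q)) (θ : Q → ℂ) ≠ 0 := by
      rw [hmθ]
      exact_mod_cast hθ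
    obtain ⟨e, he, hdvd⟩ := amb_degree_ratio A Q hQA hAQ χ θ hne
    have h1 : charDegree (θ : Q → ℂ) ∣ p ^ a := by
      rw [← ha]
      exact Cfsg.Agent.Helper79.irr_degree_dvd_card θ
    obtain ⟨b, _, hb⟩ := (Nat.dvd_prime_pow hp.out).mp h1
    refine ⟨e, b, ?_, hb, fun h => hidx (h.trans hdvd)⟩
    rw [he, hb]
  -- a constituent exists
  have hex : ∃ θ₀ : IrrCharacter Q, m θ₀ ≠ 0 := by
    by_contra hcon
    push Not at hcon
    have : charDegree (χ : A → ℂ) = 0 := by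
      rw [hdeg]
      apply Finset.sum_eq_zero
      intro θ _
      rw [hcon θ, zero_mul]
    exact (Cfsg.Agent.Helper79.irr_one_eq χ).2.ne' this
  obtain ⟨θ₀, hθ₀⟩ := hex
  obtain ⟨e₀, b₀, hχ₀, hθ₀deg, hpe₀⟩ := hdegθ θ₀ hθ₀
  have hsame : ∀ θ : IrrCharacter Q, m θ ≠ 0 → charDegree (θ : Q → ℂ) = p ^ b₀ := by
    intro θ hθ
    obtain ⟨e, b, hχb, hθdeg, hpe⟩ := hdegθ θ hθ
    rw [hθdeg]
    have hcop : ∀ (e' : ℕ), ¬ p ∣ e' → ∀ (c : ℕ), Nat.Coprime (p ^ c) e' := fun e' he' c =>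
      Nat.Coprime.pow_left c ((Nat.Prime.coprime_iff_not_dvd hp.out).mpr he')
    have h1 : p ^ b ∣ p ^ b₀ := by
      have : p ^ b ∣ e₀ * p ^ b₀ := by rw [← hχ₀, hχb]; exact Dvd.intro_left e rfl
      exact (hcop e₀ hpe₀ b).dvd_of_dvd_mul_left this
    have h2 : p ^ b₀ ∣ p ^ b := by
      have : p ^ b₀ ∣ e * p ^ b := by rw [← hχb, hχ₀]; exact Dvd.intro_left e₀ rfl
      exact (hcop e hpe b₀).dvd_of_dvd_mul_left this
    exact Nat.dvd_antisymm h1 h2
  have hsum : ∑ θ : IrrCharacter Q, m θ = e₀ := by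
    have h1 : charDegree (χ : A → ℂ) = (∑ θ : IrrCharacter Q, m θ) * p ^ b₀ := by
      rw [hdeg, Finset.sum_mul]
      apply Finset.sum_congr rfl
      intro θ _
      by_cases h0 : m θ = 0
      · rw [h0, zero_mul, zero_mul]
      · rw [hsame θ h0]
    rw [hχ₀] at h1
    exact (Nat.eq_of_mul_eq_mul_right (pow_pos hp.out.pos b₀) h1).symm
  -- the orbit count
  letI := irrAction Q P hPQ
  have hinvf : ∀ (x : P) (θ : IrrCharacter Q), m (x • θ) = m θ := by
    intro x θ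
    have hxθ : x • θ = irrComp (conjEquiv Q ((x : Γ)⁻¹) (hPQ _ (P.inv_mem x.2))) θ := rfl
    have h2 : (m (x • θ) : ℂ) = (m θ : ℂ) := by
      rw [← hmθ, ← hmθ, hxθ, ← classInner_comp_equiv (conjEquiv Q ((x : Γ)⁻¹)
        (hPQ _ (P.inv_mem x.2))) (fun q : Q => (χ : A → ℂ) (Subgroup.inclusion hQA q))
        (θ : Q → ℂ)]
      congr 1
      funext n
      exact (hχ _ (P.inv_mem x.2) (Subgroup.inclusion hQA n) (Subgroup.inclusion hQA
        (conjEquiv Q ((x : Γ)⁻¹) (hPQ _ (P.inv_mem x.2)) n)) rfl).symm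
    exact_mod_cast h2
  have hB0 := sum_modEq_fixed p hP (fun θ => m θ) hinvf
  by_contra hcon
  push Not at hcon
  apply hpe₀
  rw [← hsum]
  have hzero : ∑ θ : IrrCharacter Q, (if ∀ g : P, g • θ = θ then m θ else 0) = 0 := by
    apply Finset.sum_eq_zero
    intro θ _
    by_cases hfix : ∀ g : P, g • θ = θ
    · rw [if_pos hfix]
      have hinv := (irrAction_fixed_iff Q P hPQ θ).mp hfix
      have h0 := hcon θ hinv
      rw [hmθ] at h0
      exact_mod_cast h0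
    · rw [if_neg hfix]
  rw [hzero] at hB0
  exact (Nat.modEq_zero_iff_dvd).mp hB0

end FixedPt

end Cfsg.Agent.Helper79.Cop
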