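import Cfsg.Agent.Lib.Helper79.Coprime.Local

set_option autoImplicit false
set_option linter.unusedSectionVars false
set_option linter.style.haveILetI false

namespace Cfsg.Agent.Helper79.Cop

open Cfsg Cfsg.Agent.Helper81 Cfsg.Agent.Helper79.Glaub
open scoped ComplexConjugate

universe u

section Global

variable {Γ : Type u} [Group Γ] [Fintype Γ]
variable {p : ℕ} [hp : Fact p.Prime] {P K Q C : Subgroup Γ}

/-- the global correspondence between invariant characters -/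
theorem global_pkg (S : Setting p P K Q C) [Fintype K] [Fintype C] [Fintype Q] :
    RelPkg p (Subgroup.inclusion S.hCK)
      (fun χ : IrrCharacter K => ∀ x ∈ P, InvAt K (χ : K → ℂ) x)
      (fun ξ : IrrCharacter C => ∀ x ∈ P, InvAt C (ξ : C → ℂ) x) := by
  classical
  have hiK : ∀ χ : IrrCharacter K, (∀ x ∈ P, InvAt K (χ : K → ℂ) x) →
      ∃ θ : IrrCharacter Q, (∀ x ∈ P, InvAt Q (θ : Q → ℂ) x) ∧
        classInner (fun q : Q => (χ : K → ℂ) (Subgroup.inclusion S.hQK q)) (θ : Q → ℂ) ≠ 0 :=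
    fun χ hχ => exists_invariant_under p P K Q S.hP S.hQK
      (fun a ha q hq => (S.hKQ a ha).1 q hq) S.hQp S.hidx S.hPQ χ hχ
  have hiC : ∀ ξ : IrrCharacter C, (∀ x ∈ P, InvAt C (ξ : C → ℂ) x) →
      ∃ θ : IrrCharacter Q, (∀ x ∈ P, InvAt Q (θ : Q → ℂ) x) ∧
        classInner (fun q : Q => (ξ : C → ℂ) (Subgroup.inclusion S.hQC q)) (θ : Q → ℂ) ≠ 0 :=
    fun ξ hξ => exists_invariant_under p P C Q S.hP S.hQC
      (fun a ha q hq => (S.hCQ a ha).1 q hq) S.hQp S.hidxC S.hPQ ξ hξ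
  have hover : ∀ (χ : IrrCharacter K) (ξ : IrrCharacter C) (θ : IrrCharacter Q),
      classInner (fun c : C => (χ : K → ℂ) (Subgroup.inclusion S.hCK c)) (ξ : C → ℂ) ≠ 0 →
      classInner (fun q : Q => (ξ : C → ℂ) (Subgroup.inclusion S.hQC q)) (θ : Q → ℂ) ≠ 0 →
      classInner (fun q : Q => (χ : K → ℂ) (Subgroup.inclusion S.hQK q)) (θ : Q → ℂ) ≠ 0 := by
    intro χ ξ θ h1 h2
    have hχC : IsCharacter C (fun c : C => (χ : K → ℂ) (Subgroup.inclusion S.hCK c)) :=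
      isCharacter_comp_hom (Subgroup.inclusion S.hCK) (IsIrrCharacter.isCharacter χ.2)
    exact over_trans Q C S.hQC hχC ξ.2 h1 θ h2
  have hm0 : ∀ m : ℕ, ¬ p ∣ m → (m : ℂ) ≠ 0 := by
    intro m hpm h0
    apply hpm
    have : m = 0 := by exact_mod_cast h0
    rw [this]
    exact dvd_zero p
  refine ⟨?_, ?_, ?_, ?_⟩
  · intro χ hχ
    obtain ⟨θ, hθ, hχθ⟩ := hiK χ hχ
    obtain ⟨⟨h1, _, _, _⟩, hL6⟩ := local_pkg S θ hθ
    obtain ⟨ξ, ⟨hξθ, m, hm, hpm⟩, huniq⟩ := h1 χ ⟨hχθ, hχ⟩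
    refine ⟨ξ, ⟨hL6 ξ hξθ, m, hm, hpm⟩, ?_⟩
    rintro ξ' ⟨hξ', m', hm', hpm'⟩
    obtain ⟨θ₂, hθ₂, hξ'θ₂⟩ := hiC ξ' hξ'
    have hχθ₂ := hover χ ξ' θ₂ (by rw [hm']; exact hm0 m' hpm') hξ'θ₂
    have hξ'θ := over_of_common p P K Q C S.hP S.hQK S.hQC S.hKQ S.hPK S.hPQ S.hidx S.hC χ θ θ₂
      hθ hθ₂ hχθ hχθ₂ ξ' hξ'θ₂
    exact huniq ξ' ⟨hξ'θ, m', hm', hpm'⟩
  · intro χ hχ ξ hξ m hm hpm
    obtain ⟨θ, hθ, hξθ⟩ := hiC ξ hξ
    have hχθ := hover χ ξ θ (by rw [hm]; exact hm0 m hpm) hξθ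
    obtain ⟨⟨_, h2, _, _⟩, _⟩ := local_pkg S θ hθ
    exact h2 χ ⟨hχθ, hχ⟩ ξ hξθ m hm hpm
  · intro χ χ' hχ hχ' ξ hξ m m' hm hpm hm' hpm'
    obtain ⟨θ, hθ, hξθ⟩ := hiC ξ hξ
    have hχθ := hover χ ξ θ (by rw [hm]; exact hm0 m hpm) hξθ
    have hχ'θ := hover χ' ξ θ (by rw [hm']; exact hm0 m' hpm') hξθ
    obtain ⟨⟨_, _, h3, _⟩, _⟩ := local_pkg S θ hθ
    exact h3 χ χ' ⟨hχθ, hχ⟩ ⟨hχ'θ, hχ'⟩ ξ hξθ m m' hm hpm hm' hpm'
  · intro ξ hξ
    obtain ⟨θ, hθ, hξθ⟩ := hiC ξ hξ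
    obtain ⟨⟨_, _, _, h4⟩, _⟩ := local_pkg S θ hθ
    obtain ⟨χ, ⟨_, hχ⟩, m, hm, hpm⟩ := h4 ξ hξθ
    exact ⟨χ, hχ, m, hm, hpm⟩

/-- the degrees of corresponding characters are congruent up to sign -/
theorem degree_congr (S : Setting p P K Q C) [Fintype K] [Fintype C] (χ : IrrCharacter K)
    (hχ : ∀ x ∈ P, InvAt K (χ : K → ℂ) x) (ξ₀ : IrrCharacter C)
    (hξ₀ : ∀ x ∈ P, InvAt C (ξ₀ : C → ℂ) x) (m₀ : ℕ)
    (hm₀ : classInner (fun c : C => (χ : K → ℂ) (Subgroup.inclusion S.hCK c)) (ξ₀ : C → ℂ) =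
      (m₀ : ℂ))
    (hpm₀ : (m₀ : ZMod p) = 1 ∨ (m₀ : ZMod p) = -1)
    (hother : ∀ ξ : IrrCharacter C, (∀ x ∈ P, InvAt C (ξ : C → ℂ) x) → ξ ≠ ξ₀ → ∀ m : ℕ,
      classInner (fun c : C => (χ : K → ℂ) (Subgroup.inclusion S.hCK c)) (ξ : C → ℂ) = (m : ℂ) →
        p ∣ m) :
    (charDegree (ξ₀ : C → ℂ) : ZMod p) = (charDegree (χ : K → ℂ) : ZMod p) ∨
      (charDegree (ξ₀ : C → ℂ) : ZMod p) = -(charDegree (χ : K → ℂ) : ZMod p) := by
  classical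
  haveI : Fintype (IrrCharacter C) := @Fintype.ofFinite _ irr_finite
  have hχC : IsCharacter C (fun c : C => (χ : K → ℂ) (Subgroup.inclusion S.hCK c)) :=
    isCharacter_comp_hom (Subgroup.inclusion S.hCK) (IsIrrCharacter.isCharacter χ.2)
  obtain ⟨m, hm⟩ := exists_nat_decomp hχC
  have hmξ : ∀ ξ : IrrCharacter C,
      classInner (fun c : C => (χ : K → ℂ) (Subgroup.inclusion S.hCK c)) (ξ : C → ℂ) =
        (m ξ : ℂ) := by
    intro ξ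
    rw [hm]
    exact classInner_nat_decomp (fun χ' => (m χ' : ℂ)) ξ
  have hdeg : charDegree (χ : K → ℂ) = ∑ ξ : IrrCharacter C, m ξ * charDegree (ξ : C → ℂ) := by
    have h1 := congrFun hm 1
    simp only [map_one, Finset.sum_apply, Pi.smul_apply, smul_eq_mul] at h1
    rw [(Cfsg.Agent.Helper79.irr_one_eq χ).1] at h1
    have h2 : ∑ ξ : IrrCharacter C, (m ξ : ℂ) * (ξ : C → ℂ) 1 =
        ((∑ ξ : IrrCharacter C, m ξ * charDegree (ξ : C → ℂ) : ℕ) : ℂ) := by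
      rw [Nat.cast_sum]
      apply Finset.sum_congr rfl
      intro ξ _
      rw [(Cfsg.Agent.Helper79.irr_one_eq ξ).1, Nat.cast_mul]
    rw [h2] at h1
    exact_mod_cast h1
  letI := irrAction C P S.hPC
  have hinvf : ∀ (x : P) (ξ : IrrCharacter C),
      m (x • ξ) * charDegree ((x • ξ : IrrCharacter C) : C → ℂ) =
        m ξ * charDegree (ξ : C → ℂ) := by
    intro x ξ
    have hxξ : x • ξ = irrComp (conjEquiv C ((x : Γ)⁻¹) (S.hPC _ (P.inv_mem x.2))) ξ := rfl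
    have h2 : (m (x • ξ) : ℂ) = (m ξ : ℂ) := by
      rw [← hmξ, ← hmξ, hxξ, ← classInner_comp_equiv (conjEquiv C ((x : Γ)⁻¹)
        (S.hPC _ (P.inv_mem x.2))) (fun c : C => (χ : K → ℂ) (Subgroup.inclusion S.hCK c))
        (ξ : C → ℂ)]
      congr 1
      funext n
      exact (hχ _ (P.inv_mem x.2) (Subgroup.inclusion S.hCK n) (Subgroup.inclusion S.hCK
        (conjEquiv C ((x : Γ)⁻¹) (S.hPC _ (P.inv_mem x.2)) n)) rfl).symm
    have h3 : m (x • ξ) = m ξ := by exact_mod_cast h2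
    have h4 : charDegree ((x • ξ : IrrCharacter C) : C → ℂ) = charDegree (ξ : C → ℂ) := by
      rw [hxξ]
      unfold charDegree
      rw [irrComp_apply, map_one]
    rw [h3, h4]
  have hB0 := sum_modEq_fixed p S.hP (fun ξ => m ξ * charDegree (ξ : C → ℂ)) hinvf
  have hfixiff : ∀ ξ : IrrCharacter C, (∀ x : P, x • ξ = ξ) ↔
      ∀ x ∈ P, InvAt C (ξ : C → ℂ) x := fun ξ => irrAction_fixed_iff C P S.hPC ξ
  have hmξ₀ : m ξ₀ = m₀ := by
    have := hmξ ξ₀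
    rw [hm₀] at this
    exact_mod_cast this.symm
  have hB : ((charDegree (χ : K → ℂ) : ℕ) : ZMod p) =
      (m₀ : ZMod p) * (charDegree (ξ₀ : C → ℂ) : ZMod p) := by
    rw [hdeg, (ZMod.natCast_eq_natCast_iff _ _ _).mpr hB0, Nat.cast_sum,
      Finset.sum_eq_single ξ₀]
    · rw [if_pos ((hfixiff ξ₀).mpr hξ₀), Nat.cast_mul, hmξ₀]
    · intro ξ _ hξ
      by_cases hfix : ∀ x : P, x • ξ = ξ
      · rw [if_pos hfix, Nat.cast_mul,
          (ZMod.natCast_eq_zero_iff _ _).mpr (hother ξ ((hfixiff ξ).mp hfix) hξ (m ξ) (hmξ ξ)),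
          zero_mul]
      · rw [if_neg hfix, Nat.cast_zero]
    · intro h
      exact absurd (Finset.mem_univ ξ₀) h
  rcases hpm₀ with h1 | h1
  · left
    rw [hB, h1, one_mul]
  · right
    rw [hB, h1, neg_one_mul, neg_neg]

end Global

end Cfsg.Agent.Helper79.Cop
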