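import Cfsg.Agent.Lib.Helper79.Coprime.Global

set_option autoImplicit false
set_option linter.unusedSectionVars false
set_option linter.style.haveILetI false

namespace Cfsg.Agent.Helper79.Cop

open Cfsg Cfsg.Agent.Helper81 Cfsg.Agent.Helper79.Glaub
open scoped ComplexConjugate

universe u

/-- the relative Glauberman correspondence (Isaacs--Navarro) -/
theorem in_main {G : Type u} [Group G] [Fintype G] (p : ℕ) [hp : Fact p.Prime]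
    (P K Q C : Subgroup G) (hP : IsPGroup p ↥P)
    (hPK : P ≤ Subgroup.normalizer (K : Set G)) (hQK : Q ≤ K)
    (hQn : ∀ k ∈ K, ∀ q ∈ Q, k * q * k⁻¹ ∈ Q) (hQp : ∃ a : ℕ, Nat.card ↥Q = p ^ a)
    (hQsyl : ¬ p ∣ Q.relIndex K) (hCK : C ≤ K)
    (hC : ∀ k : G, k ∈ C ↔ (k ∈ K ∧ ∀ x ∈ P, x * k * x⁻¹ * k⁻¹ ∈ Q)) :
    ∃ f : {χ : IrrCharacter ↥K // ∀ x ∈ P, InvAt K (χ : ↥K → ℂ) x} →
        {ξ : IrrCharacter ↥C // ∀ x ∈ P, InvAt C (ξ : ↥C → ℂ) x},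
      Function.Bijective f ∧ ∀ χ,
        (∀ ξ : {ξ : IrrCharacter ↥C // ∀ x ∈ P, InvAt C (ξ : ↥C → ℂ) x}, ∃ m : ℕ,
          (Nat.card ↥C : ℂ)⁻¹ * ∑ᶠ c : ↥C, (χ.1 : ↥K → ℂ) (Subgroup.inclusion hCK c) *
            (starRingEnd ℂ) ((ξ.1 : ↥C → ℂ) c) = (m : ℂ) ∧
          (ξ = f χ → ((m : ZMod p) = 1 ∨ (m : ZMod p) = -1)) ∧ (ξ ≠ f χ → p ∣ m)) ∧
        ((charDegree ((f χ).1 : ↥C → ℂ) : ZMod p) = (charDegree (χ.1 : ↥K → ℂ) : ZMod p) ∨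
          (charDegree ((f χ).1 : ↥C → ℂ) : ZMod p) =
            -(charDegree (χ.1 : ↥K → ℂ) : ZMod p)) := by
  classical
  haveI : Fintype K := Fintype.ofFinite _
  haveI : Fintype C := Fintype.ofFinite _
  haveI : Fintype Q := Fintype.ofFinite _
  have hKQ : ∀ k ∈ K, NormAt Q k := by
    intro k hk
    refine ⟨hQn k hk, ?_⟩
    intro q hq
    have := hQn k⁻¹ (K.inv_mem hk) q hq
    rwa [inv_inv] at this
  have S : Setting p P K Q C :=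
    ⟨hP, fun x hx => (normAt_iff_mem_normalizer K x).mpr (hPK hx), hQK, hKQ, hQp, hQsyl, hC⟩
  obtain ⟨G1, G2, G3, G4⟩ := global_pkg S
  -- the inner product in the form of the statement
  have hform : ∀ (χ : IrrCharacter K) (ξ : IrrCharacter C),
      (Nat.card ↥C : ℂ)⁻¹ * ∑ᶠ c : ↥C, (χ : ↥K → ℂ) (Subgroup.inclusion hCK c) *
        (starRingEnd ℂ) ((ξ : ↥C → ℂ) c) =
      classInner (fun c : C => (χ : K → ℂ) (Subgroup.inclusion S.hCK c)) (ξ : C → ℂ) := by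
    intro χ ξ
    rw [finsum_eq_sum_of_fintype]
    rfl
  have hnat : ∀ (χ : IrrCharacter K) (ξ : IrrCharacter C), ∃ m : ℕ,
      classInner (fun c : C => (χ : K → ℂ) (Subgroup.inclusion S.hCK c)) (ξ : C → ℂ) =
        (m : ℂ) := by
    intro χ ξ
    exact exists_nat_classInner
      (isCharacter_comp_hom (Subgroup.inclusion S.hCK) (IsIrrCharacter.isCharacter χ.2)) ξ.2
  have hex : ∀ χ : {χ : IrrCharacter ↥K // ∀ x ∈ P, InvAt K (χ : ↥K → ℂ) x},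
      ∃ ξ : {ξ : IrrCharacter ↥C // ∀ x ∈ P, InvAt C (ξ : ↥C → ℂ) x}, ∃ m : ℕ,
        classInner (fun c : C => (χ.1 : K → ℂ) (Subgroup.inclusion S.hCK c)) (ξ.1 : C → ℂ) =
          (m : ℂ) ∧ ¬ p ∣ m := by
    intro χ
    obtain ⟨ξ, ⟨hξ, m, hm, hpm⟩, _⟩ := G1 χ.1 χ.2
    exact ⟨⟨ξ, hξ⟩, m, hm, hpm⟩
  choose f hf using hex
  have huniq : ∀ (χ : {χ : IrrCharacter ↥K // ∀ x ∈ P, InvAt K (χ : ↥K → ℂ) x})
      (ξ : {ξ : IrrCharacter ↥C // ∀ x ∈ P, InvAt C (ξ : ↥C → ℂ) x}) (m : ℕ),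
      classInner (fun c : C => (χ.1 : K → ℂ) (Subgroup.inclusion S.hCK c)) (ξ.1 : C → ℂ) =
        (m : ℂ) → ¬ p ∣ m → ξ = f χ := by
    intro χ ξ m hm hpm
    obtain ⟨ξ₀, _, hu⟩ := G1 χ.1 χ.2
    obtain ⟨m', hm', hpm'⟩ := hf χ
    apply Subtype.ext
    rw [hu ξ.1 ⟨ξ.2, m, hm, hpm⟩, hu (f χ).1 ⟨(f χ).2, m', hm', hpm'⟩]
  refine ⟨f, ⟨?_, ?_⟩, ?_⟩
  · intro χ χ' hχχ'
    obtain ⟨m, hm, hpm⟩ := hf χ
    obtain ⟨m', hm', hpm'⟩ := hf χ'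
    rw [← hχχ'] at hm'
    exact Subtype.ext (G3 χ.1 χ'.1 χ.2 χ'.2 (f χ).1 (f χ).2 m m' hm hpm hm' hpm')
  · intro ξ
    obtain ⟨χ, hχ, m, hm, hpm⟩ := G4 ξ.1 ξ.2
    exact ⟨⟨χ, hχ⟩, (huniq ⟨χ, hχ⟩ ξ m hm hpm).symm⟩
  · intro χ
    have hmain : ∀ ξ : {ξ : IrrCharacter ↥C // ∀ x ∈ P, InvAt C (ξ : ↥C → ℂ) x}, ∀ m : ℕ,
        classInner (fun c : C => (χ.1 : K → ℂ) (Subgroup.inclusion S.hCK c)) (ξ.1 : C → ℂ) =
          (m : ℂ) →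
        (ξ = f χ → ((m : ZMod p) = 1 ∨ (m : ZMod p) = -1)) ∧ (ξ ≠ f χ → p ∣ m) := by
      intro ξ m hm
      constructor
      · intro hξ
        obtain ⟨m', hm', hpm'⟩ := hf χ
        rw [← hξ, hm] at hm'
        have hmm' : m = m' := by exact_mod_cast hm'
        rw [← hmm'] at hpm'
        have h2 := G2 χ.1 χ.2 ξ.1 ξ.2 m hm hpm'
        rcases h2 with h2 | h2
        · left
          have := (ZMod.intCast_eq_intCast_iff _ _ p).mpr h2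
          simpa using this
        · right
          have := (ZMod.intCast_eq_intCast_iff _ _ p).mpr h2
          simpa using this
      · intro hξ
        by_contra hpm
        exact hξ (huniq χ ξ m hm hpm)
    refine ⟨?_, ?_⟩
    · intro ξ
      obtain ⟨m, hm⟩ := hnat χ.1 ξ.1
      refine ⟨m, ?_, hmain ξ m hm⟩
      rw [hform]
      exact hm
    · obtain ⟨m₀, hm₀⟩ := hnat χ.1 (f χ).1
      apply degree_congr S χ.1 χ.2 (f χ).1 (f χ).2 m₀ hm₀ ((hmain (f χ) m₀ hm₀).1 rfl)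
      intro ξ hξ hne m hm
      apply (hmain ⟨ξ, hξ⟩ m hm).2
      intro heq
      apply hne
      rw [← heq]

end Cfsg.Agent.Helper79.Cop
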