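import Cfsg.Agent.Lib.Helper79.Coprime.KerPrimeA
import Cfsg.Agent.Lib.Helper74.LinChar

set_option autoImplicit false
set_option linter.unusedSectionVars false
set_option linter.style.haveILetI false

namespace Cfsg.Agent.Helper79.Cop

open Cfsg Cfsg.Agent.Helper81 Cfsg.Agent.Helper79.Glaub
open scoped ComplexConjugate

universe u

section KerPrimeB

variable {G : Type u} [Group G] [Fintype G]

/-- the Sylow subgroup and a normal `p'`-subgroup have coprime orders -/
theorem coprime_card_sylow {p : ℕ} [hp : Fact p.Prime] (P : Sylow p G) (N : Subgroup G)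
    (hcop : ¬ p ∣ Nat.card N) : (Nat.card N).Coprime (Nat.card (P : Subgroup G)) := by
  obtain ⟨n, hn⟩ := IsPGroup.iff_card.mp P.isPGroup'
  rw [hn]
  exact Nat.Coprime.pow_right n ((Nat.Prime.coprime_iff_not_dvd hp.out).mpr hcop).symm

/-- invariance under `conjFun` in the elementwise form -/
theorem invAt_of_conjFun (N : Subgroup G) (hN : N.Normal) (η : N → ℂ) (s : G)
    (h : conjFun N hN η s = η) :
    ∀ g g' : N, (g' : G) = s * g * s⁻¹ → η g' = η g := by
  intro g g' hg'
  have h1 := congrFun h g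
  rw [conjFun_apply] at h1
  rw [← h1]
  congr 1
  exact Subtype.ext hg'

/-- if `P` has no fixed points on the normal `p'`-subgroup `N`, the only `P`-invariant irreducible
character of `N` is the trivial one -/
theorem invariant_eq_one {p : ℕ} [hp : Fact p.Prime] (P : Sylow p G) (N : Subgroup G) [Fintype N]
    (hN : N.Normal) (hcent : N ⊓ Subgroup.centralizer ((P : Subgroup G) : Set G) = ⊥)
    (hcop : ¬ p ∣ Nat.card N) {η : N → ℂ} (hη : IsIrrCharacter N η)
    (hinv : ∀ s ∈ P, conjFun N hN η s = η) : η = 1 := by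
  classical
  have hnorm : ∀ s ∈ (P : Subgroup G), ∀ g ∈ N, s * g * s⁻¹ ∈ N :=
    fun s _ g hg => hN.conj_mem g hg s
  have hnormAt : ∀ s ∈ (P : Subgroup G), NormAt N s := by
    intro s _
    refine ⟨fun g hg => hN.conj_mem g hg s, fun g hg => ?_⟩
    have := hN.conj_mem g hg s⁻¹
    rwa [inv_inv] at this
  have hcop' := coprime_card_sylow P N hcop
  have hsolv : Group.IsSolvable (P : Subgroup G) := by
    haveI := P.isPGroup'.isNilpotent
    infer_instance
  have hcount := card_invariant_irr_eq_classes N (P : Subgroup G) hnorm hcop' hsolv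
  have hex := classEx_pgroup p hp.out (Nat.card (P : Subgroup G)) N (P : Subgroup G) rfl hnormAt
    hcop' P.isPGroup'
  have hsub : Subsingleton {K : ConjClasses N // ∀ s ∈ (P : Subgroup G), ∀ g g' : N,
      (g' : G) = s * g * s⁻¹ → ConjClasses.mk g = K → ConjClasses.mk g' = K} := by
    have hall : ∀ K : {K : ConjClasses N // ∀ s ∈ (P : Subgroup G), ∀ g g' : N,
        (g' : G) = s * g * s⁻¹ → ConjClasses.mk g = K → ConjClasses.mk g' = K},
        K.1 = ConjClasses.mk 1 := by
      rintro ⟨K, hK⟩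
      obtain ⟨g, rfl⟩ := ConjClasses.exists_rep K
      obtain ⟨γ, hγ, hfix⟩ := hex g g.2 (fun s hs => by
        have h1 := hK s hs g ⟨s * g * s⁻¹, hnorm s hs g g.2⟩ rfl rfl
        rw [ConjClasses.mk_eq_mk_iff_isConj, isConj_iff] at h1
        obtain ⟨c, hc⟩ := h1
        refine ⟨((c⁻¹ : N) : G), (c⁻¹).2, ?_⟩
        have h2 := congrArg Subtype.val hc
        simp only [Subgroup.coe_mul, Subgroup.coe_inv] at h2 ⊢
        calc s * (g : G) * s⁻¹
            = (c : G)⁻¹ * ((c : G) * (s * (g : G) * s⁻¹) * (c : G)⁻¹) * (c : G) := by group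
          _ = (c : G)⁻¹ * (g : G) * (c : G) := by rw [h2]
          _ = (c : G)⁻¹ * (g : G) * ((c : G)⁻¹)⁻¹ := by rw [inv_inv])
      have hmem : γ * g * γ⁻¹ ∈ N ⊓ Subgroup.centralizer ((P : Subgroup G) : Set G) :=
        Subgroup.mem_inf.mpr ⟨hN.conj_mem g g.2 γ, hfix⟩
      rw [hcent, Subgroup.mem_bot] at hmem
      have hg1 : (g : G) = 1 := by
        have : (g : G) = γ⁻¹ * (γ * g * γ⁻¹) * γ := by group
        rw [this, hmem]; group
      show ConjClasses.mk g = ConjClasses.mk 1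
      congr 1
      exact Subtype.ext hg1
    constructor
    intro a b
    apply Subtype.ext
    rw [hall a, hall b]
  have hle : Nat.card {K : ConjClasses N // ∀ s ∈ (P : Subgroup G), ∀ g g' : N,
      (g' : G) = s * g * s⁻¹ → ConjClasses.mk g = K → ConjClasses.mk g' = K} ≤ 1 :=
    Finite.card_le_one_iff_subsingleton.mpr hsub
  rw [← hcount] at hle
  have hsub' := Finite.card_le_one_iff_subsingleton.mp hle
  have h1N : IsIrrCharacter N (1 : N → ℂ) := isIrrCharacter_one
  have := hsub'.elim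
    ⟨⟨η, hη⟩, fun s hs => invAt_of_conjFun N hN η s (hinv s hs)⟩
    ⟨⟨1, h1N⟩, fun s _ g g' _ => rfl⟩
  exact congrArg (fun x => (x.1 : N → ℂ)) this

/-- if `P` has a nontrivial fixed point on the normal `p'`-subgroup `L`, there is a nontrivial
`P`-invariant irreducible character of `L` -/
theorem exists_invariant_ne_one {p : ℕ} [hp : Fact p.Prime] (P : Sylow p G) (L : Subgroup G)
    [Fintype L] (hL : L.Normal)
    (hcent : L ⊓ Subgroup.centralizer ((P : Subgroup G) : Set G) ≠ ⊥)
    (hcop : ¬ p ∣ Nat.card L) :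
    ∃ η : L → ℂ, IsIrrCharacter L η ∧ (∀ s ∈ P, conjFun L hL η s = η) ∧ η ≠ 1 := by
  classical
  have hnorm : ∀ s ∈ (P : Subgroup G), ∀ g ∈ L, s * g * s⁻¹ ∈ L :=
    fun s _ g hg => hL.conj_mem g hg s
  have hcop' := coprime_card_sylow P L hcop
  have hsolv : Group.IsSolvable (P : Subgroup G) := by
    haveI := P.isPGroup'.isNilpotent
    infer_instance
  have hcount := card_invariant_irr_eq_classes L (P : Subgroup G) hnorm hcop' hsolv
  obtain ⟨c, hc1⟩ := (Subgroup.ne_bot_iff_exists_ne_one).mp hcent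
  obtain ⟨hcL, hcC⟩ := Subgroup.mem_inf.mp c.2
  have hcne : (c : G) ≠ 1 := fun h => hc1 (Subtype.ext h)
  -- two invariant classes
  let K₁ : {K : ConjClasses L // ∀ s ∈ (P : Subgroup G), ∀ g g' : L,
      (g' : G) = s * g * s⁻¹ → ConjClasses.mk g = K → ConjClasses.mk g' = K} :=
    ⟨ConjClasses.mk 1, by
      intro s _ g g' hg' hg
      rw [ConjClasses.mk_eq_mk_iff_isConj, isConj_one_left] at hg
      have : g' = 1 := by
        apply Subtype.ext
        rw [hg', hg]
        simp
      rw [this]⟩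
  let K₂ : {K : ConjClasses L // ∀ s ∈ (P : Subgroup G), ∀ g g' : L,
      (g' : G) = s * g * s⁻¹ → ConjClasses.mk g = K → ConjClasses.mk g' = K} :=
    ⟨ConjClasses.mk ⟨(c : G), hcL⟩, by
      intro s hs g g' hg' hg
      rw [ConjClasses.mk_eq_mk_iff_isConj, isConj_iff] at hg ⊢
      obtain ⟨h, hh⟩ := hg
      refine ⟨⟨s * h * s⁻¹, hL.conj_mem h h.2 s⟩, ?_⟩
      apply Subtype.ext
      have h2 := congrArg Subtype.val hh
      simp only [Subgroup.coe_mul, Subgroup.coe_inv] at h2 ⊢
      rw [hg']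
      have hsc : s * (c : G) = (c : G) * s :=
        (Subgroup.mem_centralizer_iff.mp hcC s hs)
      calc s * (h : G) * s⁻¹ * (s * (g : G) * s⁻¹) * (s * (h : G) * s⁻¹)⁻¹
          = s * ((h : G) * (g : G) * (h : G)⁻¹) * s⁻¹ := by group
        _ = s * (c : G) * s⁻¹ := by rw [h2]
        _ = (c : G) := by rw [hsc]; group⟩
  have hK12 : K₁ ≠ K₂ := by
    intro h
    have h1 : ConjClasses.mk (1 : L) = ConjClasses.mk ⟨(c : G), hcL⟩ := congrArg Subtype.val h
    rw [ConjClasses.mk_eq_mk_iff_isConj, isConj_one_right] at h1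
    exact hcne (congrArg Subtype.val h1)
  haveI : Nontrivial {K : ConjClasses L // ∀ s ∈ (P : Subgroup G), ∀ g g' : L,
      (g' : G) = s * g * s⁻¹ → ConjClasses.mk g = K → ConjClasses.mk g' = K} :=
    nontrivial_of_ne K₁ K₂ hK12
  have hlt : 1 < Nat.card {K : ConjClasses L // ∀ s ∈ (P : Subgroup G), ∀ g g' : L,
      (g' : G) = s * g * s⁻¹ → ConjClasses.mk g = K → ConjClasses.mk g' = K} :=
    Finite.one_lt_card
  rw [← hcount] at hlt
  haveI := Finite.one_lt_card_iff_nontrivial.mp hlt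
  have h1L : IsIrrCharacter L (1 : L → ℂ) := isIrrCharacter_one
  obtain ⟨⟨η, hηinv⟩, hne⟩ := exists_ne (⟨⟨1, h1L⟩, fun s _ g g' _ => rfl⟩ :
    {χ : IrrCharacter L // (∀ s ∈ (P : Subgroup G), ∀ g g' : L, (g' : G) = s * g * s⁻¹ →
      (χ : L → ℂ) g' = (χ : L → ℂ) g)})
  refine ⟨η.1, η.2, ?_, ?_⟩
  · intro s hs
    funext n
    rw [conjFun_apply]
    exact hηinv s hs n _ rfl
  · intro h
    apply hne
    apply Subtype.ext
    apply Subtype.ext
    exact h

end KerPrimeB

end Cfsg.Agent.Helper79.Cop
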