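import Cfsg.Agent.Lib.Helper79.Coprime.KerPrimeB

set_option autoImplicit false
set_option linter.unusedSectionVars false
set_option linter.style.haveILetI false

namespace Cfsg.Agent.Helper79.Cop

open Cfsg Cfsg.Agent.Helper81 Cfsg.Agent.Helper79.Glaub
open scoped ComplexConjugate

universe u

section KerPrimeC

variable {G : Type u} [Group G] [Fintype G]

/-- over a `P`-invariant irreducible character of a normal `p'`-subgroup there lies an irreducible
character of `G` of degree prime to `p` -/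
theorem exists_prime_degree_over {p : ℕ} [hp : Fact p.Prime] (P : Sylow p G) (L : Subgroup G)
    [Fintype L] (hL : L.Normal) (hcop : ¬ p ∣ Nat.card L) {η : L → ℂ} (hη : IsIrrCharacter L η)
    (hinv : ∀ s ∈ P, conjFun L hL η s = η) :
    ∃ χ : IrrCharacter G, ¬ p ∣ charDegree (χ : G → ℂ) ∧
      classInner (fun l : L => (χ : G → ℂ) l) η ≠ 0 := by
  classical
  haveI := hL
  set H : Subgroup G := L ⊔ (P : Subgroup G) with hH
  haveI : Fintype H := Fintype.ofFinite _
  have hLH : L ≤ H := le_sup_left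
  have hPH : (P : Subgroup G) ≤ H := le_sup_right
  set K' : Subgroup H := L.subgroupOf H with hK'
  haveI : Fintype K' := Fintype.ofFinite _
  have hK'n : K'.Normal := hL.subgroupOf H
  let e : K' ≃* L := Subgroup.subgroupOfEquivOfLe hLH
  let θ' : IrrCharacter K' := irrComp e ⟨η, hη⟩
  have hηcf := isClassFunction_of_isCharacter (IsIrrCharacter.isCharacter hη)
  -- invariance of `η` under `H`
  have hηH : ∀ x : G, x ∈ H → ∀ k : L, η ⟨x * k * x⁻¹, hL.conj_mem k k.2 x⟩ = η k := by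
    intro x hx k
    rw [hH, ← SetLike.mem_coe, Subgroup.normal_mul] at hx
    obtain ⟨l, hl, s, hs, rfl⟩ := Set.mem_mul.mp hx
    have h1 := congrFun (hinv s hs) k
    rw [conjFun_apply] at h1
    have h2 := hηcf ⟨s * k * s⁻¹, hL.conj_mem k k.2 s⟩ ⟨l, hl⟩
    rw [← h1, ← h2]
    congr 1
    apply Subtype.ext
    simp only [Subgroup.coe_mul, Subgroup.coe_inv]
    group
  have hθinv : ∀ (h : H) (k : K'),
      (θ' : K' → ℂ) ⟨h * k * h⁻¹, hK'n.conj_mem k k.2 h⟩ = (θ' : K' → ℂ) k := by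
    intro h k
    have h1 := hηH (h : G) h.2 (e k)
    rw [irrComp_apply, irrComp_apply]
    show η (e ⟨h * k * h⁻¹, _⟩) = η (e k)
    rw [← h1]
    congr 1
  -- coprimality
  have hcardK' : Nat.card K' = Nat.card L := Nat.card_congr e.toEquiv
  have hidxK' : K'.index ∣ Nat.card (P : Subgroup G) := by
    have h1 : K'.index = L.relIndex H := rfl
    rw [h1, hH, Subgroup.relIndex_sup_left]
    exact Subgroup.relIndex_dvd_card L (P : Subgroup G)
  have hcopK : (Nat.card K').Coprime K'.index := by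
    rw [hcardK']
    exact Nat.Coprime.coprime_dvd_right hidxK' (coprime_card_sylow P L hcop)
  obtain ⟨ψ, ⟨hψ, hψres, _⟩, _⟩ := exists_canonical_extension K' hK'n θ'.2 hθinv
    (charDegree (θ' : K' → ℂ)) (Cfsg.Agent.Helper79.irr_one_eq θ').1
    (Cfsg.Agent.Helper79.Glaub.coprime_index_detOrder_mul K' hcopK θ'.2)
  -- the restriction of `ψ` to `L` is `η`
  have hres : resTo hLH ψ = η := by
    funext l
    have h1 := hψres ⟨⟨(l : G), hLH l.2⟩, Subgroup.mem_subgroupOf.mpr l.2⟩
    show ψ ⟨(l : G), hLH l.2⟩ = η l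
    rw [h1, irrComp_apply]
    congr 1
  -- the degree of `ψ`
  have hψ1 : ψ 1 = (charDegree η : ℂ) := by
    have h1 := congrFun hres 1
    have h2 : resTo hLH ψ 1 = ψ 1 := rfl
    rw [← h2, h1]
    exact (Cfsg.Agent.Helper79.irr_one_eq ⟨η, hη⟩).1
  have hηdeg : ¬ p ∣ charDegree η := fun h =>
    hcop (h.trans (Cfsg.Agent.Helper79.irr_degree_dvd_card ⟨η, hη⟩))
  have hHidx : ¬ p ∣ H.index := fun h =>
    P.not_dvd_index (h.trans (Subgroup.index_dvd_of_le hPH))
  have hΘ : IsCharacter G (indFun H ψ) := isCharacter_indFun H (IsIrrCharacter.isCharacter hψ)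
  have hΘ1 : indFun H ψ 1 = ((H.index * charDegree η : ℕ) : ℂ) := by
    rw [indFun_one, hψ1, Nat.cast_mul]
  obtain ⟨χ, hχne, hχdeg⟩ := exists_constituent_not_dvd (p := p) hΘ _ hΘ1 (by
    intro h
    rcases (Nat.Prime.dvd_mul hp.out).mp h with h | h
    · exact hHidx h
    · exact hηdeg h)
  refine ⟨χ, hχdeg, ?_⟩
  obtain ⟨k, hk⟩ := classInner_restrict_ge L H hLH hη hψ χ.2 hχne
  rw [hk, hres, Cfsg.Agent.Helper81.irr_orthonormal hη hη, if_pos rfl]
  intro h
  have : (1 + k : ℕ) = 0 := by exact_mod_cast h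
  omega

/-- over a linear character of a Sylow `p`-subgroup there lies an irreducible character of `G`
of degree prime to `p` -/
theorem exists_prime_degree_over_linear {p : ℕ} [hp : Fact p.Prime] (P : Sylow p G)
    [Fintype (P : Subgroup G)] (l : (P : Subgroup G) →* ℂˣ) :
    ∃ χ : IrrCharacter G, ¬ p ∣ charDegree (χ : G → ℂ) ∧
      classInner (fun x : (P : Subgroup G) => (χ : G → ℂ) x)
        (Cfsg.Agent.Helper74.Lin.ofHom l).1 ≠ 0 := by
  classical
  set lam := Cfsg.Agent.Helper74.Lin.ofHom l with hlam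
  have hΘ : IsCharacter G (indFun (P : Subgroup G) lam.1) :=
    isCharacter_indFun _ (IsIrrCharacter.isCharacter lam.2)
  have hΘ1 : indFun (P : Subgroup G) lam.1 1 =
      (((P : Subgroup G).index : ℕ) : ℂ) := by
    rw [indFun_one, hlam]
    have := Cfsg.Agent.Helper74.Lin.ofHom_one_eq l
    rw [this, mul_one]
  obtain ⟨χ, hχne, hχdeg⟩ := exists_constituent_not_dvd (p := p) hΘ _ hΘ1 P.not_dvd_index
  refine ⟨χ, hχdeg, ?_⟩
  have hχcf := isClassFunction_of_isCharacter (IsIrrCharacter.isCharacter χ.2)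
  rw [frobenius_reciprocity (P : Subgroup G) _ hχcf] at hχne
  intro h0
  apply hχne
  rw [classInner_conj_symm, h0, map_zero]

/-- an element of the kernel of `χ` lies in the kernel of every linear constituent of a
restriction of `χ` -/
theorem hom_eq_one_of_mem_irrKer (H : Subgroup G) [Fintype H] (χ : IrrCharacter G)
    (l : H →* ℂˣ) (x : H) (hx : (x : G) ∈ Cfsg.Agent.Helper79.irrKer χ)
    (hne : classInner (fun y : H => (χ : G → ℂ) y)
      (Cfsg.Agent.Helper74.Lin.ofHom l : H → ℂ) ≠ 0) : l x = 1 := by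
  classical
  unfold classInner at hne
  set S := ∑ y : H, (χ : G → ℂ) y * conj ((Cfsg.Agent.Helper74.Lin.ofHom l : H → ℂ) y) with hS
  have hS0 : S ≠ 0 := by
    intro h
    apply hne
    rw [h, mul_zero]
  have h1 : S = S * conj (((l x : ℂˣ) : ℂ)) := by
    have h2 : S = ∑ y : H, (χ : G → ℂ) ((y * x : H) : G) *
        conj ((Cfsg.Agent.Helper74.Lin.ofHom l : H → ℂ) (y * x)) := by
      rw [hS]
      exact (Equiv.sum_comp (Equiv.mulRight x) (fun y : H => (χ : G → ℂ) y *
        conj ((Cfsg.Agent.Helper74.Lin.ofHom l : H → ℂ) y))).symm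
    have h3 : ∀ y : H, (χ : G → ℂ) ((y * x : H) : G) *
        conj ((Cfsg.Agent.Helper74.Lin.ofHom l : H → ℂ) (y * x)) =
        ((χ : G → ℂ) y * conj ((Cfsg.Agent.Helper74.Lin.ofHom l : H → ℂ) y)) *
          conj (((l x : ℂˣ) : ℂ)) := by
      intro y
      rw [Subgroup.coe_mul, Cfsg.Agent.Helper79.irr_mul_of_mem_irrKer χ _ _ hx,
        Cfsg.Agent.Helper74.Lin.ofHom_apply, Cfsg.Agent.Helper74.Lin.ofHom_apply, map_mul,
        Units.val_mul, map_mul, mul_assoc]
    calc S = ∑ y : H, (χ : G → ℂ) ((y * x : H) : G) *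
          conj ((Cfsg.Agent.Helper74.Lin.ofHom l : H → ℂ) (y * x)) := h2
      _ = ∑ y : H, ((χ : G → ℂ) y * conj ((Cfsg.Agent.Helper74.Lin.ofHom l : H → ℂ) y)) *
          conj (((l x : ℂˣ) : ℂ)) := Finset.sum_congr rfl (fun y _ => h3 y)
      _ = S * conj (((l x : ℂˣ) : ℂ)) := by rw [← Finset.sum_mul]
  have h3 : conj (((l x : ℂˣ) : ℂ)) = 1 := by
    have h4 : S * (conj (((l x : ℂˣ) : ℂ)) - 1) = 0 := by
      rw [mul_sub, mul_one, ← h1, sub_self]
    rcases mul_eq_zero.mp h4 with h5 | h5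
    · exact absurd h5 hS0
    · exact sub_eq_zero.mp h5
  have h6 : ((l x : ℂˣ) : ℂ) = 1 := by
    have := congrArg (starRingEnd ℂ) h3
    rwa [Complex.conj_conj, map_one] at this
  exact Units.ext h6

end KerPrimeC

end Cfsg.Agent.Helper79.Cop
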