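import Cfsg.Agent.Lib.Helper79.Coprime.KerPrimeC
import Cfsg.Agent.Lib.Helper2.Tate
import Cfsg.Agent.Lib.Helper2.PGroup

set_option autoImplicit false
set_option linter.unusedSectionVars false
set_option linter.style.haveILetI false

namespace Cfsg.Agent.Helper79.Cop

open Cfsg Cfsg.Agent.Helper81 Cfsg.Agent.Helper79.Glaub
open scoped ComplexConjugate

universe u

open scoped Pointwise

section KerPrimeD

variable {G : Type u} [Group G] [Fintype G]

/-- a normal subgroup on which the Sylow `p`-subgroup `P` acts without fixed points is a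
`p'`-group -/
theorem not_dvd_card_of_cent_bot {p : ℕ} [hp : Fact p.Prime] (P : Sylow p G) (N : Subgroup G)
    (hN : N.Normal) (hcent : N ⊓ Subgroup.centralizer ((P : Subgroup G) : Set G) = ⊥) :
    ¬ p ∣ Nat.card N := by
  classical
  haveI := hN
  let f : (P : Subgroup G) →* MulAut N :=
    (MulAut.conjNormal (H := N)).comp (P : Subgroup G).subtype
  letI : MulAction (P : Subgroup G) N := MulAction.compHom N f
  have h1 := P.isPGroup'.card_modEq_card_fixedPoints N
  have hfix : MulAction.fixedPoints (P : Subgroup G) N = {1} := by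
    ext n
    rw [MulAction.mem_fixedPoints, Set.mem_singleton_iff]
    constructor
    · intro h
      have hmem : (n : G) ∈ N ⊓ Subgroup.centralizer ((P : Subgroup G) : Set G) := by
        refine Subgroup.mem_inf.mpr ⟨n.2, ?_⟩
        rw [Subgroup.mem_centralizer_iff]
        intro s hs
        have h2 := h ⟨s, hs⟩
        have h3 : s * (n : G) * s⁻¹ = n := congrArg Subtype.val h2
        calc s * (n : G) = (s * (n : G) * s⁻¹) * s := by group
          _ = (n : G) * s := by rw [h3]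
      rw [hcent, Subgroup.mem_bot] at hmem
      exact Subtype.ext hmem
    · rintro rfl s
      show f s 1 = 1
      exact map_one _
  rw [hfix] at h1
  intro hdvd
  have h2 : Nat.card N ≡ 0 [MOD p] := (Nat.modEq_zero_iff_dvd).mpr hdvd
  have h3 : Nat.card (({1} : Set N)) = 1 := by simp
  rw [h3] at h1
  have h4 : (1 : ℕ) ≡ 0 [MOD p] := h1.symm.trans h2
  have h5 := (Nat.modEq_zero_iff_dvd).mp h4
  exact hp.out.one_lt.ne' (Nat.dvd_one.mp h5)

/-- the core of `N P'` lies in the kernel of every irreducible character of degree prime to `p` -/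
theorem core_le_irrKer {p : ℕ} [hp : Fact p.Prime] (P : Sylow p G) (N : Subgroup G)
    (hN : N.Normal) (hcent : N ⊓ Subgroup.centralizer ((P : Subgroup G) : Set G) = ⊥)
    (χ : IrrCharacter G) (hχ : ¬ p ∣ charDegree (χ : G → ℂ)) :
    (N ⊔ ⁅(P : Subgroup G), (P : Subgroup G)⁆).normalCore ≤ Cfsg.Agent.Helper79.irrKer χ := by
  classical
  haveI := hN
  have hcop := not_dvd_card_of_cent_bot P N hN hcent
  set M : Subgroup G := (N ⊔ ⁅(P : Subgroup G), (P : Subgroup G)⁆).normalCore with hM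
  set X : Subgroup G := N ⊔ (P : Subgroup G) with hX
  haveI : Fintype X := Fintype.ofFinite _
  haveI : Fintype N := Fintype.ofFinite _
  haveI : Fintype M := Fintype.ofFinite _
  have hNX : N ≤ X := le_sup_left
  have hPX : (P : Subgroup G) ≤ X := le_sup_right
  have hχcf := isClassFunction_of_isCharacter (IsIrrCharacter.isCharacter χ.2)
  -- a constituent of degree prime to `p` of the restriction of `χ` to `X`
  have hres : IsCharacter X (fun x : X => (χ : G → ℂ) x) :=
    isCharacter_restrict X (IsIrrCharacter.isCharacter χ.2)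
  have hres1 : (fun x : X => (χ : G → ℂ) x) 1 = (charDegree (χ : G → ℂ) : ℂ) :=
    (Cfsg.Agent.Helper79.irr_one_eq χ).1
  obtain ⟨ψ, hψne, hψdeg⟩ := exists_constituent_not_dvd (p := p) hres _ hres1 hχ
  -- the normal Hall subgroup `N` of `X`
  set K' : Subgroup X := N.subgroupOf X with hK'
  haveI : Fintype K' := Fintype.ofFinite _
  have hK'n : K'.Normal := hN.subgroupOf X
  let e : K' ≃* N := Subgroup.subgroupOfEquivOfLe hNX
  have hcardK' : Nat.card K' = Nat.card N := Nat.card_congr e.toEquiv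
  have hidxK' : K'.index ∣ Nat.card (P : Subgroup G) := by
    have h1 : K'.index = N.relIndex X := rfl
    rw [h1, hX, Subgroup.relIndex_sup_left]
    exact Subgroup.relIndex_dvd_card N (P : Subgroup G)
  have hcopK : (Nat.card K').Coprime K'.index := by
    rw [hcardK']
    exact Nat.Coprime.coprime_dvd_right hidxK' (coprime_card_sylow P N hcop)
  have hψcop : (charDegree (ψ : X → ℂ)).Coprime K'.index := by
    obtain ⟨n, hn⟩ := IsPGroup.iff_card.mp P.isPGroup'
    rw [hn] at hidxK'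
    obtain ⟨m, _, hm⟩ := (Nat.dvd_prime_pow hp.out).mp hidxK'
    rw [hm]
    exact Nat.Coprime.pow_right m ((Nat.Prime.coprime_iff_not_dvd hp.out).mpr hψdeg).symm
  have hirr := restrict_irr_of_coprime K' hK'n hcopK ψ hψcop
  have hη : IsIrrCharacter N (fun n : N => (ψ : X → ℂ) ⟨(n : G), hNX n.2⟩) :=
    isIrrCharacter_comp_equiv e.symm hirr
  have hψcf := isClassFunction_of_isCharacter (IsIrrCharacter.isCharacter ψ.2)
  have hinv : ∀ s ∈ P, conjFun N hN (fun n : N => (ψ : X → ℂ) ⟨(n : G), hNX n.2⟩) s =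
      (fun n : N => (ψ : X → ℂ) ⟨(n : G), hNX n.2⟩) := by
    intro s hs
    funext n
    rw [conjFun_apply]
    exact hψcf ⟨(n : G), hNX n.2⟩ ⟨s, hPX hs⟩
  have hη1 := invariant_eq_one P N hN hcent hcop hη hinv
  have hψN : ∀ n : N, (ψ : X → ℂ) ⟨(n : G), hNX n.2⟩ = 1 := fun n => congrFun hη1 n
  have hψ1 : (ψ : X → ℂ) 1 = 1 := hψN 1
  let l : X →* ℂˣ := Cfsg.Agent.Helper74.Lin.toHom ψ hψ1
  set Y : Subgroup G := l.ker.map X.subtype with hY
  have hNY : N ≤ Y := by
    intro n hn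
    refine Subgroup.mem_map.mpr ⟨⟨n, hNX hn⟩, ?_, rfl⟩
    rw [MonoidHom.mem_ker]
    apply Units.ext
    rw [Cfsg.Agent.Helper74.Lin.toHom_apply]
    exact hψN ⟨n, hn⟩
  have hPY : ⁅(P : Subgroup G), (P : Subgroup G)⁆ ≤ Y := by
    rw [Subgroup.commutator_le]
    intro a ha b hb
    refine Subgroup.mem_map.mpr ⟨(⟨a, hPX ha⟩ : X) * ⟨b, hPX hb⟩ * (⟨a, hPX ha⟩ : X)⁻¹ *
      (⟨b, hPX hb⟩ : X)⁻¹, ?_, rfl⟩
    rw [MonoidHom.mem_ker]
    simp only [map_mul, map_inv]
    rw [mul_comm (l ⟨a, hPX ha⟩) (l ⟨b, hPX hb⟩)]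
    group
  have hMY : M ≤ Y := (Subgroup.normalCore_le _).trans (sup_le hNY hPY)
  have hYX : Y ≤ X := by
    intro y hy
    obtain ⟨x, _, rfl⟩ := Subgroup.mem_map.mp hy
    exact x.2
  have hMX : M ≤ X := hMY.trans hYX
  have hψM : resTo hMX (ψ : X → ℂ) = 1 := by
    funext m
    show (ψ : X → ℂ) ⟨(m : G), hMX m.2⟩ = 1
    obtain ⟨x, hx, hxm⟩ := Subgroup.mem_map.mp (hMY m.2)
    have hxe : x = ⟨(m : G), hMX m.2⟩ := Subtype.ext hxm
    rw [← hxe]
    have h2 := MonoidHom.mem_ker.mp hx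
    rw [← Cfsg.Agent.Helper74.Lin.toHom_apply ψ hψ1 x]
    show ((l x : ℂˣ) : ℂ) = 1
    rw [h2]
    rfl
  have hc : classInner (indFun X (ψ : X → ℂ)) (χ : G → ℂ) ≠ 0 := by
    rw [frobenius_reciprocity X _ hχcf]
    intro h0
    apply hψne
    rw [classInner_conj_symm, h0, map_zero]
  have h1M : IsIrrCharacter M (1 : M → ℂ) := isIrrCharacter_one
  obtain ⟨k, hk⟩ := classInner_restrict_ge M X hMX h1M ψ.2 χ.2 hc
  rw [hψM, Cfsg.Agent.Helper81.irr_orthonormal h1M h1M, if_pos rfl] at hk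
  apply le_irrKer_of_inner_one M (Subgroup.normalCore_normal _) χ
  rw [hk]
  intro h
  have : (1 + k : ℕ) = 0 := by exact_mod_cast h
  omega

/-- an element of `P` lying in the kernel of every irreducible character of degree prime to `p`
lies in the derived subgroup of `P` -/
theorem mem_commutator_of_forall_mem_irrKer {p : ℕ} [hp : Fact p.Prime] (P : Sylow p G) (x : G)
    (hxP : x ∈ P)
    (hx : ∀ χ : IrrCharacter G, ¬ p ∣ charDegree (χ : G → ℂ) →
      x ∈ Cfsg.Agent.Helper79.irrKer χ) :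
    x ∈ ⁅(P : Subgroup G), (P : Subgroup G)⁆ := by
  classical
  haveI : Fintype (P : Subgroup G) := Fintype.ofFinite _
  by_contra hne
  have hne' : (⟨x, hxP⟩ : (P : Subgroup G)) ∉ commutator (P : Subgroup G) := by
    intro h
    apply hne
    rw [← Subgroup.map_subtype_commutator]
    exact Subgroup.mem_map.mpr ⟨⟨x, hxP⟩, h, rfl⟩
  have ha : (Abelianization.of (⟨x, hxP⟩ : (P : Subgroup G)) :
      Abelianization (P : Subgroup G)) ≠ 1 := by
    intro h1
    apply hne'
    have : (QuotientGroup.mk (⟨x, hxP⟩ : (P : Subgroup G)) :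
        (P : Subgroup G) ⧸ commutator (P : Subgroup G)) = 1 := h1
    exact (QuotientGroup.eq_one_iff _).1 this
  obtain ⟨φ, hφ⟩ := CommGroup.exists_apply_ne_one_of_hasEnoughRootsOfUnity
    (Abelianization (P : Subgroup G)) ℂ ha
  let l : (P : Subgroup G) →* ℂˣ := φ.comp Abelianization.of
  obtain ⟨χ, hχdeg, hχne⟩ := exists_prime_degree_over_linear P l
  have h1 := hom_eq_one_of_mem_irrKer (P : Subgroup G) χ l ⟨x, hxP⟩ (hx χ hχdeg) hχne
  exact hφ h1

/-- a normal subgroup contained in the kernel of every irreducible character of degree prime to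
`p` lies in `N P'`, where `N` is the largest normal subgroup on which `P` has no fixed points -/
theorem le_sup_commutator_of_le_kernels {p : ℕ} [hp : Fact p.Prime] (P : Sylow p G)
    (N : Subgroup G) (hN : N.Normal)
    (hmax : ∀ L : Subgroup G, L.Normal →
      L ⊓ Subgroup.centralizer ((P : Subgroup G) : Set G) = ⊥ → L ≤ N)
    (K : Subgroup G) (hK : K.Normal)
    (hKker : ∀ χ : IrrCharacter G, ¬ p ∣ charDegree (χ : G → ℂ) →
      K ≤ Cfsg.Agent.Helper79.irrKer χ) :
    K ≤ N ⊔ ⁅(P : Subgroup G), (P : Subgroup G)⁆ := by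
  classical
  haveI := hK
  have hKP : K ⊓ (P : Subgroup G) ≤ ⁅(P : Subgroup G), (P : Subgroup G)⁆ := by
    intro x hx
    obtain ⟨hxK, hxP⟩ := Subgroup.mem_inf.mp hx
    exact mem_commutator_of_forall_mem_irrKer P x hxP (fun χ hχ => hKker χ hχ hxK)
  have hfr : K ⊓ (P : Subgroup G) ≤
      (frattini (P : Subgroup G)).map (P : Subgroup G).subtype := by
    refine hKP.trans ?_
    rw [← Subgroup.map_subtype_commutator]
    exact Subgroup.map_mono (Cfsg.Agent.Helper2.commutator_le_frattini P.isPGroup')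
  obtain ⟨Q, L₀, hL₀n, hL₀c⟩ := Cfsg.Agent.Helper2.tate_aux P (Nat.card K) K hK rfl hfr
  haveI := hL₀n
  set L : Subgroup G := L₀.map K.subtype with hL
  have hLK : L ≤ K := by
    intro y hy
    obtain ⟨z, _, rfl⟩ := Subgroup.mem_map.mp hy
    exact z.2
  have hcardL : Nat.card L = Nat.card L₀ :=
    Subgroup.card_map_of_injective K.subtype_injective
  have hcopL : ¬ p ∣ Nat.card L := by
    rw [hcardL, ← hL₀c.index_eq_card]
    exact Q.not_dvd_index
  have hLn : L.Normal := by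
    constructor
    intro y hy g
    obtain ⟨z, hz, rfl⟩ := Subgroup.mem_map.mp hy
    have hmem : g * (z : G) * g⁻¹ ∈ K := hK.conj_mem _ z.2 g
    refine Subgroup.mem_map.mpr ⟨⟨g * z * g⁻¹, hmem⟩, ?_, rfl⟩
    rw [Cfsg.Agent.Helper2.mem_normalPComplement_iff Q L₀ hL₀c] at hz ⊢
    have ho : orderOf (⟨g * z * g⁻¹, hmem⟩ : K) = orderOf z := by
      rw [← Subgroup.orderOf_coe, ← Subgroup.orderOf_coe]
      show orderOf (g * (z : G) * g⁻¹) = orderOf (z : G)
      have := orderOf_injective (MulAut.conj g).toMonoidHom (MulAut.conj g).injective (z : G)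
      rw [← this]
      rfl
    rw [ho]
    exact hz
  haveI : Fintype L := Fintype.ofFinite _
  have hLcent : L ⊓ Subgroup.centralizer ((P : Subgroup G) : Set G) = ⊥ := by
    by_contra hne
    obtain ⟨η, hη, hinv, hη1⟩ := exists_invariant_ne_one P L hLn hne hcopL
    obtain ⟨χ, hχdeg, hχne⟩ := exists_prime_degree_over P L hLn hcopL hη hinv
    apply hχne
    have hker : L ≤ Cfsg.Agent.Helper79.irrKer χ := hLK.trans (hKker χ hχdeg)
    have hfun : (fun l : L => (χ : G → ℂ) l) = ((χ : G → ℂ) 1) • (1 : L → ℂ) := by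
      funext l
      rw [Pi.smul_apply, Pi.one_apply, smul_eq_mul, mul_one]
      exact (Cfsg.Agent.Helper79.mem_irrKer χ l).mp (hker l.2)
    have h1L : IsIrrCharacter L (1 : L → ℂ) := isIrrCharacter_one
    rw [hfun, classInner_smul_left, Cfsg.Agent.Helper81.irr_orthonormal h1L hη,
      if_neg (Ne.symm hη1), mul_zero]
  have hLN : L ≤ N := hmax L hLn hLcent
  -- a Sylow subgroup of `G` containing the image of `Q`
  set Q' : Subgroup G := (Q : Subgroup K).map K.subtype with hQ'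
  have hQ'p : IsPGroup p Q' := Q.isPGroup'.map K.subtype
  obtain ⟨R, hR⟩ := hQ'p.exists_le_sylow
  obtain ⟨g, hg⟩ := MulAction.exists_smul_eq G P R
  have hconj : ∀ q ∈ Q', g⁻¹ * q * g ∈ ⁅(P : Subgroup G), (P : Subgroup G)⁆ := by
    intro q hq
    apply hKP
    refine Subgroup.mem_inf.mpr ⟨?_, ?_⟩
    · have hqK : q ∈ K := by
        obtain ⟨z, _, rfl⟩ := Subgroup.mem_map.mp hq
        exact z.2
      have := hK.conj_mem q hqK g⁻¹
      rwa [inv_inv] at this
    · have hqR : q ∈ (R : Subgroup G) := hR hq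
      rw [← hg] at hqR
      have hq' : q ∈ MulAut.conj g • (P : Subgroup G) := by
        rw [← Sylow.coe_subgroup_smul]; exact hqR
      rw [Subgroup.mem_smul_pointwise_iff_exists] at hq'
      obtain ⟨b, hb, rfl⟩ := hq'
      rw [MulAut.smul_def, MulAut.conj_apply]
      have : g⁻¹ * (g * b * g⁻¹) * g = b := by group
      rw [this]; exact hb
  intro k hk
  have hk' : g * k * g⁻¹ ∈ K := hK.conj_mem k hk g
  obtain ⟨⟨⟨l, hl⟩, ⟨q, hq⟩⟩, hlq, _⟩ :=
    (Subgroup.isComplement'_def.mp hL₀c).existsUnique ⟨g * k * g⁻¹, hk'⟩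
  have hlq' : (l : G) * (q : G) = g * k * g⁻¹ := congrArg Subtype.val hlq
  have hk_eq : k = (g⁻¹ * (l : G) * g) * (g⁻¹ * (q : G) * g) := by
    have : g⁻¹ * (l : G) * g * (g⁻¹ * (q : G) * g) = g⁻¹ * ((l : G) * q) * g := by group
    rw [this, hlq']; group
  rw [hk_eq]
  apply Subgroup.mul_mem
  · apply Subgroup.mem_sup_left
    have hlL : (l : G) ∈ L := Subgroup.mem_map.mpr ⟨l, hl, rfl⟩
    have := hN.conj_mem (l : G) (hLN hlL) g⁻¹
    rwa [inv_inv] at this
  · apply Subgroup.mem_sup_right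
    exact hconj q (Subgroup.mem_map.mpr ⟨q, hq, rfl⟩)

/-- the intersection of the kernels of the irreducible characters of degree prime to `p` is the
core of `N P'` -/
theorem kernel_prime_degree_eq_core {p : ℕ} [hp : Fact p.Prime] (P : Sylow p G)
    (N : Subgroup G) (hN : N.Normal)
    (hcent : N ⊓ Subgroup.centralizer ((P : Subgroup G) : Set G) = ⊥)
    (hmax : ∀ L : Subgroup G, L.Normal →
      L ⊓ Subgroup.centralizer ((P : Subgroup G) : Set G) = ⊥ → L ≤ N) :
    {g : G | ∀ χ : IrrCharacter G, ¬ p ∣ charDegree (χ : G → ℂ) →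
      (χ : G → ℂ) g = (χ : G → ℂ) 1} =
      ((N ⊔ ⁅(P : Subgroup G), (P : Subgroup G)⁆).normalCore : Set G) := by
  classical
  let K : Subgroup G := ⨅ χ : {χ : IrrCharacter G // ¬ p ∣ charDegree (χ : G → ℂ)},
    Cfsg.Agent.Helper79.irrKer χ.1
  have hKn : K.Normal :=
    Subgroup.normal_iInf_normal (fun χ => Cfsg.Agent.Helper79.irrKer_normal χ.1)
  have hmemK : ∀ g, g ∈ K ↔ ∀ χ : IrrCharacter G, ¬ p ∣ charDegree (χ : G → ℂ) →
      (χ : G → ℂ) g = (χ : G → ℂ) 1 := by
    intro g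
    rw [Subgroup.mem_iInf]
    constructor
    · intro h χ hχ
      exact (Cfsg.Agent.Helper79.mem_irrKer χ g).mp (h ⟨χ, hχ⟩)
    · intro h χ
      exact (Cfsg.Agent.Helper79.mem_irrKer χ.1 g).mpr (h χ.1 χ.2)
  ext g
  rw [Set.mem_ofPred_eq, ← hmemK, SetLike.mem_coe]
  constructor
  · intro hg
    have h1 : K ≤ N ⊔ ⁅(P : Subgroup G), (P : Subgroup G)⁆ :=
      le_sup_commutator_of_le_kernels P N hN hmax K hKn
        (fun χ hχ k hk => (Cfsg.Agent.Helper79.mem_irrKer χ k).mpr ((hmemK k).mp hk χ hχ))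
    haveI := hKn
    exact (Subgroup.normal_le_normalCore.mpr h1) hg
  · intro hg
    rw [hmemK]
    intro χ hχ
    exact (Cfsg.Agent.Helper79.mem_irrKer χ g).mp (core_le_irrKer P N hN hcent χ hχ hg)

end KerPrimeD

end Cfsg.Agent.Helper79.Cop
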