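import Cfsg.Agent.Lib.Helper79.Coprime.Conj

set_option autoImplicit false
set_option linter.unusedSectionVars false
set_option linter.style.haveILetI false

namespace Cfsg.Agent.Helper79.Cop

open Cfsg Cfsg.Agent.Helper81 Cfsg.Agent.Helper79.Glaub
open scoped ComplexConjugate

universe u

section Setting

variable {Γ : Type u} [Group Γ] [Fintype Γ]

/-- elements of `p`-power order lie in the normal Sylow `p`-subgroup -/
theorem mem_of_pow_eq_one (p : ℕ) [hp : Fact p.Prime] (K Q : Subgroup Γ) (hQK : Q ≤ K)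
    (hKQ : ∀ k ∈ K, ∀ q ∈ Q, k * q * k⁻¹ ∈ Q) (hidx : ¬ p ∣ Q.relIndex K) (y : Γ) (hy : y ∈ K)
    (n : ℕ) (hyn : y ^ (p ^ n) = 1) : y ∈ Q := by
  classical
  set N : Subgroup K := Q.subgroupOf K with hN
  haveI hNn : N.Normal := normal_subgroupOf_of_conj hKQ
  set z : K ⧸ N := QuotientGroup.mk ⟨y, hy⟩ with hz
  have h1 : z ^ (p ^ n) = 1 := by
    rw [hz, ← QuotientGroup.mk_pow]
    have : (⟨y, hy⟩ : K) ^ (p ^ n) = 1 := Subtype.ext (by simpa using hyn)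
    rw [this]
    rfl
  have h2 : z ^ N.index = 1 := by
    rw [Subgroup.index_eq_card]
    exact pow_card_eq_one'
  have h3 : orderOf z ∣ p ^ n := orderOf_dvd_of_pow_eq_one h1
  have h4 : orderOf z ∣ N.index := orderOf_dvd_of_pow_eq_one h2
  have hcop : Nat.Coprime (p ^ n) N.index :=
    Nat.Coprime.pow_left n ((Nat.Prime.coprime_iff_not_dvd hp.out).mpr hidx)
  have h5 : orderOf z = 1 := Nat.eq_one_of_dvd_coprimes hcop h3 h4
  have h6 : z = 1 := orderOf_eq_one_iff.mp h5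
  rw [hz, QuotientGroup.eq_one_iff, hN, Subgroup.mem_subgroupOf] at h6
  exact h6

/-- the hypotheses of the relative Glauberman correspondence -/
structure Setting (p : ℕ) (P K Q C : Subgroup Γ) : Prop where
  hP : IsPGroup p P
  hPK : ∀ x ∈ P, NormAt K x
  hQK : Q ≤ K
  hKQ : ∀ k ∈ K, NormAt Q k
  hQp : ∃ a : ℕ, Nat.card Q = p ^ a
  hidx : ¬ p ∣ Q.relIndex K
  hC : ∀ k : Γ, k ∈ C ↔ (k ∈ K ∧ ∀ x ∈ P, x * k * x⁻¹ * k⁻¹ ∈ Q)

variable {p : ℕ} [hp : Fact p.Prime] {P K Q C : Subgroup Γ}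

theorem Setting.hCK (S : Setting p P K Q C) : C ≤ K := fun c hc => ((S.hC c).mp hc).1

theorem Setting.hPQ (S : Setting p P K Q C) : ∀ x ∈ P, NormAt Q x := by
  obtain ⟨a, ha⟩ := S.hQp
  have key : ∀ x ∈ P, ∀ q ∈ Q, x * q * x⁻¹ ∈ Q := by
    intro x hx q hq
    apply mem_of_pow_eq_one p K Q S.hQK (fun k hk => (S.hKQ k hk).1) S.hidx _
      ((S.hPK x hx).1 q (S.hQK hq)) a
    rw [conj_pow]
    have h1 : (⟨q, hq⟩ : Q) ^ (p ^ a) = 1 := by
      rw [← ha]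
      exact pow_card_eq_one'
    have h2 : q ^ (p ^ a) = 1 := by
      have := congrArg Subtype.val h1
      simpa using this
    rw [h2]
    group
  intro x hx
  refine ⟨key x hx, ?_⟩
  intro q hq
  have := key x⁻¹ (P.inv_mem hx) q hq
  rwa [inv_inv] at this

theorem Setting.hQC (S : Setting p P K Q C) : Q ≤ C := by
  intro q hq
  rw [S.hC]
  refine ⟨S.hQK hq, ?_⟩
  intro x hx
  exact Q.mul_mem ((S.hPQ x hx).1 q hq) (Q.inv_mem hq)

theorem Setting.hCQ (S : Setting p P K Q C) : ∀ c ∈ C, NormAt Q c :=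
  fun c hc => S.hKQ c (S.hCK hc)

theorem Setting.hPC (S : Setting p P K Q C) : ∀ x ∈ P, NormAt C x := by
  have key : ∀ x ∈ P, ∀ c ∈ C, x * c * x⁻¹ ∈ C := by
    intro x hx c hc
    rw [S.hC]
    refine ⟨(S.hPK x hx).1 c (S.hCK hc), ?_⟩
    intro z hz
    have h1 := ((S.hC c).mp hc).2 (z * x) (P.mul_mem hz hx)
    have h2 := ((S.hC c).mp hc).2 x hx
    have h3 : z * (x * c * x⁻¹) * z⁻¹ * (x * c * x⁻¹)⁻¹ =
        ((z * x) * c * (z * x)⁻¹ * c⁻¹) * (x * c * x⁻¹ * c⁻¹)⁻¹ := by group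
    rw [h3]
    exact Q.mul_mem h1 (Q.inv_mem h2)
  intro x hx
  refine ⟨key x hx, ?_⟩
  intro c hc
  have := key x⁻¹ (P.inv_mem hx) c hc
  rwa [inv_inv] at this

theorem Setting.hidxC (S : Setting p P K Q C) : ¬ p ∣ Q.relIndex C := fun h =>
  S.hidx (h.trans (Dvd.intro _ (Subgroup.relIndex_mul_relIndex Q C K S.hQC S.hCK)))

/-- the inertia group is normalized by the operators fixing the character -/
theorem normAt_inertiaIn (A Q : Subgroup Γ) (hAQ : ∀ a ∈ A, NormAt Q a) (θ : Q → ℂ) (x : Γ)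
    (hxA : NormAt A x) (hxQ : NormAt Q x) (hxθ : InvAt Q θ x) :
    NormAt (inertiaIn A Q hAQ θ) x := by
  have key : ∀ y : Γ, NormAt A y → NormAt Q y → InvAt Q θ y →
      ∀ t ∈ inertiaIn A Q hAQ θ, y * t * y⁻¹ ∈ inertiaIn A Q hAQ θ := by
    intro y hyA hyQ hyθ t ht
    refine ⟨hyA.1 t ht.1, ?_⟩
    exact InvAt.mul hyQ.inv (InvAt.mul (hAQ t ht.1) hyθ ht.2) hyθ.inv
  refine ⟨key x hxA hxQ hxθ, ?_⟩
  intro t ht
  have := key x⁻¹ hxA.inv hxQ.inv hxθ.inv t ht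
  rwa [inv_inv] at this

/-- the local correspondence over an invariant character `θ` of `Q` -/
theorem local_pkg (S : Setting p P K Q C) [Fintype K] [Fintype C] [Fintype Q]
    (θ : IrrCharacter Q) (hθ : ∀ x ∈ P, InvAt Q (θ : Q → ℂ) x) :
    RelPkg p (Subgroup.inclusion S.hCK)
      (fun χ : IrrCharacter K =>
        classInner (fun q : Q => (χ : K → ℂ) (Subgroup.inclusion S.hQK q)) (θ : Q → ℂ) ≠ 0 ∧
          ∀ x ∈ P, InvAt K (χ : K → ℂ) x)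
      (fun ξ : IrrCharacter C =>
        classInner (fun q : Q => (ξ : C → ℂ) (Subgroup.inclusion S.hQC q)) (θ : Q → ℂ) ≠ 0) ∧
    ∀ ξ : IrrCharacter C,
      classInner (fun q : Q => (ξ : C → ℂ) (Subgroup.inclusion S.hQC q)) (θ : Q → ℂ) ≠ 0 →
        ∀ x ∈ P, InvAt C (ξ : C → ℂ) x := by
  classical
  set T := inertiaIn K Q S.hKQ (θ : Q → ℂ) with hT
  set D := inertiaIn C Q S.hCQ (θ : Q → ℂ) with hD
  haveI : Fintype T := Fintype.ofFinite _
  haveI : Fintype D := Fintype.ofFinite _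
  have hQT : Q ≤ T := le_inertiaIn K Q S.hQK S.hKQ θ
  have hQD : Q ≤ D := le_inertiaIn C Q S.hQC S.hCQ θ
  have hTK : T ≤ K := inertiaIn_le _ _ _ _
  have hDC : D ≤ C := inertiaIn_le _ _ _ _
  have hDT : D ≤ T := fun d hd => ⟨S.hCK hd.1, hd.2⟩
  have hTQ : ∀ t ∈ T, NormAt Q t := fun t ht => S.hKQ t (hTK ht)
  have hPT : ∀ x ∈ P, NormAt T x := fun x hx =>
    normAt_inertiaIn K Q S.hKQ (θ : Q → ℂ) x (S.hPK x hx) (S.hPQ x hx) (hθ x hx)
  have hPD : ∀ x ∈ P, NormAt D x := fun x hx =>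
    normAt_inertiaIn C Q S.hCQ (θ : Q → ℂ) x (S.hPC x hx) (S.hPQ x hx) (hθ x hx)
  have hidxT : ¬ p ∣ Q.relIndex T := fun h =>
    S.hidx (h.trans (Dvd.intro _ (Subgroup.relIndex_mul_relIndex Q T K hQT hTK)))
  have hDchar : ∀ t : Γ, t ∈ D ↔ t ∈ T ∧ ∀ x ∈ P, x * t * x⁻¹ * t⁻¹ ∈ Q := by
    intro t
    constructor
    · intro ht
      exact ⟨hDT ht, ((S.hC t).mp ht.1).2⟩
    · rintro ⟨htT, hcomm⟩
      exact ⟨(S.hC t).mpr ⟨htT.1, hcomm⟩, htT.2⟩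
  obtain ⟨η, hηθ, hηinv⟩ := exists_invariant_extension p Q T hQT
    (fun t ht q hq => (hTQ t ht).1 q hq) S.hQp hidxT θ (fun t ht => ht.2)
  have hηP : ∀ x ∈ P, InvAt T (η : T → ℂ) x := fun x hx =>
    hηinv x (hPT x hx) (S.hPQ x hx) (hθ x hx)
  have hηDchar : IsCharacter D (fun d : D => (η : T → ℂ) (Subgroup.inclusion hDT d)) :=
    isCharacter_comp_hom (Subgroup.inclusion hDT) (IsIrrCharacter.isCharacter η.2)
  have hηDres : (fun q : Q => (fun d : D => (η : T → ℂ) (Subgroup.inclusion hDT d))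
      (Subgroup.inclusion hQD q)) = (θ : Q → ℂ) := by
    funext q
    exact hηθ q
  let ηD : IrrCharacter D := ⟨fun d : D => (η : T → ℂ) (Subgroup.inclusion hDT d),
    irr_of_res_irr_amb Q D hQD hηDchar (by rw [hηDres]; exact θ.2)⟩
  have hK : PData K Q T θ η :=
    ⟨hQT, hTK, fun a ha q hq => (S.hKQ a ha).1 q hq,
      fun a ha => ⟨fun h => h.2, fun h => ⟨ha, h⟩⟩, hηθ⟩
  have hC : PData C Q D θ ηD :=
    ⟨hQD, hDC, fun a ha q hq => (S.hCQ a ha).1 q hq,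
      fun a ha => ⟨fun h => h.2, fun h => ⟨ha, h⟩⟩, fun q => hηθ q⟩
  have hηDP : ∀ x ∈ P, InvAt D (ηD : D → ℂ) x := by
    intro x hx d d' hdd'
    exact hηP x hx (Subgroup.inclusion hDT d) (Subgroup.inclusion hDT d') hdd'
  have hquot := quot_pkg p P T D Q S.hP hQT hQD hDT hTQ S.hPQ hPT hidxT hDchar
  have hγinv : ∀ γ : IrrCharacter D, TrivOn hQD (γ : D → ℂ) →
      ∀ x ∈ P, InvAt D (γ : D → ℂ) x := by
    intro γ hγ x hx d d' hdd'
    have hq : (d : Γ)⁻¹ * (x * d * x⁻¹) ∈ Q := by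
      have h1 := ((hDchar d).mp d.2).2 x hx
      have h2 := (S.hCQ d (hDC d.2)).2 _ h1
      have h3 : (d : Γ)⁻¹ * (x * d * x⁻¹ * (d : Γ)⁻¹) * d = (d : Γ)⁻¹ * (x * d * x⁻¹) := by
        group
      rwa [h3] at h2
    have hd' : d' = d * ⟨(d : Γ)⁻¹ * (x * d * x⁻¹), hQD hq⟩ := by
      apply Subtype.ext
      rw [hdd']
      show x * d * x⁻¹ = (d : Γ) * ((d : Γ)⁻¹ * (x * d * x⁻¹))
      group
    rw [hd']
    exact trivOn_mul hQD γ hγ d _ hq
  refine ⟨?_, ?_⟩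
  · apply RelPkg.transfer p (Subgroup.inclusion S.hCK) (Subgroup.inclusion hDT) _ _ _ _
      (RelP hK.hIA (η : T → ℂ)) (RelP hC.hIA (ηD : D → ℂ)) ?_ ?_ ?_ ?_ ?_ ?_ ?_ hquot
    · rintro χ ⟨hover, hinv⟩
      obtain ⟨β, hβ, hrel⟩ := hK.param_surj χ hover
      refine ⟨β, ⟨hβ, ?_⟩, hrel⟩
      intro x hx
      exact (hK.inv_iff x (S.hPK x hx) (hPT x hx) (S.hPQ x hx) (hηP x hx) hβ hrel).mp
        (hinv x hx)
    · rintro β ⟨hβ, hinv⟩
      obtain ⟨χ, h1, h2, _, _, _⟩ := hK.param_exists β hβ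
      have hrel : RelP hK.hIA (η : T → ℂ) χ β := by
        unfold RelP
        rw [h1]
        exact one_ne_zero
      refine ⟨χ, ⟨h2, ?_⟩, hrel⟩
      intro x hx
      exact (hK.inv_iff x (S.hPK x hx) (hPT x hx) (S.hPQ x hx) (hηP x hx) hβ hrel).mpr
        (hinv x hx)
    · rintro χ χ' β _ _ ⟨hβ, _⟩ h1 h2
      exact hK.rel_unique_left hβ h1 h2
    · intro ξ hover
      exact hC.param_surj ξ hover
    · intro γ hγ
      obtain ⟨ξ, h1, h2, _, _, _⟩ := hC.param_exists γ hγ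
      refine ⟨ξ, h2, ?_⟩
      unfold RelP
      rw [h1]
      exact one_ne_zero
    · intro ξ ξ' γ _ _ hγ h1 h2
      exact hC.rel_unique_left hγ h1 h2
    · rintro χ β ξ γ _ ⟨hβ, _⟩ _ hγ h1 h2
      exact formulaB hK hC S.hCK hDT (fun d => rfl) hβ h1 hγ h2
  · intro ξ hover x hx
    obtain ⟨γ, hγ, hrel⟩ := hC.param_surj ξ hover
    exact (hC.inv_iff x (S.hPC x hx) (hPD x hx) (S.hPQ x hx) (hηDP x hx) hγ hrel).mpr
      (hγinv γ hγ x hx)

end Setting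

end Cfsg.Agent.Helper79.Cop
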