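import Cfsg.Agent.Lib.Helper79.Coprime.KerPrimeC

set_option autoImplicit false
set_option linter.unusedSectionVars false
set_option linter.style.haveILetI false

namespace Cfsg.Agent.Helper79.Cop

open Cfsg Cfsg.Agent.Helper81 Cfsg.Agent.Helper79.Glaub
open scoped ComplexConjugate

universe u v

section Pull

variable {A : Type u} {B : Type v} [Group A] [Group B]

/-- pulling back an irreducible character along a surjective homomorphism -/
def irrPull (f : A →* B) (hf : Function.Surjective f) (β : IrrCharacter B) : IrrCharacter A :=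
  ⟨fun a => (β : B → ℂ) (f a), by
    obtain ⟨k, ρ, hρ, hχ⟩ := β.2
    have := isIrreducible_comp_of_surjective ρ f hf
    exact ⟨k, ρ.comp f, this, by rw [← hχ]; rfl⟩⟩

theorem irrPull_apply (f : A →* B) (hf : Function.Surjective f) (β : IrrCharacter B) (a : A) :
    (irrPull f hf β : A → ℂ) a = (β : B → ℂ) (f a) := rfl

theorem irrPull_injective (f : A →* B) (hf : Function.Surjective f) {β β' : IrrCharacter B}
    (h : irrPull f hf β = irrPull f hf β') : β = β' := by
  apply Subtype.ext
  funext b
  obtain ⟨a, rfl⟩ := hf b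
  exact congrFun (congrArg Subtype.val h) a

/-- deflation along a surjective homomorphism -/
theorem exists_irrPull_eq [Finite A] (f : A →* B) (hf : Function.Surjective f)
    (χ : IrrCharacter A) (h : ∀ a : A, f a = 1 → (χ : A → ℂ) a = (χ : A → ℂ) 1) :
    ∃ β : IrrCharacter B, irrPull f hf β = χ := by
  have hle : f.ker ≤ Cfsg.Agent.Helper79.irrKer χ := by
    intro x hx
    rw [Cfsg.Agent.Helper79.mem_irrKer]
    exact h x (MonoidHom.mem_ker.mp hx)
  obtain ⟨ψ, hψ⟩ := Cfsg.Agent.Helper79.exists_deflate f.ker χ hle
  let e : A ⧸ f.ker ≃* B := QuotientGroup.quotientKerEquivOfSurjective f hf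
  refine ⟨irrComp e.symm ψ, ?_⟩
  apply Subtype.ext
  funext a
  rw [irrPull_apply, irrComp_apply, ← hψ, Cfsg.Agent.Helper79.inflate_apply]
  have h1 : e.symm (f a) = (QuotientGroup.mk a : A ⧸ f.ker) := by
    rw [MulEquiv.symm_apply_eq]
    rfl
  rw [h1]

/-- the inner product is unchanged by pulling back along a surjective homomorphism -/
theorem classInner_comp_surjective [Fintype A] [Fintype B] (f : A →* B)
    (hf : Function.Surjective f) (φ ψ : B → ℂ) :
    classInner (fun a : A => φ (f a)) (fun a : A => ψ (f a)) = classInner φ ψ := by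
  classical
  unfold classInner
  set F : B → ℂ := fun b => φ b * conj (ψ b) with hF
  have h1 : ∑ a : A, φ (f a) * conj (ψ (f a)) = ∑ a : A, F (f a) := rfl
  rw [h1]
  set c := (Finset.univ.filter (fun a : A => f a = 1)).card with hc
  have hfib : ∀ b : B, (Finset.univ.filter (fun a : A => f a = b)).card = c := by
    intro b
    exact MonoidHom.card_fiber_eq_of_mem_range f (hf b) (hf 1)
  have h2 : ∑ a : A, F (f a) = (c : ℂ) * ∑ b : B, F b := by
    rw [← Finset.sum_fiberwise Finset.univ f (fun a => F (f a)), Finset.mul_sum]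
    apply Finset.sum_congr rfl
    intro b _
    have : ∀ a ∈ Finset.univ.filter (fun a : A => f a = b), F (f a) = F b := by
      intro a ha
      rw [(Finset.mem_filter.mp ha).2]
    rw [Finset.sum_congr rfl this, Finset.sum_const, nsmul_eq_mul, hfib]
  have h3 : Fintype.card A = c * Fintype.card B := by
    have : Fintype.card A = ∑ b : B, (Finset.univ.filter (fun a : A => f a = b)).card := by
      rw [← Finset.card_univ]
      exact Finset.card_eq_sum_card_fiberwise (fun a _ => Finset.mem_univ (f a))
    rw [this, Finset.sum_congr rfl (fun b _ => hfib b), Finset.sum_const, Finset.card_univ,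
      smul_eq_mul, mul_comm]
  have hc0 : (c : ℂ) ≠ 0 := by
    have : c ≠ 0 := by
      intro h0
      rw [h0, zero_mul] at h3
      exact Fintype.card_ne_zero h3
    exact_mod_cast this
  have hB0 : (Fintype.card B : ℂ) ≠ 0 := by exact_mod_cast Fintype.card_ne_zero
  rw [h2, Nat.card_eq_fintype_card, Nat.card_eq_fintype_card, h3, Nat.cast_mul]
  field_simp

end Pull

end Cfsg.Agent.Helper79.Cop
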