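import Cfsg.Agent.Lib.Helper79.Coprime.Param
import Cfsg.Agent.Lib.Helper79.Coprime.Pull
import Cfsg.Agent.Lib.Helper79.DegreeRatio
import Cfsg.Agent.Lib.Helper79.LinearDeg
import Cfsg.Agent.Lib.Helper80.Gagola2

set_option autoImplicit false
set_option linter.unusedSectionVars false
set_option linter.style.haveILetI false

namespace Cfsg.Agent.Helper79.Cop

open Cfsg Cfsg.Agent.Helper81 Cfsg.Agent.Helper79.Glaub
open scoped ComplexConjugate

universe u

section NormCompl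

variable {Γ : Type u} [Group Γ] [Fintype Γ]

/-- constituents of a character of `D` that is constant on the normal subgroup `Q` are trivial
on `Q` -/
theorem trivOn_constituent' (Q D : Subgroup Γ) [Fintype Q] [Fintype D]
    (hQD : Q ≤ D) (hDQ : ∀ d ∈ D, ∀ q ∈ Q, d * q * d⁻¹ ∈ Q)
    {α : D → ℂ} (hα : IsCharacter D α) (hαQ : TrivOn hQD α) (γ' : IrrCharacter D)
    (hne : classInner α (γ' : D → ℂ) ≠ 0) :
    TrivOn hQD (γ' : D → ℂ) := by
  classical
  haveI : Fintype (Q.subgroupOf D) := Fintype.ofFinite _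
  rw [trivOn_iff]
  apply le_irrKer_of_inner_one (Q.subgroupOf D) (normal_subgroupOf_of_conj hDQ) γ'
  have hγQ : IsCharacter Q (fun q : Q => (γ' : D → ℂ) (Subgroup.inclusion hQD q)) :=
    isCharacter_comp_hom (Subgroup.inclusion hQD) (IsIrrCharacter.isCharacter γ'.2)
  have hγ0 : (fun q : Q => (γ' : D → ℂ) (Subgroup.inclusion hQD q)) ≠ 0 := by
    intro h0
    have h1 := congrFun h0 1
    simp only [map_one, Pi.zero_apply] at h1
    have h2 := Cfsg.Agent.Helper79.irr_one_eq γ'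
    rw [h2.1] at h1
    have := h2.2
    have h3 : charDegree (γ' : D → ℂ) = 0 := by exact_mod_cast h1
    omega
  obtain ⟨φ, hφ, hφne⟩ := exists_irr_constituent hγQ hγ0
  have h1 := over_trans Q D hQD hα γ'.2 hne ⟨φ, hφ⟩ hφne
  have h2 : (fun q : Q => α (Subgroup.inclusion hQD q)) = (α 1) • (1 : Q → ℂ) := by
    funext q
    have := hαQ q
    simp only [Pi.smul_apply, Pi.one_apply, smul_eq_mul, mul_one]
    exact this
  rw [h2, classInner_smul_left] at h1
  have h1Q : IsIrrCharacter Q (1 : Q → ℂ) := isIrrCharacter_one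
  have h3 : classInner (1 : Q → ℂ) φ ≠ 0 := by
    intro h0
    apply h1
    show α 1 * classInner (1 : Q → ℂ) φ = 0
    rw [h0, mul_zero]
  have h4 : (1 : Q → ℂ) = φ := eq_of_classInner_ne_zero h1Q hφ h3
  rw [← h4] at hφne
  rw [← classInner_comp_equiv (Subgroup.subgroupOfEquivOfLe hQD)] at hφne
  exact hφne

/-- an irreducible character whose kernel contains the derived subgroup of a normal subgroup `Q`
of index prime to `p` has degree prime to `p` -/
theorem not_dvd_degree_of_commutator_le {p : ℕ} [Fact p.Prime]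
    (Q : Subgroup Γ) [hQ : Q.Normal] (hidx : ¬ p ∣ Q.index) (θ : IrrCharacter Γ)
    (h : ⁅Q, Q⁆ ≤ Cfsg.Agent.Helper79.irrKer θ) : ¬ p ∣ charDegree (θ : Γ → ℂ) := by
  classical
  haveI : Fintype Q := Fintype.ofFinite _
  haveI : Fintype (⁅Q, Q⁆ : Subgroup Γ) := Fintype.ofFinite _
  have hCQ : ⁅Q, Q⁆ ≤ Q := Subgroup.commutator_le_right Q Q
  have hθQ : IsCharacter Q (fun q : Q => (θ : Γ → ℂ) q) :=
    isCharacter_restrict Q (IsIrrCharacter.isCharacter θ.2)
  have hθ0 : (fun q : Q => (θ : Γ → ℂ) q) ≠ 0 := by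
    intro h0
    have h1 := congrFun h0 1
    simp only [Pi.zero_apply] at h1
    exact Cfsg.Agent.Helper79.irr_one_ne_zero θ h1
  obtain ⟨ϑ, hϑ, hne⟩ := exists_irr_constituent hθQ hθ0
  obtain ⟨e, he1, he2⟩ := Cfsg.Agent.Helper79.degree_ratio_dvd_index Q θ.2 hϑ hne
  have htriv : TrivOn hCQ (fun q : Q => (θ : Γ → ℂ) q) := by
    intro c
    have := h c.2
    rw [Cfsg.Agent.Helper79.mem_irrKer] at this
    exact this
  have hconj : ∀ d ∈ Q, ∀ q ∈ (⁅Q, Q⁆ : Subgroup Γ), d * q * d⁻¹ ∈ (⁅Q, Q⁆ : Subgroup Γ) := by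
    intro d _ q hq
    haveI : (⁅Q, Q⁆ : Subgroup Γ).Normal := Subgroup.commutator_normal Q Q
    exact Subgroup.Normal.conj_mem inferInstance q hq d
  have h1 := trivOn_constituent' (⁅Q, Q⁆ : Subgroup Γ) Q hCQ hconj hθQ htriv ⟨ϑ, hϑ⟩ hne
  rw [trivOn_iff] at h1
  have hlin : charDegree ϑ = 1 := by
    apply Cfsg.Agent.Helper79.degree_one_of_commutator_le_irrKer ⟨ϑ, hϑ⟩
    intro x hx
    apply h1
    rw [Subgroup.mem_subgroupOf, ← Subgroup.map_subtype_commutator]
    exact Subgroup.mem_map.mpr ⟨x, hx, rfl⟩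
  have h2 := (Cfsg.Agent.Helper79.irr_one_eq (⟨ϑ, hϑ⟩ : IrrCharacter Q)).1
  have h3 := (Cfsg.Agent.Helper79.irr_one_eq θ).1
  have h4 : ϑ 1 = 1 := by
    have : ϑ 1 = ((charDegree ϑ : ℕ) : ℂ) := h2
    rw [this, hlin]; simp
  rw [h4, mul_one, h3] at he1
  have h5 : charDegree (θ : Γ → ℂ) = e := by exact_mod_cast he1
  rw [h5]
  intro hpe
  exact hidx (hpe.trans he2)

omit [Fintype Γ] in
/-- an element lying in the kernel of every irreducible character whose kernel contains the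
normal subgroup `H` lies in `H` -/
theorem mem_of_forall_mem_irrKer [Finite Γ] (H : Subgroup Γ) [hH : H.Normal] (x : Γ)
    (hx : ∀ θ : IrrCharacter Γ, H ≤ Cfsg.Agent.Helper79.irrKer θ →
      x ∈ Cfsg.Agent.Helper79.irrKer θ) : x ∈ H := by
  classical
  by_contra hxH
  have hx1 : (QuotientGroup.mk x : Γ ⧸ H) ≠ 1 := by
    intro h
    exact hxH ((QuotientGroup.eq_one_iff x).1 h)
  obtain ⟨ψ, hψ⟩ := Cfsg.Agent.Helper80.exists_irr_ne_of_ne_one (QuotientGroup.mk x : Γ ⧸ H) hx1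
  have h1 := hx (Cfsg.Agent.Helper79.inflate H ψ) (Cfsg.Agent.Helper79.le_irrKer_inflate H ψ)
  rw [Cfsg.Agent.Helper79.mem_irrKer, Cfsg.Agent.Helper79.inflate_apply,
    Cfsg.Agent.Helper79.inflate_apply] at h1
  exact hψ h1

end NormCompl

end Cfsg.Agent.Helper79.Cop
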