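import Cfsg.Agent.Lib.Helper2.Tate
import Cfsg.Agent.Lib.Helper2.PGroup
import Cfsg.Agent.Lib.Helper2.Frobenius

set_option autoImplicit false
set_option linter.unusedSectionVars false
set_option linter.style.haveILetI false

namespace Cfsg.Agent.Helper79.Cop

open Cfsg
open scoped Pointwise commutatorElement

universe u

section NormComplGrp

variable {G : Type u} [Group G] [Finite G]

/-- a normal `p`-complement of a normal subgroup `X` of `G` is normal in `G`, and every element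
of `X` is a product of an element of it and an element of `X ∩ P`, for any Sylow `p`-subgroup
`P` of `G` -/
theorem normal_pcomplement_global {p : ℕ} [Fact p.Prime]
    (P : Sylow p G) (X : Subgroup G) (hX : X.Normal) (h : Cfsg.HasNormalPComplement p X) :
    ∃ K : Subgroup G, K.Normal ∧ K ≤ X ∧ ¬ p ∣ Nat.card K ∧
      ∀ x ∈ X, ∃ k ∈ K, ∃ q ∈ X ⊓ (P : Subgroup G), x = k * q := by
  classical
  obtain ⟨Q, L₀, hL₀n, hL₀c⟩ := h
  haveI := hL₀n
  set L : Subgroup G := L₀.map X.subtype with hL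
  have hLK : L ≤ X := by
    intro y hy
    obtain ⟨z, _, rfl⟩ := Subgroup.mem_map.mp hy
    exact z.2
  have hcardL : Nat.card L = Nat.card L₀ :=
    Subgroup.card_map_of_injective X.subtype_injective
  have hcopL : ¬ p ∣ Nat.card L := by
    rw [hcardL, ← hL₀c.index_eq_card]
    exact Q.not_dvd_index
  have hLn : L.Normal := by
    constructor
    intro y hy g
    obtain ⟨z, hz, rfl⟩ := Subgroup.mem_map.mp hy
    have hmem : g * (z : G) * g⁻¹ ∈ X := hX.conj_mem _ z.2 g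
    refine Subgroup.mem_map.mpr ⟨⟨g * z * g⁻¹, hmem⟩, ?_, rfl⟩
    rw [Cfsg.Agent.Helper2.mem_normalPComplement_iff Q L₀ hL₀c] at hz ⊢
    have ho : orderOf (⟨g * z * g⁻¹, hmem⟩ : X) = orderOf z := by
      rw [← Subgroup.orderOf_coe, ← Subgroup.orderOf_coe]
      show orderOf (g * (z : G) * g⁻¹) = orderOf (z : G)
      have := orderOf_injective (MulAut.conj g).toMonoidHom (MulAut.conj g).injective (z : G)
      rw [← this]
      rfl
    rw [ho]
    exact hz
  refine ⟨L, hLn, hLK, hcopL, ?_⟩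
  set Q' : Subgroup G := (Q : Subgroup X).map X.subtype with hQ'
  have hQ'p : IsPGroup p Q' := Q.isPGroup'.map X.subtype
  obtain ⟨R, hR⟩ := hQ'p.exists_le_sylow
  obtain ⟨g, hg⟩ := MulAction.exists_smul_eq G P R
  have hconj : ∀ q ∈ Q', g⁻¹ * q * g ∈ X ⊓ (P : Subgroup G) := by
    intro q hq
    refine Subgroup.mem_inf.mpr ⟨?_, ?_⟩
    · have hqK : q ∈ X := by
        obtain ⟨z, _, rfl⟩ := Subgroup.mem_map.mp hq
        exact z.2
      have := hX.conj_mem q hqK g⁻¹
      rwa [inv_inv] at this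
    · have hqR : q ∈ (R : Subgroup G) := hR hq
      rw [← hg] at hqR
      have hq' : q ∈ MulAut.conj g • (P : Subgroup G) := by
        rw [← Sylow.coe_subgroup_smul]; exact hqR
      rw [Subgroup.mem_smul_pointwise_iff_exists] at hq'
      obtain ⟨b, hb, rfl⟩ := hq'
      rw [MulAut.smul_def, MulAut.conj_apply]
      have : g⁻¹ * (g * b * g⁻¹) * g = b := by group
      rw [this]; exact hb
  intro k hk
  have hk' : g * k * g⁻¹ ∈ X := hX.conj_mem k hk g
  obtain ⟨⟨⟨l, hl⟩, ⟨q, hq⟩⟩, hlq, _⟩ :=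
    (Subgroup.isComplement'_def.mp hL₀c).existsUnique ⟨g * k * g⁻¹, hk'⟩
  have hlq' : (l : G) * (q : G) = g * k * g⁻¹ := congrArg Subtype.val hlq
  have hk_eq : k = (g⁻¹ * (l : G) * g) * (g⁻¹ * (q : G) * g) := by
    have : g⁻¹ * (l : G) * g * (g⁻¹ * (q : G) * g) = g⁻¹ * ((l : G) * q) * g := by group
    rw [this, hlq']; group
  refine ⟨g⁻¹ * (l : G) * g, ?_, g⁻¹ * (q : G) * g, ?_, hk_eq⟩
  · have hlL : (l : G) ∈ L := Subgroup.mem_map.mpr ⟨l, hl, rfl⟩
    have := hLn.conj_mem (l : G) hlL g⁻¹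
    rwa [inv_inv] at this
  · exact hconj q (Subgroup.mem_map.mpr ⟨q, hq, rfl⟩)

/-- Burnside's transfer theorem relative to a normal subgroup `L`: an abelian Sylow
`p`-subgroup `P ≤ L` that is self-normalizing in `L` has a complement in `L` that is normal in
`G` -/
theorem burnside_rel {p : ℕ} [Fact p.Prime] (P : Sylow p G)
    (L : Subgroup G) (hL : L.Normal) (hPL : (P : Subgroup G) ≤ L)
    (hab : ∀ a ∈ (P : Subgroup G), ∀ b ∈ (P : Subgroup G), a * b = b * a)
    (hself : ∀ y ∈ L, y ∈ Subgroup.normalizer ((P : Subgroup G) : Set G) →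
      y ∈ (P : Subgroup G)) :
    ∃ K : Subgroup G, K.Normal ∧ K ≤ L ∧ K ⊓ (P : Subgroup G) = ⊥ ∧
      ∀ l ∈ L, ∃ k ∈ K, ∃ u ∈ (P : Subgroup G), l = k * u := by
  classical
  let PL : Sylow p L := P.subtype hPL
  have hPLmem : ∀ z : L, z ∈ (PL : Subgroup L) ↔ (z : G) ∈ (P : Subgroup G) := by
    intro z
    rw [Sylow.coe_subtype, Subgroup.mem_subgroupOf]
  have hNC : Subgroup.normalizer ((PL : Subgroup L) : Set L) ≤
      Subgroup.centralizer ((PL : Subgroup L) : Set L) := by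
    intro y hy
    have hyN : (y : G) ∈ Subgroup.normalizer ((P : Subgroup G) : Set G) := by
      rw [Subgroup.mem_normalizer_iff] at hy ⊢
      intro a
      constructor
      · intro ha
        have := (hy ⟨a, hPL ha⟩).mp ((hPLmem _).mpr ha)
        exact (hPLmem _).mp this
      · intro ha
        have haL : a ∈ L := by
          have h1 : (y : G)⁻¹ * ((y : G) * a * (y : G)⁻¹) * (y : G) ∈ L :=
            L.mul_mem (L.mul_mem (L.inv_mem y.2) (hPL ha)) y.2
          have h2 : (y : G)⁻¹ * ((y : G) * a * (y : G)⁻¹) * (y : G) = a := by group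
          rwa [h2] at h1
        have := (hy ⟨a, haL⟩).mpr ((hPLmem _).mpr ha)
        exact (hPLmem _).mp this
    have hyP := hself y y.2 hyN
    rw [Subgroup.mem_centralizer_iff]
    intro z hz
    apply Subtype.ext
    exact hab z ((hPLmem z).mp hz) y hyP
  have hcompl := MonoidHom.ker_transferSylow_isComplement' PL hNC
  have hnpc : Cfsg.HasNormalPComplement p L :=
    ⟨PL, (MonoidHom.transferSylow PL hNC).ker, MonoidHom.normal_ker _, hcompl⟩
  obtain ⟨K, hKn, hKL, hKcop, hKdec⟩ := normal_pcomplement_global P L hL hnpc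
  refine ⟨K, hKn, hKL, ?_, ?_⟩
  · rw [eq_bot_iff]
    intro x hx
    obtain ⟨hxK, hxP⟩ := Subgroup.mem_inf.mp hx
    rw [Subgroup.mem_bot]
    obtain ⟨k, hk⟩ := (IsPGroup.iff_orderOf.mp P.isPGroup') ⟨x, hxP⟩
    rw [Subgroup.orderOf_mk] at hk
    have h1 : orderOf x ∣ Nat.card K := by
      have : orderOf (⟨x, hxK⟩ : K) ∣ Nat.card K := orderOf_dvd_natCard _
      rwa [Subgroup.orderOf_mk] at this
    have hp : p.Prime := Fact.out
    have h2 : Nat.Coprime (Nat.card K) p := ((Nat.Prime.coprime_iff_not_dvd hp).mpr hKcop).symm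
    have h3 : Nat.Coprime (orderOf x) (p ^ k) :=
      Nat.Coprime.pow_right k (Nat.Coprime.coprime_dvd_left h1 h2)
    rw [← hk] at h3
    have h4 : orderOf x = 1 := by simpa using h3
    exact orderOf_eq_one_iff.mp h4
  · intro l hl
    obtain ⟨k, hk, q, hq, hlkq⟩ := hKdec l hl
    exact ⟨k, hk, q, (Subgroup.mem_inf.mp hq).2, hlkq⟩

/-- the group-theoretic core: normal subgroups `M ≤ L` with `M ∩ P ≤ P' ≤ M` and
`L ∩ N_G(P) ≤ P ≤ L` force a normal complement of `N_G(P)` -/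
theorem exists_normal_complement_aux {p : ℕ} [Fact p.Prime] (P : Sylow p G)
    (M L : Subgroup G) (hM : M.Normal) (hL : L.Normal) (hML : M ≤ L)
    (hPL : (P : Subgroup G) ≤ L)
    (hMP : M ⊓ (P : Subgroup G) ≤ ⁅(P : Subgroup G), (P : Subgroup G)⁆)
    (hPM : ⁅(P : Subgroup G), (P : Subgroup G)⁆ ≤ M)
    (hLN : L ⊓ Subgroup.normalizer ((P : Subgroup G) : Set G) ≤ (P : Subgroup G)) :
    ∃ K : Subgroup G, K.Normal ∧ K ⊔ Subgroup.normalizer ((P : Subgroup G) : Set G) = ⊤ ∧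
      K ⊓ Subgroup.normalizer ((P : Subgroup G) : Set G) = ⊥ := by
  classical
  haveI := hM
  haveI := hL
  have hp : p.Prime := Fact.out
  let π : G →* G ⧸ M := QuotientGroup.mk' M
  have hπ : Function.Surjective π := QuotientGroup.mk'_surjective M
  let Pbar : Sylow p (G ⧸ M) := P.mapSurjective hπ
  have hPbar : (Pbar : Subgroup (G ⧸ M)) = (P : Subgroup G).map π := Sylow.coe_mapSurjective hπ P
  have hπeq : ∀ a b : G, π a = π b ↔ a⁻¹ * b ∈ M := fun a b => QuotientGroup.eq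
  have hLbarN : (L.map π).Normal := hL.map π hπ
  have hPLbar : (Pbar : Subgroup (G ⧸ M)) ≤ L.map π := by
    rw [hPbar]; exact Subgroup.map_mono hPL
  have hab : ∀ a ∈ (Pbar : Subgroup (G ⧸ M)), ∀ b ∈ (Pbar : Subgroup (G ⧸ M)),
      a * b = b * a := by
    intro a ha b hb
    rw [hPbar] at ha hb
    obtain ⟨a', ha', rfl⟩ := Subgroup.mem_map.mp ha
    obtain ⟨b', hb', rfl⟩ := Subgroup.mem_map.mp hb
    rw [← map_mul, ← map_mul, hπeq]
    apply hPM
    have h1 : (a' * b')⁻¹ * (b' * a') = ⁅b'⁻¹, a'⁻¹⁆ := by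
      rw [commutatorElement_def]; group
    rw [h1]
    exact Subgroup.commutator_mem_commutator (inv_mem hb') (inv_mem ha')
  have hself : ∀ y ∈ L.map π,
      y ∈ Subgroup.normalizer ((Pbar : Subgroup (G ⧸ M)) : Set (G ⧸ M)) →
      y ∈ (Pbar : Subgroup (G ⧸ M)) := by
    intro y hyL hyN
    obtain ⟨y, hy, rfl⟩ := Subgroup.mem_map.mp hyL
    set H : Subgroup G := (P : Subgroup G) ⊔ M with hH
    have hPH : (P : Subgroup G) ≤ H := le_sup_left
    have hHL : H ≤ L := sup_le hPL hML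
    have hyP : ∀ a ∈ (P : Subgroup G), y * a * y⁻¹ ∈ H := by
      intro a ha
      have h2 : π (y * a * y⁻¹) ∈ (Pbar : Subgroup (G ⧸ M)) := by
        rw [map_mul, map_mul, map_inv]
        refine (Subgroup.mem_normalizer_iff.mp hyN (π a)).mp ?_
        rw [hPbar]; exact Subgroup.mem_map_of_mem π ha
      rw [hPbar] at h2
      obtain ⟨b, hb, hbe⟩ := Subgroup.mem_map.mp h2
      have h3 : b⁻¹ * (y * a * y⁻¹) ∈ M := (hπeq _ _).mp hbe
      have h4 : y * a * y⁻¹ = b * (b⁻¹ * (y * a * y⁻¹)) := by group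
      rw [h4]
      exact H.mul_mem (hPH hb) (Subgroup.mem_sup_right h3)
    have hyPH : ((y • P : Sylow p G) : Subgroup G) ≤ H := by
      intro z hz
      rw [Sylow.coe_subgroup_smul, Subgroup.mem_smul_pointwise_iff_exists] at hz
      obtain ⟨b, hb, rfl⟩ := hz
      rw [MulAut.smul_def, MulAut.conj_apply]
      exact hyP b hb
    obtain ⟨w, hw⟩ := MulAction.exists_smul_eq H (P.subtype hPH) ((y • P).subtype hyPH)
    rw [Sylow.smul_subtype hPH w] at hw
    have hwy : (w : G) • P = y • P := Sylow.subtype_injective hw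
    have hfix : (y⁻¹ * (w : G)) • P = P := by
      rw [mul_smul, hwy, inv_smul_smul]
    have hnorm : y⁻¹ * (w : G) ∈ Subgroup.normalizer ((P : Subgroup G) : Set G) :=
      Sylow.smul_eq_iff_mem_normalizer.mp hfix
    have hinL : y⁻¹ * (w : G) ∈ L := L.mul_mem (L.inv_mem hy) (hHL w.2)
    have hinP : y⁻¹ * (w : G) ∈ (P : Subgroup G) := hLN (Subgroup.mem_inf.mpr ⟨hinL, hnorm⟩)
    have hyH : y ∈ H := by
      have h5 : y = (w : G) * (y⁻¹ * (w : G))⁻¹ := by group
      rw [h5]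
      exact H.mul_mem w.2 (H.inv_mem (hPH hinP))
    have h6 : π y ∈ H.map π := Subgroup.mem_map_of_mem π hyH
    rw [hH, Subgroup.map_sup, QuotientGroup.map_mk'_self, sup_bot_eq] at h6
    rw [hPbar]; exact h6
  obtain ⟨Kbar, hKbarN, hKbarL, hKbarP, hKbardec⟩ :=
    burnside_rel Pbar (L.map π) hLbarN hPLbar hab hself
  -- the preimage of the complement
  set K₁ : Subgroup G := Kbar.comap π with hK₁
  have hK₁n : K₁.Normal := hKbarN.comap π
  have hK₁L : K₁ ≤ L := by
    intro x hx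
    have h1 : π x ∈ L.map π := hKbarL hx
    obtain ⟨l, hl, hle⟩ := Subgroup.mem_map.mp h1
    have h2 : l⁻¹ * x ∈ M := (hπeq _ _).mp hle
    have h3 : x = l * (l⁻¹ * x) := by group
    rw [h3]
    exact L.mul_mem hl (hML h2)
  have hK₁P : K₁ ⊓ (P : Subgroup G) ≤ ⁅(P : Subgroup G), (P : Subgroup G)⁆ := by
    intro x hx
    obtain ⟨hxK, hxP⟩ := Subgroup.mem_inf.mp hx
    have h1 : π x ∈ Kbar ⊓ (Pbar : Subgroup (G ⧸ M)) := by
      refine Subgroup.mem_inf.mpr ⟨hxK, ?_⟩
      rw [hPbar]; exact Subgroup.mem_map_of_mem π hxP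
    rw [hKbarP, Subgroup.mem_bot] at h1
    have h2 : x ∈ M := (QuotientGroup.eq_one_iff x).mp h1
    exact hMP (Subgroup.mem_inf.mpr ⟨h2, hxP⟩)
  have hLdec : ∀ l ∈ L, ∃ k ∈ K₁, ∃ u ∈ (P : Subgroup G), l = k * u := by
    intro l hl
    obtain ⟨kb, hkb, ub, hub, hlku⟩ := hKbardec (π l) (Subgroup.mem_map_of_mem π hl)
    rw [hPbar] at hub
    obtain ⟨u, hu, rfl⟩ := Subgroup.mem_map.mp hub
    refine ⟨l * u⁻¹, ?_, u, hu, by group⟩
    show π (l * u⁻¹) ∈ Kbar
    rw [map_mul, map_inv, hlku, mul_inv_cancel_right]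
    exact hkb
  -- Tate
  have hfr : K₁ ⊓ (P : Subgroup G) ≤
      (frattini (P : Subgroup G)).map (P : Subgroup G).subtype := by
    refine hK₁P.trans ?_
    rw [← Subgroup.map_subtype_commutator]
    exact Subgroup.map_mono (Cfsg.Agent.Helper2.commutator_le_frattini P.isPGroup')
  have hnpc := Cfsg.Agent.Helper2.tate_aux P (Nat.card K₁) K₁ hK₁n rfl hfr
  obtain ⟨K, hKn, hKK₁, hKcop, hKdec⟩ := normal_pcomplement_global P K₁ hK₁n hnpc
  have hPN : (P : Subgroup G) ≤ Subgroup.normalizer ((P : Subgroup G) : Set G) :=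
    Subgroup.le_normalizer
  refine ⟨K, hKn, ?_, ?_⟩
  · rw [eq_top_iff, ← Sylow.normalizer_sup_eq_top' P hPL]
    refine sup_le le_sup_right ?_
    intro l hl
    obtain ⟨k, hk, u, hu, rfl⟩ := hLdec l hl
    obtain ⟨k', hk', q, hq, rfl⟩ := hKdec k hk
    rw [mul_assoc]
    exact Subgroup.mul_mem _ (Subgroup.mem_sup_left hk')
      (Subgroup.mem_sup_right (hPN ((P : Subgroup G).mul_mem (Subgroup.mem_inf.mp hq).2 hu)))
  · rw [eq_bot_iff]
    intro x hx
    obtain ⟨hxK, hxN⟩ := Subgroup.mem_inf.mp hx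
    rw [Subgroup.mem_bot]
    have hxP : x ∈ (P : Subgroup G) :=
      hLN (Subgroup.mem_inf.mpr ⟨hK₁L (hKK₁ hxK), hxN⟩)
    obtain ⟨k, hk⟩ := (IsPGroup.iff_orderOf.mp P.isPGroup') ⟨x, hxP⟩
    rw [Subgroup.orderOf_mk] at hk
    have h1 : orderOf x ∣ Nat.card K := by
      have : orderOf (⟨x, hxK⟩ : K) ∣ Nat.card K := orderOf_dvd_natCard _
      rwa [Subgroup.orderOf_mk] at this
    have h2 : Nat.Coprime (Nat.card K) p := ((Nat.Prime.coprime_iff_not_dvd hp).mpr hKcop).symm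
    have h3 : Nat.Coprime (orderOf x) (p ^ k) :=
      Nat.Coprime.pow_right k (Nat.Coprime.coprime_dvd_left h1 h2)
    rw [← hk] at h3
    have h4 : orderOf x = 1 := by simpa using h3
    exact orderOf_eq_one_iff.mp h4

end NormComplGrp

end Cfsg.Agent.Helper79.Cop
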