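import Cfsg.Agent.Lib.Helper79.Coprime.NormCompl
import Cfsg.Agent.Lib.Helper79.Coprime.NormComplGrp

set_option autoImplicit false
set_option linter.unusedSectionVars false
set_option linter.style.haveILetI false

namespace Cfsg.Agent.Helper79.Cop

open Cfsg Cfsg.Agent.Helper81 Cfsg.Agent.Helper79.Glaub
open scoped ComplexConjugate

universe u

section NormComplMain

variable {G : Type u} [Group G] [Finite G]

/-- if `N` has a normal complement then every irreducible character of `N` extends to `G` -/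
theorem extend_of_normal_complement (N K : Subgroup G) (hK : K.Normal) (hKN : K ⊔ N = ⊤)
    (hKN' : K ⊓ N = ⊥) (θ : IrrCharacter N) :
    ∃ χ : IrrCharacter G, ∀ x : N, (χ : G → ℂ) x = (θ : N → ℂ) x := by
  classical
  haveI := hK
  let φ : N →* G ⧸ K := (QuotientGroup.mk' K).comp N.subtype
  have hinj : Function.Injective φ := by
    rw [injective_iff_map_eq_one]
    intro x hx
    have h1 : (x : G) ∈ K := (QuotientGroup.eq_one_iff (x : G)).mp hx
    have h2 : (x : G) ∈ K ⊓ N := Subgroup.mem_inf.mpr ⟨h1, x.2⟩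
    rw [hKN', Subgroup.mem_bot] at h2
    exact Subtype.ext h2
  have hsurj : Function.Surjective φ := by
    intro y
    obtain ⟨g, rfl⟩ := QuotientGroup.mk'_surjective K y
    have hg : g ∈ ((K ⊔ N : Subgroup G) : Set G) := by rw [hKN]; trivial
    rw [Subgroup.normal_mul] at hg
    obtain ⟨k, hk, n, hn, rfl⟩ := Set.mem_mul.mp hg
    refine ⟨⟨n, hn⟩, ?_⟩
    show QuotientGroup.mk' K n = QuotientGroup.mk' K (k * n)
    have hk1 : QuotientGroup.mk' K k = 1 := (QuotientGroup.eq_one_iff k).mpr hk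
    rw [map_mul, hk1, one_mul]
  let e : N ≃* G ⧸ K := MulEquiv.ofBijective φ ⟨hinj, hsurj⟩
  let f : G →* N := e.symm.toMonoidHom.comp (QuotientGroup.mk' K)
  have hf : Function.Surjective f :=
    e.symm.surjective.comp (QuotientGroup.mk'_surjective K)
  refine ⟨irrPull f hf θ, ?_⟩
  intro x
  rw [irrPull_apply]
  have h1 : f (x : G) = x := by
    show e.symm (QuotientGroup.mk' K (x : G)) = x
    rw [MulEquiv.symm_apply_eq]
    rfl
  rw [h1]

/-- if every irreducible character of degree prime to `p` of the normalizer `N` of a Sylow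
`p`-subgroup extends to `G`, then `N` has a normal complement -/
theorem normal_complement_of_extend {p : ℕ} [Fact p.Prime] (P : Sylow p G)
    (hext : ∀ θ : IrrCharacter ↥(Subgroup.normalizer ((P : Subgroup G) : Set G)),
      ¬ p ∣ charDegree (θ : ↥(Subgroup.normalizer ((P : Subgroup G) : Set G)) → ℂ) →
      ∃ χ : IrrCharacter G, ∀ x : ↥(Subgroup.normalizer ((P : Subgroup G) : Set G)),
        (χ : G → ℂ) x = (θ : ↥(Subgroup.normalizer ((P : Subgroup G) : Set G)) → ℂ) x) :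
    ∃ K : Subgroup G, K.Normal ∧
      K ⊔ Subgroup.normalizer ((P : Subgroup G) : Set G) = ⊤ ∧
      K ⊓ Subgroup.normalizer ((P : Subgroup G) : Set G) = ⊥ := by
  classical
  letI : Fintype G := Fintype.ofFinite G
  set N : Subgroup G := Subgroup.normalizer ((P : Subgroup G) : Set G) with hN
  letI : Fintype N := Fintype.ofFinite _
  have hPN : (P : Subgroup G) ≤ N := Subgroup.le_normalizer
  set Q : Subgroup N := (P : Subgroup G).subgroupOf N with hQ
  haveI hQn : Q.Normal := Subgroup.normal_in_normalizer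
  have hQidx : ¬ p ∣ Q.index := by
    intro hdvd
    apply P.not_dvd_index
    rw [← Subgroup.relIndex_mul_index hPN]
    exact Dvd.dvd.mul_right hdvd _
  have hQmap : Q.map N.subtype = (P : Subgroup G) := by
    rw [hQ, Subgroup.subgroupOf_map_subtype, inf_of_le_left hPN]
  have hcomm : (⁅Q, Q⁆ : Subgroup N).map N.subtype = ⁅(P : Subgroup G), (P : Subgroup G)⁆ := by
    rw [Subgroup.map_commutator, hQmap]
  have hCQ : (⁅Q, Q⁆ : Subgroup N) ≤ Q := Subgroup.commutator_le_right Q Q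
  haveI hCn : (⁅Q, Q⁆ : Subgroup N).Normal := Subgroup.commutator_normal Q Q
  have hcomm_mem : ∀ x : N, x ∈ (⁅Q, Q⁆ : Subgroup N) ↔
      (x : G) ∈ ⁅(P : Subgroup G), (P : Subgroup G)⁆ := by
    intro x
    rw [← hcomm]
    constructor
    · intro hx
      exact Subgroup.mem_map.mpr ⟨x, hx, rfl⟩
    · intro hx
      obtain ⟨y, hy, hyx⟩ := Subgroup.mem_map.mp hx
      have : y = x := Subtype.ext hyx
      rw [← this]; exact hy
  -- the two families of characters
  let SM : Set (IrrCharacter G) := {χ | ∃ θ : IrrCharacter N,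
    (⁅Q, Q⁆ : Subgroup N) ≤ Cfsg.Agent.Helper79.irrKer θ ∧
      ∀ x : N, (χ : G → ℂ) x = (θ : N → ℂ) x}
  let SL : Set (IrrCharacter G) := {χ | ∃ θ : IrrCharacter N,
    Q ≤ Cfsg.Agent.Helper79.irrKer θ ∧ ∀ x : N, (χ : G → ℂ) x = (θ : N → ℂ) x}
  have hSLM : SL ⊆ SM := by
    rintro χ ⟨θ, hθ, hχ⟩
    exact ⟨θ, hCQ.trans hθ, hχ⟩
  set M : Subgroup G := ⨅ χ : IrrCharacter G, ⨅ _ : χ ∈ SM, Cfsg.Agent.Helper79.irrKer χ
    with hMdef
  set L : Subgroup G := ⨅ χ : IrrCharacter G, ⨅ _ : χ ∈ SL, Cfsg.Agent.Helper79.irrKer χ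
    with hLdef
  have hMmem : ∀ x : G, x ∈ M ↔ ∀ χ ∈ SM, x ∈ Cfsg.Agent.Helper79.irrKer χ := by
    intro x
    rw [hMdef]
    simp only [Subgroup.mem_iInf]
  have hLmem : ∀ x : G, x ∈ L ↔ ∀ χ ∈ SL, x ∈ Cfsg.Agent.Helper79.irrKer χ := by
    intro x
    rw [hLdef]
    simp only [Subgroup.mem_iInf]
  have hMn : M.Normal :=
    Subgroup.normal_iInf_normal fun χ => Subgroup.normal_iInf_normal fun _ =>
      Cfsg.Agent.Helper79.irrKer_normal χ
  have hLn : L.Normal :=
    Subgroup.normal_iInf_normal fun χ => Subgroup.normal_iInf_normal fun _ =>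
      Cfsg.Agent.Helper79.irrKer_normal χ
  have hML : M ≤ L := by
    intro x hx
    rw [hLmem]
    intro χ hχ
    exact (hMmem x).mp hx χ (hSLM hχ)
  -- values of an extension at the identity
  have hone : ∀ (χ : IrrCharacter G) (θ : IrrCharacter N),
      (∀ x : N, (χ : G → ℂ) x = (θ : N → ℂ) x) → (χ : G → ℂ) 1 = (θ : N → ℂ) 1 := by
    intro χ θ h
    exact h 1
  have hPL : (P : Subgroup G) ≤ L := by
    intro x hx
    rw [hLmem]
    rintro χ ⟨θ, hθ, hχ⟩
    rw [Cfsg.Agent.Helper79.mem_irrKer]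
    have h1 : (⟨x, hPN hx⟩ : N) ∈ Q := by
      rw [hQ, Subgroup.mem_subgroupOf]; exact hx
    have h2 := hθ h1
    rw [Cfsg.Agent.Helper79.mem_irrKer] at h2
    rw [hone χ θ hχ, ← h2]
    exact hχ ⟨x, hPN hx⟩
  have hPM : ⁅(P : Subgroup G), (P : Subgroup G)⁆ ≤ M := by
    intro x hx
    have hxP : x ∈ (P : Subgroup G) := by
      have hle : ⁅(P : Subgroup G), (P : Subgroup G)⁆ ≤ (P : Subgroup G) := by
        rw [Subgroup.commutator_le]
        intro a ha b hb
        rw [commutatorElement_def]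
        exact Subgroup.mul_mem _ (Subgroup.mul_mem _ (Subgroup.mul_mem _ ha hb)
          (Subgroup.inv_mem _ ha)) (Subgroup.inv_mem _ hb)
      exact hle hx
    rw [hMmem]
    rintro χ ⟨θ, hθ, hχ⟩
    rw [Cfsg.Agent.Helper79.mem_irrKer]
    have h1 : (⟨x, hPN hxP⟩ : N) ∈ (⁅Q, Q⁆ : Subgroup N) := (hcomm_mem _).mpr hx
    have h2 := hθ h1
    rw [Cfsg.Agent.Helper79.mem_irrKer] at h2
    rw [hone χ θ hχ, ← h2]
    exact hχ ⟨x, hPN hxP⟩
  have hdeg : ∀ θ : IrrCharacter N, (⁅Q, Q⁆ : Subgroup N) ≤ Cfsg.Agent.Helper79.irrKer θ →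
      ¬ p ∣ charDegree (θ : N → ℂ) :=
    fun θ hθ => not_dvd_degree_of_commutator_le Q hQidx θ hθ
  have hMP : M ⊓ (P : Subgroup G) ≤ ⁅(P : Subgroup G), (P : Subgroup G)⁆ := by
    intro x hx
    obtain ⟨hxM, hxP⟩ := Subgroup.mem_inf.mp hx
    rw [← hcomm_mem ⟨x, hPN hxP⟩]
    apply mem_of_forall_mem_irrKer
    intro θ hθ
    obtain ⟨χ, hχ⟩ := hext θ (hdeg θ hθ)
    have h1 := (hMmem x).mp hxM χ ⟨θ, hθ, hχ⟩
    rw [Cfsg.Agent.Helper79.mem_irrKer] at h1 ⊢
    rw [← hone χ θ hχ, ← h1]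
    exact (hχ ⟨x, hPN hxP⟩).symm
  have hLN : L ⊓ N ≤ (P : Subgroup G) := by
    intro x hx
    obtain ⟨hxL, hxN⟩ := Subgroup.mem_inf.mp hx
    have h0 : (⟨x, hxN⟩ : N) ∈ Q := by
      apply mem_of_forall_mem_irrKer
      intro θ hθ
      obtain ⟨χ, hχ⟩ := hext θ (hdeg θ (hCQ.trans hθ))
      have h1 := (hLmem x).mp hxL χ ⟨θ, hθ, hχ⟩
      rw [Cfsg.Agent.Helper79.mem_irrKer] at h1 ⊢
      rw [← hone χ θ hχ, ← h1]
      exact (hχ ⟨x, hxN⟩).symm
    rw [hQ, Subgroup.mem_subgroupOf] at h0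
    exact h0
  exact exists_normal_complement_aux P M L hMn hLn hML hPL hMP hPM hLN

end NormComplMain

end Cfsg.Agent.Helper79.Cop
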