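import Cfsg.Agent.Lib.Helper81.CharDet
import Cfsg.Agent.Lib.Helper81.CharCanon
import Cfsg.Agent.Lib.Helper81.CharRam
import Cfsg.Agent.Lib.Helper79.Inflation
import Cfsg.Agent.Lib.Helper79.Integrality

set_option autoImplicit false
set_option linter.unusedSectionVars false
set_option linter.style.haveILetI false

namespace Cfsg.Agent.Helper79.Cop

open Cfsg Cfsg.Agent.Helper81
open scoped ComplexConjugate

universe u

section Over

variable {G : Type u} [Group G] [Fintype G]

omit [Fintype G] in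
/-- the inertia group of a function on a normal subgroup -/
def inertia (N : Subgroup G) (hN : N.Normal) (θ : N → ℂ) : Subgroup G where
  carrier := {g | conjFun N hN θ g = θ}
  one_mem' := conjFun_one N hN θ
  mul_mem' := by
    intro a b ha hb
    simp only [Set.mem_setOf_eq] at ha hb ⊢
    rw [← conjFun_mul, ha, hb]
  inv_mem' := by
    intro a ha
    simp only [Set.mem_setOf_eq] at ha ⊢
    have h1 : conjFun N hN (conjFun N hN θ a) a⁻¹ = conjFun N hN θ (a * a⁻¹) :=
      conjFun_mul N hN θ a a⁻¹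
    rw [ha, mul_inv_cancel, conjFun_one] at h1
    exact h1

omit [Fintype G] in
theorem mem_inertia (N : Subgroup G) (hN : N.Normal) (θ : N → ℂ) (g : G) :
    g ∈ inertia N hN θ ↔ conjFun N hN θ g = θ := Iff.rfl

omit [Fintype G] in
theorem le_inertia (N : Subgroup G) (hN : N.Normal) {θ : N → ℂ} (hθ : IsClassFunction N θ) :
    N ≤ inertia N hN θ := by
  intro k hk
  rw [mem_inertia]
  funext n
  rw [conjFun_apply]
  have h := hθ n ⟨k, hk⟩
  rw [← h]
  rfl

/-- a constituent of the restriction to a normal subgroup of a character of degree prime to the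
index is invariant -/
theorem invariant_of_coprime_degree (N : Subgroup G) [Fintype N] (hN : N.Normal) {χ : G → ℂ}
    (hχ : IsIrrCharacter G χ) {θ : N → ℂ} (hθ : IsIrrCharacter N θ)
    (hne : classInner (fun n : N => χ n) θ ≠ 0) (hcop : (charDegree χ).Coprime N.index) :
    ∀ g : G, conjFun N hN θ g = θ := by
  classical
  set T := inertia N hN θ with hT
  haveI : Fintype T := Fintype.ofFinite _
  have hNT : N ≤ T := le_inertia N hN (isClassFunction_of_isCharacter (IsIrrCharacter.isCharacter hθ))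
  obtain ⟨ψ, hψ, hind, _⟩ := clifford_corr_surj N T hN hNT hθ (fun g => Iff.rfl) hχ hne
  have h1 := congrFun hind 1
  rw [indFun_one] at h1
  have h2 : ψ 1 = (charDegree ψ : ℂ) := (Cfsg.Agent.Helper79.irr_one_eq ⟨ψ, hψ⟩).1
  have h3 : χ 1 = (charDegree χ : ℂ) := (Cfsg.Agent.Helper79.irr_one_eq ⟨χ, hχ⟩).1
  rw [h2, h3] at h1
  have h4 : T.index * charDegree ψ = charDegree χ := by exact_mod_cast h1
  have h5 : T.index ∣ charDegree χ := ⟨_, h4.symm⟩
  have h6 : T.index ∣ N.index := Subgroup.index_dvd_of_le hNT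
  have h7 : T.index = 1 := Nat.eq_one_of_dvd_coprimes hcop h5 h6
  have h8 : T = ⊤ := Subgroup.index_eq_one.mp h7
  intro g
  have : g ∈ T := by rw [h8]; exact Subgroup.mem_top g
  exact this

/-- Gallagher: a character of degree prime to the index lying over an extendible character of a
normal subgroup is a linear twist of the extension. -/
theorem over_coprime (N : Subgroup G) [Fintype N] (hN : N.Normal)
    {η χ : G → ℂ} (hη : IsIrrCharacter G η) (hχ : IsIrrCharacter G χ) {ϑ : N → ℂ}
    (hϑ : IsIrrCharacter N ϑ) (hηres : (fun n : N => η n) = ϑ)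
    (hne : classInner (fun n : N => χ n) ϑ ≠ 0) (hcop : (charDegree χ).Coprime N.index) :
    ∃ β : G →* ℂ, (∀ n : N, β n = 1) ∧ χ = (β : G → ℂ) * η := by
  classical
  haveI : Fintype (IrrCharacter G) := @Fintype.ofFinite _ irr_finite
  have hηcf := isClassFunction_of_isCharacter (IsIrrCharacter.isCharacter hη)
  have hχcf := isClassFunction_of_isCharacter (IsIrrCharacter.isCharacter hχ)
  have h1N : IsIrrCharacter N (1 : N → ℂ) := isIrrCharacter_one
  have h1inv : ∀ g : G, conjFun N hN (1 : N → ℂ) g = 1 := fun g => rfl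
  have hprod : IsIrrCharacter N ((1 : N → ℂ) * ϑ) := by rw [one_mul]; exact hϑ
  have hprodinv : ∀ g : G, conjFun N hN ((1 : N → ℂ) * ϑ) g = (1 : N → ℂ) * ϑ := by
    intro g
    rw [one_mul, ← hηres]
    ext n
    rw [conjFun_apply]
    exact hηcf n g
  obtain ⟨m, hm⟩ := exists_nat_decomp
    (isCharacter_indFun N (IsIrrCharacter.isCharacter h1N))
  obtain ⟨hirr, -, hΨ⟩ := gallagher_core N hN h1N h1inv hprod hprodinv hη hηres m hm
  rw [one_mul] at hΨ
  have h1 : classInner (indFun N ϑ) χ ≠ 0 := by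
    rw [frobenius_reciprocity N ϑ hχcf]
    intro h0
    apply hne
    rw [classInner_conj_symm, h0, map_zero]
  rw [hΨ, classInner_sum_left] at h1
  obtain ⟨β, _, hβ⟩ := Finset.exists_ne_zero_of_sum_ne_zero h1
  rw [classInner_smul_left] at hβ
  have hmβ : m β ≠ 0 := by
    intro h0; apply hβ; rw [h0]; simp
  have hβχ : classInner ((β : G → ℂ) * η) χ ≠ 0 := by
    intro h0; apply hβ; rw [h0, mul_zero]
  have heq : (β : G → ℂ) * η = χ := eq_of_classInner_ne_zero (hirr β hmβ) hχ hβχ
  -- `β` is constant on `N`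
  have hinner : classInner (fun n : N => (β : G → ℂ) n) (1 : N → ℂ) ≠ 0 := by
    have h5 : classInner (indFun N (1 : N → ℂ)) (β : G → ℂ) = (m β : ℂ) := by
      rw [hm]
      exact classInner_nat_decomp (fun γ => (m γ : ℂ)) β
    rw [frobenius_reciprocity N 1
      (isClassFunction_of_isCharacter (IsIrrCharacter.isCharacter β.2))] at h5
    intro h0
    have h6 : (m β : ℂ) = 0 := by
      rw [← h5, classInner_conj_symm, h0, map_zero]
    exact hmβ (by exact_mod_cast h6)
  have hcl := clifford N hN β.2 h1N hinner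
  have hset : conjSet N hN (1 : N → ℂ) = {(1 : N → ℂ)} := by
    ext ψ
    constructor
    · rintro ⟨g, rfl⟩
      exact h1inv g
    · intro h
      exact ⟨1, by rw [h]; exact (h1inv 1).symm⟩
  rw [hset, finsum_mem_singleton] at hcl
  have hconst : ∀ n : N, (β : G → ℂ) n = (β : G → ℂ) 1 := by
    intro n
    have h7 := congrFun hcl n
    have h8 := congrFun hcl 1
    simp only [Pi.smul_apply, Pi.one_apply, smul_eq_mul, mul_one] at h7 h8
    rw [h7]
    exact h8.symm
  -- hence `β` comes from the quotient and its degree divides the index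
  have hker : N ≤ Cfsg.Agent.Helper79.irrKer β := by
    intro n hn
    rw [Cfsg.Agent.Helper79.mem_irrKer]
    exact hconst ⟨n, hn⟩
  haveI := hN
  obtain ⟨ψ, hψ⟩ := Cfsg.Agent.Helper79.exists_deflate N β hker
  have hdvd : charDegree (β : G → ℂ) ∣ N.index := by
    rw [← hψ, Cfsg.Agent.Helper79.charDegree_inflate, Subgroup.index_eq_card]
    exact Cfsg.Agent.Helper79.irr_degree_dvd_card ψ
  have hβ1 : (β : G → ℂ) 1 = (charDegree (β : G → ℂ) : ℂ) := (Cfsg.Agent.Helper79.irr_one_eq β).1
  have hη1 : η 1 = (charDegree η : ℂ) := (Cfsg.Agent.Helper79.irr_one_eq ⟨η, hη⟩).1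
  have hχ1 : χ 1 = (charDegree χ : ℂ) := (Cfsg.Agent.Helper79.irr_one_eq ⟨χ, hχ⟩).1
  have hmul : charDegree (β : G → ℂ) * charDegree η = charDegree χ := by
    have h3 := congrFun heq 1
    simp only [Pi.mul_apply] at h3
    rw [hβ1, hη1, hχ1] at h3
    exact_mod_cast h3
  have hdvd2 : charDegree (β : G → ℂ) ∣ charDegree χ := ⟨_, hmul.symm⟩
  have hone : charDegree (β : G → ℂ) = 1 := Nat.eq_one_of_dvd_coprimes hcop hdvd2 hdvd
  have hdeg : (β : G → ℂ) 1 = 1 := by rw [hβ1, hone, Nat.cast_one]
  let βh : G →* ℂ := linHom (IsIrrCharacter.isCharacter β.2) hdeg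
  refine ⟨βh, ?_, heq.symm⟩
  intro n
  show (β : G → ℂ) n = 1
  rw [hconst n, hdeg]

end Over

end Cfsg.Agent.Helper79.Cop
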