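import Cfsg.Agent.Lib.Helper79.Coprime.RelPkg
import Cfsg.Agent.Lib.Helper79.Glaub.PGroup

set_option autoImplicit false
set_option linter.unusedSectionVars false
set_option linter.style.haveILetI false

namespace Cfsg.Agent.Helper79.Cop

open Cfsg Cfsg.Agent.Helper81 Cfsg.Agent.Helper79.Glaub
open scoped ComplexConjugate

universe u

section QuotPkg

variable {Γ : Type u} [Group Γ] [Fintype Γ]

/-- the relative Glauberman correspondence for the characters of `T` trivial on `Q` -/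
theorem quot_pkg (p : ℕ) [hp : Fact p.Prime] (P T D Q : Subgroup Γ) [Fintype T] [Fintype D]
    [Fintype Q] (hP : IsPGroup p P) (hQT : Q ≤ T) (hQD : Q ≤ D) (hDT : D ≤ T)
    (hTQ : ∀ t ∈ T, NormAt Q t) (hPQ : ∀ x ∈ P, NormAt Q x) (hPT : ∀ x ∈ P, NormAt T x)
    (hidx : ¬ p ∣ Q.relIndex T)
    (hD : ∀ t : Γ, t ∈ D ↔ t ∈ T ∧ ∀ x ∈ P, x * t * x⁻¹ * t⁻¹ ∈ Q) :
    RelPkg p (Subgroup.inclusion hDT)
      (fun β : IrrCharacter T => TrivOn hQT (β : T → ℂ) ∧ ∀ x ∈ P, InvAt T (β : T → ℂ) x)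
      (fun γ : IrrCharacter D => TrivOn hQD (γ : D → ℂ)) := by
  classical
  set N₀ : Subgroup Γ := Subgroup.normalizer (Q : Set Γ) with hN₀
  have hTN : T ≤ N₀ := fun t ht => (normAt_iff_mem_normalizer Q t).mp (hTQ t ht)
  have hPN : P ≤ N₀ := fun x hx => (normAt_iff_mem_normalizer Q x).mp (hPQ x hx)
  have hDN : D ≤ N₀ := hDT.trans hTN
  set Q₀ : Subgroup N₀ := Q.subgroupOf N₀ with hQ₀
  haveI hQ₀n : Q₀.Normal := Subgroup.normal_in_normalizer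
  let π : N₀ →* N₀ ⧸ Q₀ := QuotientGroup.mk' Q₀
  have hπ1 : ∀ y : N₀, π y = 1 ↔ (y : Γ) ∈ Q := by
    intro y
    show (QuotientGroup.mk y : N₀ ⧸ Q₀) = 1 ↔ _
    rw [QuotientGroup.eq_one_iff, hQ₀, Subgroup.mem_subgroupOf]
  haveI : Fintype (N₀ ⧸ Q₀) := Fintype.ofFinite _
  set T' : Subgroup (N₀ ⧸ Q₀) := (T.subgroupOf N₀).map π with hT'
  set P' : Subgroup (N₀ ⧸ Q₀) := (P.subgroupOf N₀).map π with hP'
  set D' : Subgroup (N₀ ⧸ Q₀) := (D.subgroupOf N₀).map π with hD'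
  haveI : Fintype T' := Fintype.ofFinite _
  haveI : Fintype D' := Fintype.ofFinite _
  have hmemT' : ∀ (t : Γ) (ht : t ∈ T), π ⟨t, hTN ht⟩ ∈ T' := fun t ht =>
    Subgroup.mem_map_of_mem π (Subgroup.mem_subgroupOf.mpr ht)
  have hmemP' : ∀ (t : Γ) (ht : t ∈ P), π ⟨t, hPN ht⟩ ∈ P' := fun t ht =>
    Subgroup.mem_map_of_mem π (Subgroup.mem_subgroupOf.mpr ht)
  have hmemD' : ∀ (t : Γ) (ht : t ∈ D), π ⟨t, hDN ht⟩ ∈ D' := fun t ht =>
    Subgroup.mem_map_of_mem π (Subgroup.mem_subgroupOf.mpr ht)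
  have exT' : ∀ y ∈ T', ∃ (t : Γ) (ht : t ∈ T), π ⟨t, hTN ht⟩ = y := by
    intro y hy
    obtain ⟨x, hx, rfl⟩ := Subgroup.mem_map.mp hy
    exact ⟨x, Subgroup.mem_subgroupOf.mp hx, rfl⟩
  have exP' : ∀ y ∈ P', ∃ (t : Γ) (ht : t ∈ P), π ⟨t, hPN ht⟩ = y := by
    intro y hy
    obtain ⟨x, hx, rfl⟩ := Subgroup.mem_map.mp hy
    exact ⟨x, Subgroup.mem_subgroupOf.mp hx, rfl⟩
  have exD' : ∀ y ∈ D', ∃ (t : Γ) (ht : t ∈ D), π ⟨t, hDN ht⟩ = y := by
    intro y hy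
    obtain ⟨x, hx, rfl⟩ := Subgroup.mem_map.mp hy
    exact ⟨x, Subgroup.mem_subgroupOf.mp hx, rfl⟩
  have hD'T' : D' ≤ T' := by
    apply Subgroup.map_mono
    intro x hx
    rw [Subgroup.mem_subgroupOf] at hx ⊢
    exact hDT hx
  -- the projections
  let πT : T →* T' := (π.comp (Subgroup.inclusion hTN)).codRestrict T' (fun t => hmemT' t t.2)
  let πD : D →* D' := (π.comp (Subgroup.inclusion hDN)).codRestrict D' (fun t => hmemD' t t.2)
  have hπT : Function.Surjective πT := by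
    rintro ⟨y, hy⟩
    obtain ⟨t, ht, rfl⟩ := exT' y hy
    exact ⟨⟨t, ht⟩, Subtype.ext rfl⟩
  have hπD : Function.Surjective πD := by
    rintro ⟨y, hy⟩
    obtain ⟨t, ht, rfl⟩ := exD' y hy
    exact ⟨⟨t, ht⟩, Subtype.ext rfl⟩
  have hπT1 : ∀ t : T, πT t = 1 ↔ (t : Γ) ∈ Q := by
    intro t
    rw [Subtype.ext_iff]
    exact hπ1 ⟨t, hTN t.2⟩
  have hπD1 : ∀ t : D, πD t = 1 ↔ (t : Γ) ∈ Q := by
    intro t
    rw [Subtype.ext_iff]
    exact hπ1 ⟨t, hDN t.2⟩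
  have hcomm : ∀ d : D, πT (Subgroup.inclusion hDT d) = Subgroup.inclusion hD'T' (πD d) :=
    fun d => Subtype.ext rfl
  -- commutation in the quotient
  have hcommQ : ∀ (x t : N₀), π x * π t = π t * π x ↔ (x : Γ) * t * (x : Γ)⁻¹ * (t : Γ)⁻¹ ∈ Q := by
    intro x t
    have h1 := hπ1 (x * t * x⁻¹ * t⁻¹)
    rw [map_mul, map_mul, map_mul, map_inv, map_inv] at h1
    have h2 : ((x * t * x⁻¹ * t⁻¹ : N₀) : Γ) = (x : Γ) * t * (x : Γ)⁻¹ * (t : Γ)⁻¹ := rfl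
    rw [h2] at h1
    rw [← h1, mul_inv_eq_one, mul_inv_eq_iff_eq_mul]
  -- the centralizer
  have hD'eq : D' = T' ⊓ Subgroup.centralizer (P' : Set (N₀ ⧸ Q₀)) := by
    ext y
    rw [Subgroup.mem_inf, Subgroup.mem_centralizer_iff]
    constructor
    · intro hy
      refine ⟨hD'T' hy, ?_⟩
      obtain ⟨d, hd, rfl⟩ := exD' y hy
      intro s hs
      obtain ⟨x, hx, rfl⟩ := exP' s hs
      rw [hcommQ]
      exact ((hD d).mp hd).2 x hx
    · rintro ⟨hyT, hyc⟩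
      obtain ⟨t, ht, rfl⟩ := exT' y hyT
      have htD : t ∈ D := by
        rw [hD]
        refine ⟨ht, ?_⟩
        intro x hx
        have := hyc (π ⟨x, hPN hx⟩) (hmemP' x hx)
        rw [hcommQ] at this
        exact this
      exact hmemD' t htD
  -- normalization
  have hnormkey : ∀ (x : Γ) (hx : x ∈ P), ∀ g ∈ T',
      π ⟨x, hPN hx⟩ * g * (π ⟨x, hPN hx⟩)⁻¹ ∈ T' := by
    intro x hx g hg
    obtain ⟨t, ht, rfl⟩ := exT' g hg
    have hxt : x * t * x⁻¹ ∈ T := (hPT x hx).1 t ht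
    have : π ⟨x, hPN hx⟩ * π ⟨t, hTN ht⟩ * (π ⟨x, hPN hx⟩)⁻¹ = π ⟨x * t * x⁻¹, hTN hxt⟩ := by
      rw [← map_inv, ← map_mul, ← map_mul]
      rfl
    rw [this]
    exact hmemT' _ hxt
  have hnorm : ∀ s ∈ P', NormAt T' s := by
    intro s hs
    obtain ⟨x, hx, rfl⟩ := exP' s hs
    refine ⟨hnormkey x hx, ?_⟩
    intro g hg
    have h1 := hnormkey x⁻¹ (P.inv_mem hx) g hg
    have h2 : π ⟨x⁻¹, hPN (P.inv_mem hx)⟩ = (π ⟨x, hPN hx⟩)⁻¹ := by
      rw [← map_inv]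
      rfl
    rw [h2, inv_inv] at h1
    exact h1
  -- cardinalities
  have hker : πT.ker = Q.subgroupOf T := by
    ext t
    rw [MonoidHom.mem_ker, hπT1, Subgroup.mem_subgroupOf]
  have hcardT' : Nat.card T' = Q.relIndex T := by
    have h1 := Subgroup.index_ker πT
    rw [MonoidHom.range_eq_top.mpr hπT, Subgroup.card_top, hker] at h1
    rw [← h1]
    rfl
  have hP'p : IsPGroup p P' := (hP.comap_subtype).map π
  obtain ⟨n, hn⟩ := IsPGroup.iff_card.mp hP'p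
  have hcop : (Nat.card T').Coprime (Nat.card P') := by
    rw [hn, hcardT']
    apply Nat.Coprime.pow_right
    exact ((Nat.Prime.coprime_iff_not_dvd hp.out).mpr hidx).symm
  have hpkg := pkg_pgroup p hp.out (Nat.card P') T' P' rfl hnorm hcop hP'p D' hD'eq hD'T'
  -- the dictionary
  have htrivT : ∀ β' : IrrCharacter T', TrivOn hQT (irrPull πT hπT β' : T → ℂ) := by
    intro β' q
    rw [irrPull_apply, irrPull_apply, map_one]
    apply congrArg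
    exact (hπT1 _).mpr q.2
  have htrivD : ∀ γ' : IrrCharacter D', TrivOn hQD (irrPull πD hπD γ' : D → ℂ) := by
    intro γ' q
    rw [irrPull_apply, irrPull_apply, map_one]
    apply congrArg
    exact (hπD1 _).mpr q.2
  apply RelPkg.of_pull p πT hπT πD hπD (Subgroup.inclusion hDT) (Subgroup.inclusion hD'T') hcomm
    (fun χ : IrrCharacter T' => ∀ x ∈ P', InvAt T' (χ : T' → ℂ) x) _ _ ?_ ?_ htrivD ?_ hpkg
  · intro β'
    constructor
    · intro h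
      refine ⟨htrivT β', ?_⟩
      intro x hx t t' htt'
      rw [irrPull_apply, irrPull_apply]
      apply h (π ⟨x, hPN hx⟩) (hmemP' x hx) (πT t) (πT t')
      show π ⟨t', hTN t'.2⟩ = π ⟨x, hPN hx⟩ * π ⟨t, hTN t.2⟩ * (π ⟨x, hPN hx⟩)⁻¹
      rw [← map_inv, ← map_mul, ← map_mul]
      apply congrArg
      exact Subtype.ext htt'
    · rintro ⟨_, h⟩ s hs g g' hgg'
      obtain ⟨x, hx, rfl⟩ := exP' s hs
      obtain ⟨t, rfl⟩ := hπT g
      have hxt : x * t * x⁻¹ ∈ T := (hPT x hx).1 t t.2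
      have hg' : g' = πT ⟨x * t * x⁻¹, hxt⟩ := by
        apply Subtype.ext
        rw [hgg']
        show π ⟨x, hPN hx⟩ * π ⟨t, hTN t.2⟩ * (π ⟨x, hPN hx⟩)⁻¹ = π ⟨x * t * x⁻¹, hTN hxt⟩
        rw [← map_inv, ← map_mul, ← map_mul]
        rfl
      rw [hg']
      exact h x hx t ⟨x * t * x⁻¹, hxt⟩ rfl
  · rintro β ⟨hβ, _⟩
    apply exists_irrPull_eq πT hπT β
    intro a ha
    have hq := (hπT1 a).mp ha
    exact hβ ⟨a, hq⟩
  · intro γ hγ
    apply exists_irrPull_eq πD hπD γ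
    intro a ha
    have hq := (hπD1 a).mp ha
    exact hγ ⟨a, hq⟩

end QuotPkg

end Cfsg.Agent.Helper79.Cop
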