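import Cfsg.Agent.Lib.Helper79.Coprime.AmbCanon

set_option autoImplicit false
set_option linter.unusedSectionVars false
set_option linter.style.haveILetI false

namespace Cfsg.Agent.Helper79.Cop

open Cfsg Cfsg.Agent.Helper81 Cfsg.Agent.Helper79.Glaub
open scoped ComplexConjugate

universe u v u' v'

/-- a relative version of the Glauberman package: a correspondence between the irreducible
characters of `T` satisfying `InvT` and those of `D` satisfying `TrD` -/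
def RelPkg (p : ℕ) {T : Type u} {D : Type v} [Group T] [Group D] [Fintype D] (res : D →* T)
    (InvT : IrrCharacter T → Prop) (TrD : IrrCharacter D → Prop) : Prop :=
  (∀ β : IrrCharacter T, InvT β → ∃! γ : IrrCharacter D, TrD γ ∧ ∃ m : ℕ,
    classInner (fun d : D => (β : T → ℂ) (res d)) (γ : D → ℂ) = (m : ℂ) ∧ ¬ p ∣ m) ∧
  (∀ β : IrrCharacter T, InvT β → ∀ γ : IrrCharacter D, TrD γ → ∀ m : ℕ,
    classInner (fun d : D => (β : T → ℂ) (res d)) (γ : D → ℂ) = (m : ℂ) → ¬ p ∣ m →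
      ((m : ℤ) ≡ 1 [ZMOD p] ∨ (m : ℤ) ≡ -1 [ZMOD p])) ∧
  (∀ β β' : IrrCharacter T, InvT β → InvT β' → ∀ γ : IrrCharacter D, TrD γ → ∀ m m' : ℕ,
    classInner (fun d : D => (β : T → ℂ) (res d)) (γ : D → ℂ) = (m : ℂ) → ¬ p ∣ m →
    classInner (fun d : D => (β' : T → ℂ) (res d)) (γ : D → ℂ) = (m' : ℂ) → ¬ p ∣ m' →
      β = β') ∧
  (∀ γ : IrrCharacter D, TrD γ → ∃ β : IrrCharacter T, InvT β ∧ ∃ m : ℕ,
    classInner (fun d : D => (β : T → ℂ) (res d)) (γ : D → ℂ) = (m : ℂ) ∧ ¬ p ∣ m)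

/-- pulling back a package along surjective homomorphisms -/
theorem RelPkg.of_pull (p : ℕ) {T : Type u} {D : Type v} {T' : Type u'} {D' : Type v'}
    [Group T] [Group D] [Fintype D] [Group T'] [Group D'] [Fintype D']
    (πT : T →* T') (hπT : Function.Surjective πT) (πD : D →* D') (hπD : Function.Surjective πD)
    (res : D →* T) (res' : D' →* T') (hcomm : ∀ d : D, πT (res d) = res' (πD d))
    (Inv' : IrrCharacter T' → Prop) (InvT : IrrCharacter T → Prop) (TrD : IrrCharacter D → Prop)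
    (hInv : ∀ β' : IrrCharacter T', Inv' β' ↔ InvT (irrPull πT hπT β'))
    (hTsurj : ∀ β : IrrCharacter T, InvT β → ∃ β' : IrrCharacter T', irrPull πT hπT β' = β)
    (hTrD : ∀ γ' : IrrCharacter D', TrD (irrPull πD hπD γ'))
    (hDsurj : ∀ γ : IrrCharacter D, TrD γ → ∃ γ' : IrrCharacter D', irrPull πD hπD γ' = γ)
    (h : Pkg p res' Inv') : RelPkg p res InvT TrD := by
  classical
  obtain ⟨h1, h2, h3, h4⟩ := h
  have key : ∀ (β' : IrrCharacter T') (γ' : IrrCharacter D'),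
      classInner (fun d : D => (irrPull πT hπT β' : T → ℂ) (res d))
        (irrPull πD hπD γ' : D → ℂ) =
      classInner (fun d' : D' => (β' : T' → ℂ) (res' d')) (γ' : D' → ℂ) := by
    intro β' γ'
    rw [← classInner_comp_surjective πD hπD]
    congr 1
    funext d
    rw [irrPull_apply, hcomm]
  refine ⟨?_, ?_, ?_, ?_⟩
  · intro β hβ
    obtain ⟨β', rfl⟩ := hTsurj β hβ
    obtain ⟨γ', ⟨m, hm, hpm⟩, huniq⟩ := h1 β' ((hInv β').mpr hβ)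
    refine ⟨irrPull πD hπD γ', ⟨hTrD γ', m, ?_, hpm⟩, ?_⟩
    · rw [key]; exact hm
    · rintro γ ⟨hγ, m', hm', hpm'⟩
      obtain ⟨γ'', rfl⟩ := hDsurj γ hγ
      rw [key] at hm'
      rw [huniq γ'' ⟨m', hm', hpm'⟩]
  · intro β hβ γ hγ m hm hpm
    obtain ⟨β', rfl⟩ := hTsurj β hβ
    obtain ⟨γ', rfl⟩ := hDsurj γ hγ
    rw [key] at hm
    exact h2 β' ((hInv β').mpr hβ) γ' m hm hpm
  · intro β β₁ hβ hβ₁ γ hγ m m' hm hpm hm' hpm'
    obtain ⟨β', rfl⟩ := hTsurj β hβ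
    obtain ⟨β₁', rfl⟩ := hTsurj β₁ hβ₁
    obtain ⟨γ', rfl⟩ := hDsurj γ hγ
    rw [key] at hm hm'
    rw [h3 β' β₁' ((hInv β').mpr hβ) ((hInv β₁').mpr hβ₁) γ' m m' hm hpm hm' hpm']
  · intro γ hγ
    obtain ⟨γ', rfl⟩ := hDsurj γ hγ
    obtain ⟨β', hβ', m, hm, hpm⟩ := h4 γ'
    refine ⟨irrPull πT hπT β', (hInv β').mp hβ', m, ?_, hpm⟩
    rw [key]; exact hm

/-- transferring a package along bijective correspondences preserving multiplicities -/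
theorem RelPkg.transfer (p : ℕ) {K : Type u} {C : Type v} {T : Type u'} {D : Type v'}
    [Group K] [Group C] [Fintype C] [Group T] [Group D] [Fintype D]
    (resCK : C →* K) (resDT : D →* T)
    (InvK : IrrCharacter K → Prop) (OverC : IrrCharacter C → Prop)
    (InvT : IrrCharacter T → Prop) (TrD : IrrCharacter D → Prop)
    (RK : IrrCharacter K → IrrCharacter T → Prop) (RC : IrrCharacter C → IrrCharacter D → Prop)
    (ha : ∀ χ, InvK χ → ∃ β, InvT β ∧ RK χ β)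
    (hb : ∀ β, InvT β → ∃ χ, InvK χ ∧ RK χ β)
    (hc : ∀ χ χ' β, InvK χ → InvK χ' → InvT β → RK χ β → RK χ' β → χ = χ')
    (ha' : ∀ ξ, OverC ξ → ∃ γ, TrD γ ∧ RC ξ γ)
    (hb' : ∀ γ, TrD γ → ∃ ξ, OverC ξ ∧ RC ξ γ)
    (hc' : ∀ ξ ξ' γ, OverC ξ → OverC ξ' → TrD γ → RC ξ γ → RC ξ' γ → ξ = ξ')
    (hf : ∀ χ β ξ γ, InvK χ → InvT β → OverC ξ → TrD γ → RK χ β → RC ξ γ →
      classInner (fun c : C => (χ : K → ℂ) (resCK c)) (ξ : C → ℂ) =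
        classInner (fun d : D => (β : T → ℂ) (resDT d)) (γ : D → ℂ))
    (h : RelPkg p resDT InvT TrD) : RelPkg p resCK InvK OverC := by
  obtain ⟨h1, h2, h3, h4⟩ := h
  refine ⟨?_, ?_, ?_, ?_⟩
  · intro χ hχ
    obtain ⟨β, hβ, hχβ⟩ := ha χ hχ
    obtain ⟨γ, ⟨hγ, m, hm, hpm⟩, huniq⟩ := h1 β hβ
    obtain ⟨ξ, hξ, hξγ⟩ := hb' γ hγ
    refine ⟨ξ, ⟨hξ, m, ?_, hpm⟩, ?_⟩
    · rw [hf χ β ξ γ hχ hβ hξ hγ hχβ hξγ]; exact hm
    · rintro ξ' ⟨hξ', m', hm', hpm'⟩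
      obtain ⟨γ', hγ', hξγ'⟩ := ha' ξ' hξ'
      rw [hf χ β ξ' γ' hχ hβ hξ' hγ' hχβ hξγ'] at hm'
      have := huniq γ' ⟨hγ', m', hm', hpm'⟩
      rw [this] at hξγ'
      exact hc' ξ' ξ γ hξ' hξ hγ hξγ' hξγ
  · intro χ hχ ξ hξ m hm hpm
    obtain ⟨β, hβ, hχβ⟩ := ha χ hχ
    obtain ⟨γ, hγ, hξγ⟩ := ha' ξ hξ
    rw [hf χ β ξ γ hχ hβ hξ hγ hχβ hξγ] at hm
    exact h2 β hβ γ hγ m hm hpm
  · intro χ χ' hχ hχ' ξ hξ m m' hm hpm hm' hpm'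
    obtain ⟨β, hβ, hχβ⟩ := ha χ hχ
    obtain ⟨β', hβ', hχβ'⟩ := ha χ' hχ'
    obtain ⟨γ, hγ, hξγ⟩ := ha' ξ hξ
    rw [hf χ β ξ γ hχ hβ hξ hγ hχβ hξγ] at hm
    rw [hf χ' β' ξ γ hχ' hβ' hξ hγ hχβ' hξγ] at hm'
    have := h3 β β' hβ hβ' γ hγ m m' hm hpm hm' hpm'
    rw [← this] at hχβ'
    exact hc χ χ' β hχ hχ' hβ hχβ hχβ'
  · intro ξ hξ
    obtain ⟨γ, hγ, hξγ⟩ := ha' ξ hξ
    obtain ⟨β, hβ, m, hm, hpm⟩ := h4 γ hγ
    obtain ⟨χ, hχ, hχβ⟩ := hb β hβ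
    refine ⟨χ, hχ, m, ?_, hpm⟩
    rw [hf χ β ξ γ hχ hβ hξ hγ hχβ hξγ]; exact hm

end Cfsg.Agent.Helper79.Cop
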